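import Mathlib

/-!
A group `A` acting coprimely on an abelian group `W`, and an element `y` normalising both, of period
`p` and without fixed points on `A`: if `A` moves an element of `W`, then `(w y)^p ≠ 1` for some `w`
in `W`.
-/

set_option autoImplicit false
set_option linter.style.haveILetI false

namespace Cfsg.Agent.ThreeOrders

open Subgroup

variable {G : Type*} [Group G]

/-- The product of the first `n` conjugates `yⁱ w y⁻ⁱ`, as a power. -/
theorem pow_mul_pow_eq {y w : G} (n : ℕ) :
    (w * y) ^ n = ((List.range n).map fun i => y ^ i * w * (y ^ i)⁻¹).prod * y ^ n := by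
  induction n with
  | zero => simp
  | succ n ih =>
    rw [pow_succ, ih, List.range_succ, List.map_append, List.prod_append, List.map_singleton,
      List.prod_singleton, pow_succ]
    group

/-- If `A` moves an element of `W` then the norm map of `y` is non-trivial on `W`. -/
theorem exists_pow_ne_one [Finite G] {W A : Subgroup G} {y : G} {p : ℕ}
    (hW : ∀ a ∈ W, ∀ b ∈ W, a * b = b * a)
    (hcop : (Nat.card A).Coprime (Nat.card W)) (hAW : ∀ a ∈ A, ∀ w ∈ W, a * w * a⁻¹ ∈ W)
    (hyW : ∀ w ∈ W, y * w * y⁻¹ ∈ W) (hyA : ∀ a ∈ A, y * a * y⁻¹ ∈ A) (hy : y ^ p = 1) (hp : 0 < p)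
    (hfix : ∀ i, 0 < i → i < p → ∀ a ∈ A, y ^ i * a * (y ^ i)⁻¹ = a → a = 1)
    (hmove : ∃ a ∈ A, ∃ w ∈ W, a * w ≠ w * a) : ∃ w ∈ W, (w * y) ^ p ≠ 1 := by
  classical
  by_contra hall
  push Not at hall
  have hyWi : ∀ (i : ℕ), ∀ w ∈ W, y ^ i * w * (y ^ i)⁻¹ ∈ W := by
    intro i
    induction i with
    | zero => intro w hw; simpa using hw
    | succ i ih =>
      intro w hw
      rw [show y ^ (i + 1) * w * (y ^ (i + 1))⁻¹ = y * (y ^ i * w * (y ^ i)⁻¹) * y⁻¹ by
        rw [pow_succ']; group]
      exact hyW _ (ih w hw)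
  have hyAi : ∀ (i : ℕ), ∀ a ∈ A, y ^ i * a * (y ^ i)⁻¹ ∈ A := by
    intro i
    induction i with
    | zero => intro a ha; simpa using ha
    | succ i ih =>
      intro a ha
      rw [show y ^ (i + 1) * a * (y ^ (i + 1))⁻¹ = y * (y ^ i * a * (y ^ i)⁻¹) * y⁻¹ by
        rw [pow_succ']; group]
      exact hyA _ (ih a ha)
  haveI : IsMulCommutative W := ⟨⟨fun a b => Subtype.ext (hW a a.2 b b.2)⟩⟩
  letI : CommGroup W := IsMulCommutative.instCommGroup
  haveI : Fintype A := Fintype.ofFinite _
  -- conjugation as endomorphisms of `W`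
  let c : A → W → W := fun a w => ⟨a * w * (a : G)⁻¹, hAW a a.2 w w.2⟩
  let cy : ℕ → W → W := fun i w => ⟨y ^ i * w * (y ^ i)⁻¹, hyWi i w w.2⟩
  let T : W → W := fun w => ∏ a : A, c a w
  have hnorm : ∀ w : W, ∏ i ∈ Finset.range p, cy i w = 1 := by
    intro w
    apply Subtype.ext
    have h1 := pow_mul_pow_eq (y := y) (w := (w : G)) p
    rw [hall w w.2, hy, mul_one] at h1
    have h2 : ((∏ i ∈ Finset.range p, cy i w : W) : G) =
        ((List.range p).map fun i => y ^ i * w * (y ^ i)⁻¹).prod := by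
      rw [← List.toFinset_range, List.prod_toFinset _ List.nodup_range,
        ← Subgroup.coe_subtype, map_list_prod, List.map_map]
      rfl
    rw [h2, ← h1]; rfl
  have hTfix : ∀ (a : A) (w : W), c a (T w) = T w := by
    intro a w
    let φ : W →* W :=
      { toFun := c a
        map_one' := Subtype.ext (by simp [c])
        map_mul' := fun u v => Subtype.ext (by simp [c, mul_assoc]) }
    calc c a (T w) = φ (T w) := rfl
      _ = ∏ b : A, c (a * b) w := by
        rw [map_prod]
        exact Finset.prod_congr rfl fun b _ => Subtype.ext (by simp [φ, c, mul_assoc])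
      _ = T w := Fintype.prod_equiv (Equiv.mulLeft a) _ _ fun b => rfl
  -- the swapped double product
  have key : ∀ w : W, w ^ Nat.card A = T w := by
    intro w
    have h0 : ∀ a : A, ∏ i ∈ Finset.range p, c a (cy i (c a⁻¹ w)) = 1 := by
      intro a
      let φ : W →* W :=
        { toFun := c a
          map_one' := Subtype.ext (by simp [c])
          map_mul' := fun u v => Subtype.ext (by simp [c, mul_assoc]) }
      calc ∏ i ∈ Finset.range p, c a (cy i (c a⁻¹ w))
          = φ (∏ i ∈ Finset.range p, cy i (c a⁻¹ w)) := (map_prod φ _ _).symm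
        _ = 1 := by rw [hnorm, map_one]
    have h1 : ∏ i ∈ Finset.range p, ∏ a : A, c a (cy i (c a⁻¹ w)) = 1 := by
      rw [Finset.prod_comm]; exact Finset.prod_eq_one fun a _ => h0 a
    obtain ⟨p', rfl⟩ : ∃ p', p = p' + 1 := ⟨p - 1, by omega⟩
    rw [Finset.prod_range_succ'] at h1
    have e0 : ∏ a : A, c a (cy 0 (c a⁻¹ w)) = w ^ Nat.card A := by
      rw [Nat.card_eq_fintype_card, ← Finset.card_univ]
      exact Finset.prod_eq_pow_card fun a _ => Subtype.ext (by simp [c, cy, mul_assoc])
    have e1 : ∀ i ∈ Finset.range p', ∏ a : A, c a (cy (i + 1) (c a⁻¹ w)) = T (cy (i + 1) w) := by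
      intro i hi
      let f : A → A := fun a => a * ⟨y ^ (i + 1) * (a : G)⁻¹ * (y ^ (i + 1))⁻¹,
        hyAi _ _ (inv_mem a.2)⟩
      have hf : Function.Injective f := by
        intro a b e
        have e' : (a : G) * (y ^ (i + 1) * (a : G)⁻¹ * (y ^ (i + 1))⁻¹) =
            b * (y ^ (i + 1) * (b : G)⁻¹ * (y ^ (i + 1))⁻¹) := congrArg Subtype.val e
        have h3 : y ^ (i + 1) * ((a : G)⁻¹ * b) * (y ^ (i + 1))⁻¹ = (a : G)⁻¹ * b := by
          calc y ^ (i + 1) * ((a : G)⁻¹ * b) * (y ^ (i + 1))⁻¹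
              = (a : G)⁻¹ * ((a : G) * (y ^ (i + 1) * (a : G)⁻¹ * (y ^ (i + 1))⁻¹)) *
                (y ^ (i + 1) * (b : G) * (y ^ (i + 1))⁻¹) := by group
            _ = _ := by rw [e']; group
        have h4 := hfix (i + 1) (by omega) (by have := Finset.mem_range.1 hi; omega) _
          (mul_mem (inv_mem a.2) b.2) h3
        exact Subtype.ext (inv_mul_eq_one.1 h4)
      refine Fintype.prod_bijective f (Finite.injective_iff_bijective.1 hf) _ _ fun a => Subtype.ext ?_
      simp only [c, cy, f, Subgroup.coe_mul, InvMemClass.coe_inv]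
      group
    rw [e0, Finset.prod_congr rfl e1] at h1
    let ψ : W →* W :=
      { toFun := T
        map_one' := Finset.prod_eq_one fun a _ => Subtype.ext (by simp [c])
        map_mul' := fun u v => by
          rw [← Finset.prod_mul_distrib]
          exact Finset.prod_congr rfl fun a _ => Subtype.ext (by simp [c, mul_assoc]) }
    have h2 : ∏ i ∈ Finset.range p', T (cy (i + 1) w) = (T w)⁻¹ := by
      have h3 := hnorm w
      rw [Finset.prod_range_succ', show cy 0 w = w from Subtype.ext (by simp [cy]),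
        mul_eq_one_iff_eq_inv] at h3
      calc ∏ i ∈ Finset.range p', T (cy (i + 1) w) = ψ (∏ i ∈ Finset.range p', cy (i + 1) w) :=
            (map_prod ψ _ _).symm
        _ = ψ w⁻¹ := by rw [h3]
        _ = (T w)⁻¹ := map_inv ψ w
    rw [h2] at h1
    exact (inv_mul_eq_one.1 h1).symm
  obtain ⟨a, ha, w, hw, hne⟩ := hmove
  refine hne ?_
  have hfixw : c ⟨a, ha⟩ ⟨w, hw⟩ = (⟨w, hw⟩ : W) := by
    let φ : W →* W :=
      { toFun := c ⟨a, ha⟩
        map_one' := Subtype.ext (by simp [c])
        map_mul' := fun u v => Subtype.ext (by simp [c, mul_assoc]) }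
    have h1 : φ ((⟨w, hw⟩ : W) ^ Nat.card A) = (⟨w, hw⟩ : W) ^ Nat.card A := by
      rw [key]; exact hTfix _ _
    rw [map_pow] at h1
    exact (powCoprime (G := W) (Nat.Coprime.symm hcop)).injective h1
  have := congrArg Subtype.val hfixw
  exact mul_inv_eq_iff_eq_mul.1 this

end Cfsg.Agent.ThreeOrders
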