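import Mathlib
import Cfsg.Agent.S0058
import Cfsg.Agent.S0205
import Cfsg.Agent.Lib.Cores.Basic
import Cfsg.Agent.Lib.ThreeOrders.Norm
import Cfsg.Agent.Lib.TimesPSLTwo.AffineBad

/-!
A group of odd order acting transitively on the involutions of an elementary abelian 2-group, in which
every element fixing an involution, or of order divisible by `r`, has exponent `r`.
-/

set_option autoImplicit false
set_option linter.style.haveILetI false

namespace Cfsg.Agent.ThreeOrders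

open Subgroup

/-- A power of two less one is no proper power of a prime. -/
theorem mersenne {r k m : ℕ} (hr : r.Prime) (hk : r ^ k + 1 = 2 ^ m) (hm : 2 ≤ m) : k = 1 := by
  rcases Nat.lt_or_ge k 2 with hk2 | hk2
  · rcases Nat.eq_zero_or_pos k with rfl | hk0
    · have : 2 ^ 2 ≤ 2 ^ m := Nat.pow_le_pow_right (by norm_num) hm
      simp at hk
      omega
    · omega
  exfalso
  have h4 : 4 ∣ 2 ^ m := by
    obtain ⟨j, rfl⟩ : ∃ j, m = j + 2 := ⟨m - 2, by omega⟩
    exact ⟨2 ^ j, by ring⟩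
  rcases Nat.even_or_odd k with ⟨j, hj⟩ | hodd
  · have hr2 : r % 2 = 1 := by
      rcases hr.eq_two_or_odd with rfl | h
      · exfalso
        have : 2 ∣ 2 ^ m := dvd_trans (by norm_num) h4
        have h2 : 2 ∣ 2 ^ k := dvd_pow_self 2 (by omega)
        omega
      · exact h
    have h1 : r ^ k % 4 = 1 := by
      rw [hj, ← two_mul, pow_mul, Nat.pow_mod]
      have : r ^ 2 % 4 = 1 := by
        rw [Nat.pow_mod]
        have : r % 4 = 1 ∨ r % 4 = 3 := by omega
        rcases this with e | e <;> rw [e]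
      rw [this, one_pow]
      norm_num
    omega
  · -- `(r + 1)` times an odd number greater than one
    have hdvd : r + 1 ∣ r ^ k + 1 := by simpa using hodd.nat_add_dvd_pow_add_pow r 1
    obtain ⟨a, -, ha⟩ := (Nat.dvd_prime_pow Nat.prime_two).1 (hk ▸ hdvd)
    obtain ⟨c, hc⟩ := hdvd
    have hz : ((r : ℤ) + 1) * (c : ℤ) = (r : ℤ) ^ k + 1 := by exact_mod_cast hc.symm
    have hrodd : Odd r := by
      rcases hr.eq_two_or_odd' with rfl | h
      · exfalso
        have : 2 ∣ 2 ^ m := dvd_trans (by norm_num) h4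
        have h2 : 2 ∣ 2 ^ k := dvd_pow_self 2 (by omega)
        omega
      · exact h
    -- the cofactor is a sum of an odd number of odd terms
    have hgeom : (∑ i ∈ Finset.range k, (-(r : ℤ)) ^ i) * (-(r : ℤ) - 1) = (-(r : ℤ)) ^ k - 1 :=
      geom_sum_mul _ _
    rw [hodd.neg_pow] at hgeom
    have hsum : (c : ℤ) = ∑ i ∈ Finset.range k, (-(r : ℤ)) ^ i := by
      refine mul_left_cancel₀ (show (r : ℤ) + 1 ≠ 0 by positivity) ?_
      rw [hz]
      linear_combination hgeom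
    have hcodd : Odd c := by
      have hpar : ∀ n : ℕ, Odd (∑ i ∈ Finset.range n, (-(r : ℤ)) ^ i) ↔ Odd n := by
        intro n
        induction n with
        | zero => simp
        | succ n ih =>
          rw [Finset.sum_range_succ, Int.odd_add, ih, Nat.odd_add_one, ← Int.not_odd_iff_even]
          simp [((Int.odd_coe_nat r).2 hrodd).neg.pow]
      rw [← Int.odd_coe_nat, hsum, hpar]
      exact hodd
    obtain ⟨b, -, hb⟩ := (Nat.dvd_prime_pow Nat.prime_two).1 (hk ▸ hc ▸ dvd_mul_left c (r + 1))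
    have hb0 : b = 0 := by
      by_contra hb0
      exact Nat.not_even_iff_odd.2 hcodd (hb ▸ (Nat.even_pow.2 ⟨even_two, hb0⟩))
    rw [hb, hb0, pow_zero, mul_one] at hc
    have : r ^ 1 < r ^ k := Nat.pow_lt_pow_right hr.one_lt (by omega)
    rw [pow_one] at this
    omega

variable {S : Type*} [CommGroup S] [Finite S] {X : Subgroup (MulAut S)} {r : ℕ}

/-- The hypotheses on the action. -/
structure Act (X : Subgroup (MulAut S)) (r : ℕ) : Prop where
  prime : r.Prime
  ne_two : r ≠ 2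
  odd : Odd (Nat.card X)
  sq : ∀ s : S, s * s = 1
  four : 4 ≤ Nat.card S
  trans : ∀ s t : S, s ≠ 1 → t ≠ 1 → ∃ x ∈ X, x s = t
  fix : ∀ x ∈ X, ∀ s : S, s ≠ 1 → x s = s → x ^ r = 1
  r_pow : ∀ x ∈ X, r ∣ orderOf x → x ^ r = 1

/-- The regular case with a normal `r'`-subgroup `C`. -/
structure Act.Split (X : Subgroup (MulAut S)) (r : ℕ) (C : Subgroup (MulAut S)) : Prop where
  le : C ≤ X
  conj : ∀ x ∈ X, ∀ c ∈ C, x * c * x⁻¹ ∈ C
  not_dvd : ¬ r ∣ Nat.card C
  card : Nat.card C + 1 = Nat.card S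
  free : ∀ c ∈ C, ∀ s : S, s ≠ 1 → c s = s → c = 1
  index : Nat.card X = Nat.card C ∨ (Nat.card X = r * Nat.card C ∧
    ∀ x ∈ X, x ≠ 1 → x ^ r = 1 → ∃ s : S, s ≠ 1 ∧ ∀ u : S, x u = u → u = 1 ∨ u = s)

namespace Act

variable (h : Act X r)

include h

theorem kill {A : Subgroup (MulAut S)} (hA : A ≤ X) {y : MulAut S} {p : ℕ} (hy : y ^ p = 1) (hp : 0 < p)
    (hyA : ∀ a ∈ A, y * a * y⁻¹ ∈ A)
    (hfixA : ∀ i, 0 < i → i < p → ∀ a ∈ A, y ^ i * a * (y ^ i)⁻¹ = a → a = 1)
    (hfree : ∀ s : S, y s = s → s = 1) : A = ⊥ := by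
  classical
  rw [Subgroup.eq_bot_iff_forall]
  intro a ha
  by_contra ha1
  let φ : MulAut S →* MulAut S := MonoidHom.id _
  let i : S →* S ⋊[φ] MulAut S := SemidirectProduct.inl
  let j : MulAut S →* S ⋊[φ] MulAut S := SemidirectProduct.inr
  have hij : ∀ (x : MulAut S) (s : S), j x * i s * (j x)⁻¹ = i (x s) := fun x s => by
    rw [← map_inv]; exact (SemidirectProduct.inl_aut x s).symm
  haveI : Finite (MulAut S) := Finite.of_injective (fun x : MulAut S => (x : S → S)) DFunLike.coe_injective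
  haveI : Finite (S ⋊[φ] MulAut S) := Finite.of_equiv _ SemidirectProduct.equivProd.symm
  have hex : ∃ s : S, a s ≠ s := by
    by_contra hall
    push Not at hall
    exact ha1 (MulEquiv.ext hall)
  obtain ⟨s, hs⟩ := hex
  have hcop : (Nat.card (A.map j)).Coprime (Nat.card i.range) := by
    rw [card_map_of_injective SemidirectProduct.inr_injective,
      ← Nat.card_congr (MonoidHom.ofInjective (f := i) SemidirectProduct.inl_injective).toEquiv]
    haveI : Fact (Nat.Prime 2) := ⟨Nat.prime_two⟩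
    obtain ⟨k, hk⟩ := (IsPGroup.iff_card (p := 2) (G := S)).1 fun s => ⟨1, by rw [pow_one, pow_two, h.sq]⟩
    rw [hk]
    exact (Nat.coprime_two_right.2 (h.odd.of_dvd_nat (card_dvd_of_le hA))).pow_right k
  obtain ⟨w, ⟨v, rfl⟩, hne⟩ := exists_pow_ne_one (W := i.range) (A := A.map j) (y := j y) (p := p)
    (by rintro _ ⟨u, rfl⟩ _ ⟨v, rfl⟩; rw [← map_mul, ← map_mul, mul_comm]) hcop
    (by rintro _ ⟨b, -, rfl⟩ _ ⟨u, rfl⟩; exact ⟨b u, (hij b u).symm⟩)
    (by rintro _ ⟨u, rfl⟩; exact ⟨y u, (hij y u).symm⟩)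
    (by rintro _ ⟨b, hb, rfl⟩; exact ⟨y * b * y⁻¹, hyA b hb, by simp⟩)
    (by rw [← map_pow, hy, map_one]) hp
    (by
      rintro n hn hnp _ ⟨b, hb, rfl⟩ e
      rw [← map_pow, ← map_inv, ← map_mul, ← map_mul] at e
      rw [hfixA n hn hnp b hb (SemidirectProduct.inr_injective e), map_one])
    ⟨j a, ⟨a, ha, rfl⟩, i s, ⟨s, rfl⟩, fun e => hs (SemidirectProduct.inl_injective (φ := φ) (by
      show i (a s) = i s
      rw [← hij, e, mul_inv_cancel_right]))⟩
  apply hne
  have hmem : ∀ n, ((List.range n).map fun k => j y ^ k * i v * (j y ^ k)⁻¹).prod ∈ i.range := fun n =>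
    list_prod_mem fun x hx => by
      obtain ⟨k, -, rfl⟩ := List.mem_map.1 hx
      exact ⟨(y ^ k) v, by rw [← map_pow, hij]⟩
  obtain ⟨N, hN⟩ : (i v * j y) ^ p ∈ i.range := by
    rw [pow_mul_pow_eq, ← map_pow, hy, map_one, mul_one]; exact hmem p
  have hcomm : i v * j y * ((i v * j y) ^ p) = (i v * j y) ^ p * (i v * j y) := (Commute.self_pow _ _).eq
  rw [← hN] at hcomm ⊢
  have h1 : i (y N) = i N := by
    have h2 : i v * i N = i N * i v := by rw [← map_mul, ← map_mul, mul_comm]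
    rw [← hij]
    calc j y * i N * (j y)⁻¹ = (i v)⁻¹ * (i v * j y * i N) * (j y)⁻¹ := by group
      _ = (i v)⁻¹ * (i N * (i v * j y)) * (j y)⁻¹ := by rw [hcomm]
      _ = (i v)⁻¹ * (i N * i v) := by group
      _ = (i v)⁻¹ * (i v * i N) := by rw [h2]
      _ = i N := inv_mul_cancel_left _ _
  rw [hfree N (SemidirectProduct.inl_injective h1), map_one]

omit h in
theorem finite_aut : Finite (MulAut S) :=
  Finite.of_injective (fun x : MulAut S => (x : S → S)) DFunLike.coe_injective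

theorem orderOf_eq {x : MulAut S} (hx : x ^ r = 1) (hne : x ≠ 1) : orderOf x = r :=
  haveI : Fact r.Prime := ⟨h.prime⟩
  orderOf_eq_prime hx hne

theorem free_of_prime {y : MulAut S} (hy : y ∈ X) {p : ℕ} (hp : p.Prime) (hpr : p ≠ r) (ho : orderOf y = p)
    (s : S) (hs : y s = s) : s = 1 := by
  by_contra hs1
  have := orderOf_dvd_of_pow_eq_one (h.fix y hy s hs1 hs)
  rw [ho] at this
  exact hpr ((Nat.prime_dvd_prime_iff_eq hp h.prime).1 this)

theorem commute_r {a b : MulAut S} (ha : a ∈ X) (hb : b ∈ X) (har : a ^ r = 1) {n : ℕ}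
    (hb1 : b ^ n = 1) (hco : Nat.Coprime r n) (hc : Commute a b) : a = 1 ∨ b = 1 := by
  by_cases ha1 : a = 1
  · exact Or.inl ha1
  right
  have ho := h.orderOf_eq har ha1
  have hco' : (orderOf a).Coprime (orderOf b) :=
    ho ▸ Nat.Coprime.coprime_dvd_right (orderOf_dvd_of_pow_eq_one hb1) hco
  have hd : r ∣ orderOf (a * b) := by
    rw [hc.orderOf_mul_eq_mul_orderOf_of_coprime hco', ho]; exact dvd_mul_right _ _
  have h1 := h.r_pow _ (mul_mem ha hb) hd
  rw [hc.mul_pow, har, one_mul] at h1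
  have h2 := pow_gcd_eq_one.2 ⟨h1, hb1⟩
  rwa [hco.gcd_eq_one, pow_one] at h2

omit h in
theorem eq_one_of_fixes_all {x : MulAut S} (hx : ∀ u : S, u ≠ 1 → x u = u) : x = 1 :=
  MulEquiv.ext fun u => by
    by_cases hu : u = 1
    · simp [hu]
    · exact hx u hu

omit h in
theorem card_ne_one : Nat.card {t : S // t ≠ 1} + 1 = Nat.card S := by
  classical
  haveI : Fintype S := Fintype.ofFinite S
  rw [Nat.card_eq_fintype_card, Nat.card_eq_fintype_card, Fintype.card_subtype_compl,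
    Fintype.card_subtype_eq]
  have := Fintype.card_pos (α := S)
  omega

omit h in
theorem regular_card {H : Subgroup (MulAut S)} {s₀ : S} (hs₀ : s₀ ≠ 1)
    (htr : ∀ t : S, t ≠ 1 → ∃ x ∈ H, x s₀ = t) (hreg : ∀ x ∈ H, x s₀ = s₀ → x = 1) :
    Nat.card H + 1 = Nat.card S := by
  let f : H → {t : S // t ≠ 1} := fun x =>
    ⟨(x : MulAut S) s₀, (map_ne_one_iff _ (MulEquiv.injective _)).2 hs₀⟩
  have hf : Function.Surjective f := fun t => by
    obtain ⟨x, hx, e⟩ := htr t t.2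
    exact ⟨⟨x, hx⟩, Subtype.ext e⟩
  have hinj : Function.Injective f := fun a b e => by
    have e' : (a : MulAut S) s₀ = (b : MulAut S) s₀ := congrArg Subtype.val e
    have : ((b : MulAut S)⁻¹ * a : MulAut S) = 1 := hreg _ (mul_mem (inv_mem b.2) a.2) (by
      rw [MulAut.mul_apply, e', MulAut.inv_apply_self])
    exact Subtype.ext (inv_mul_eq_one.1 this).symm
  rw [Nat.card_eq_of_bijective f ⟨hinj, hf⟩, card_ne_one]

theorem exp_r {H : Subgroup (MulAut S)} (hH : H ≤ X) (hp : IsPGroup r H) {a : MulAut S} (ha : a ∈ H) :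
    a ^ r = 1 := by
  by_cases ha1 : a = 1
  · rw [ha1, one_pow]
  obtain ⟨k, hk⟩ := hp ⟨a, ha⟩
  obtain ⟨j, -, hj⟩ := (Nat.dvd_prime_pow h.prime).1
    (orderOf_dvd_of_pow_eq_one (show a ^ r ^ k = 1 by simpa using congrArg Subtype.val hk))
  refine h.r_pow a (hH ha) (hj ▸ dvd_pow_self r fun j0 => ha1 ?_)
  rwa [j0, pow_zero, orderOf_eq_one_iff] at hj

omit h in
theorem pow_card_mem {H : Subgroup (MulAut S)} {a : MulAut S} (ha : a ∈ H) : a ^ Nat.card H = 1 :=
  orderOf_dvd_iff_pow_eq_one.1 (H.orderOf_dvd_natCard ha)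

theorem prime_elt {P : Subgroup (MulAut S)} (hP : P ≤ X) (hPr : IsPGroup r P) {y : MulAut S} (hyX : y ∈ X)
    {p : ℕ} (hp : p.Prime) (hpr : p ≠ r) (hy : orderOf y = p) (hyP : ∀ a ∈ P, y * a * y⁻¹ ∈ P) :
    P = ⊥ := by
  refine h.kill hP (by rw [← hy, pow_orderOf_eq_one]) hp.pos hyP
    (fun i hi hip a ha hfix => ?_) fun s hs => h.free_of_prime hyX hp hpr hy s hs
  rcases h.commute_r (hP ha) (pow_mem hyX i) (h.exp_r hP hPr ha) (n := p)
    (by rw [← pow_mul, mul_comm, pow_mul, ← hy, pow_orderOf_eq_one, one_pow])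
    ((Nat.coprime_primes h.prime hp).2 (Ne.symm hpr))
    (mul_inv_eq_iff_eq_mul.1 hfix).symm with e | e
  · exact e
  · exfalso
    have h1 := orderOf_dvd_of_pow_eq_one e
    rw [hy] at h1
    exact Nat.not_dvd_of_pos_of_lt hi hip h1

/-- A normal `r`-subgroup: `X` has order `r`. -/
theorem of_normal_r {F : Subgroup (MulAut S)} (hFX : F ≤ X) (hFr : IsPGroup r F)
    (hFn : ∀ x ∈ X, ∀ a ∈ F, x * a * x⁻¹ ∈ F) (hF1 : F ≠ ⊥) : Nat.card X = r ∧ Nat.card S = r + 1 := by
  classical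
  haveI := finite_aut (S := S)
  haveI : Fact r.Prime := ⟨h.prime⟩
  obtain ⟨s₀, hs₀⟩ : ∃ s : S, s ≠ 1 := by
    haveI : Nontrivial S := Finite.one_lt_card_iff_nontrivial.1 (by have := h.four; omega)
    exact exists_ne 1
  have hXr : IsPGroup r X := by
    refine IsPGroup.of_card (n := (Nat.card X).primeFactorsList.length)
      (Nat.eq_prime_pow_of_unique_prime_dvd Nat.card_pos.ne' fun {p} hp hpd => ?_)
    by_contra hpr
    haveI : Fact p.Prime := ⟨hp⟩
    obtain ⟨y, hy⟩ := exists_prime_orderOf_dvd_card' p hpd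
    rw [← Subgroup.orderOf_coe] at hy
    exact hF1 (h.prime_elt hFX hFr y.2 hp hpr hy (hFn y y.2))
  haveI : Nontrivial X :=
    (Subgroup.nontrivial_iff_ne_bot X).2 fun e => hF1 (le_bot_iff.1 (e ▸ hFX))
  haveI := hXr.center_nontrivial
  obtain ⟨⟨z, hz⟩, hz1⟩ := exists_ne (1 : center X)
  have hzc : ∀ x ∈ X, x * (z : MulAut S) = z * x := fun x hx =>
    congrArg Subtype.val (mem_center_iff.1 hz ⟨x, hx⟩)
  have hzfree : ∀ u : S, u ≠ 1 → (z : MulAut S) u ≠ u := by
    intro u hu e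
    apply hz1
    refine Subtype.ext (Subtype.ext (eq_one_of_fixes_all fun t ht => ?_))
    obtain ⟨x, hx, rfl⟩ := h.trans u t hu ht
    have := DFunLike.congr_fun (hzc x hx) u
    rw [MulAut.mul_apply, MulAut.mul_apply, e] at this
    exact this.symm
  -- the orbit has prime-power length
  let : MulAction X S := MulAction.compHom S X.subtype
  obtain ⟨a, ha⟩ := hXr.exists_card_eq
  have horb : MulAction.orbit X s₀ = {t : S | t ≠ 1} := by
    ext t
    constructor
    · rintro ⟨x, rfl⟩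
      exact (map_ne_one_iff _ (MulEquiv.injective _)).2 hs₀
    · intro ht
      obtain ⟨x, hx, e⟩ := h.trans s₀ t hs₀ ht
      exact ⟨⟨x, hx⟩, e⟩
  have hc1 : Nat.card (MulAction.orbit X s₀) + 1 = Nat.card S := by
    rw [horb]; exact card_ne_one
  have hc2 : Nat.card (MulAction.orbit X s₀) ∣ r ^ a := by
    rw [← ha]
    exact ⟨_, (Nat.card_congr (MulAction.orbitProdStabilizerEquivGroup X s₀)).symm.trans (Nat.card_prod _ _)⟩
  obtain ⟨k, -, hk⟩ := (Nat.dvd_prime_pow h.prime).1 hc2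
  obtain ⟨m, hm⟩ := (IsPGroup.iff_card (p := 2) (G := S)).1 fun s => ⟨1, by rw [pow_one, pow_two, h.sq]⟩
  have hm2 : 2 ≤ m := by
    by_contra hlt
    have h4 := h.four
    rw [hm] at h4
    have : 2 ^ m ≤ 2 ^ 1 := Nat.pow_le_pow_right (by norm_num) (by omega)
    omega
  have hk1 : k = 1 := mersenne h.prime (by rw [← hk, hc1, hm]) hm2
  rw [hk, hk1, pow_one] at hc1
  refine ⟨?_, hc1.symm⟩
  have hstab : ∀ x ∈ X, (x : MulAut S) s₀ = s₀ → x = 1 := by
    intro x hx hxs
    refine eq_one_of_fixes_all fun t ht => ?_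
    -- every involution is a power of `z` applied to `s₀`
    have hzr : (z : MulAut S) ^ r = 1 := h.exp_r le_rfl hXr z.2
    have hzord : orderOf (z : MulAut S) = r :=
      h.orderOf_eq hzr fun e => hz1 (Subtype.ext (Subtype.ext e))
    let f : Fin r → {u : S // u ≠ 1} := fun i =>
      ⟨((z : MulAut S) ^ (i : ℕ)) s₀, (map_ne_one_iff _ (MulEquiv.injective _)).2 hs₀⟩
    have hf : Function.Injective f := by
      intro i j e
      have e' : ((z : MulAut S) ^ (i : ℕ)) s₀ = ((z : MulAut S) ^ (j : ℕ)) s₀ := congrArg Subtype.val e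
      by_contra hij
      wlog hlt : (i : ℕ) < j generalizing i j
      · exact this e.symm e'.symm (Ne.symm hij) (by have := Fin.val_ne_of_ne hij; omega)
      have h1 : ((z : MulAut S) ^ ((j : ℕ) - i)) s₀ = s₀ := by
        have h2 : ((z : MulAut S) ^ (j : ℕ)) = (z : MulAut S) ^ (i : ℕ) * (z : MulAut S) ^ ((j : ℕ) - i) := by
          rw [← pow_add]; congr 1; omega
        rw [h2, MulAut.mul_apply] at e'
        exact ((MulEquiv.injective _) e').symm
      obtain ⟨l, hl⟩ := exists_pow_eq_self_of_coprime (x := (z : MulAut S)) (n := (j : ℕ) - i) (by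
        rw [hzord]
        exact ((Nat.Prime.coprime_iff_not_dvd h.prime).2
          (Nat.not_dvd_of_pos_of_lt (by omega) (by have := j.2; omega))).symm)
      refine hzfree s₀ hs₀ ?_
      rw [← hl]
      clear hl
      induction l with
      | zero => simp
      | succ l ih => rw [pow_succ, MulAut.mul_apply, h1, ih]
    have hcard : Nat.card {u : S // u ≠ 1} = r := by
      have := card_ne_one (S := S)
      omega
    obtain ⟨i, hi⟩ := ((Nat.bijective_iff_injective_and_card f).2 ⟨hf, by rw [Nat.card_fin, hcard]⟩).2 ⟨t, ht⟩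
    have hi' : ((z : MulAut S) ^ (i : ℕ)) s₀ = t := congrArg Subtype.val hi
    rw [← hi', ← MulAut.mul_apply, ((show Commute x (z : MulAut S) from hzc x hx).pow_right _).eq,
      MulAut.mul_apply, hxs]
  have := regular_card hs₀ (fun t ht => h.trans s₀ t hs₀ ht) hstab
  omega

/-- Without normal `r`-subgroups there is a normal `r'`-subgroup. -/
theorem exists_pPrime_normal
    (hF : ∀ F : Subgroup (MulAut S), F ≤ X → IsPGroup r F → (∀ x ∈ X, ∀ a ∈ F, x * a * x⁻¹ ∈ F) → F = ⊥) :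
    ∃ N : Subgroup (MulAut S), N ≠ ⊥ ∧ N ≤ X ∧ (Nat.card N).Coprime r ∧
      ∀ x ∈ X, ∀ a ∈ N, x * a * x⁻¹ ∈ N := by
  classical
  haveI := finite_aut (S := S)
  haveI : Fact r.Prime := ⟨h.prime⟩
  haveI : Fintype S := Fintype.ofFinite S
  have hsol : Group.IsSolvable X := Cfsg.Agent.S0205.result h.odd
  haveI : Nontrivial X := by
    refine (Subgroup.nontrivial_iff_ne_bot X).2 fun eX => ?_
    obtain ⟨s, hs⟩ : ∃ s : S, s ≠ 1 := by
      haveI : Nontrivial S := Finite.one_lt_card_iff_nontrivial.1 (by have := h.four; omega)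
      exact exists_ne 1
    obtain ⟨t, ht, hts⟩ : ∃ t : S, t ≠ 1 ∧ t ≠ s := by
      by_contra hall
      push Not at hall
      have : Fintype.card S ≤ ({1, s} : Finset S).card := Finset.card_le_card fun u _ => by
        rw [Finset.mem_insert, Finset.mem_singleton]
        by_cases hu : u = 1
        exacts [Or.inl hu, Or.inr (hall u hu)]
      have h4 := h.four
      rw [Nat.card_eq_fintype_card] at h4
      have : ({1, s} : Finset S).card ≤ 2 := Finset.card_le_two
      omega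
    obtain ⟨x, hx, hxe⟩ := h.trans s t hs ht
    rw [eX, mem_bot] at hx
    rw [hx] at hxe
    exact hts hxe.symm
  obtain ⟨B, hBn, hB1, hBc⟩ := TimesPSLTwo.Affine.exists_abelian_normal (G := X) hsol
  refine ⟨B.map X.subtype, fun e => hB1 ((map_eq_bot_iff_of_injective _ X.subtype_injective).1 e),
    map_subtype_le _, ?_, ?_⟩
  · rw [card_map_of_injective X.subtype_injective, Nat.coprime_comm, Nat.Prime.coprime_iff_not_dvd h.prime]
    intro hd
    obtain ⟨b, hb⟩ := exists_prime_orderOf_dvd_card' r hd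
    rw [← Subgroup.orderOf_coe] at hb
    -- the elements of exponent `r` of `B` form a normal `r`-subgroup
    let D : Subgroup X :=
      { carrier := {x | x ∈ B ∧ x ^ r = 1}
        one_mem' := ⟨one_mem B, one_pow r⟩
        mul_mem' := fun {a b} ha hb => ⟨mul_mem ha.1 hb.1, by
          rw [(show Commute a b from hBc a ha.1 b hb.1).mul_pow, ha.2, hb.2, one_mul]⟩
        inv_mem' := fun {a} ha => ⟨inv_mem ha.1, by rw [inv_pow, ha.2, inv_one]⟩ }
    have hD : D.map X.subtype = ⊥ := by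
      refine hF _ (map_subtype_le _) (IsPGroup.map (fun x => ⟨1, Subtype.ext (by simpa using x.2.2)⟩) _) ?_
      rintro x hx _ ⟨a, ha, rfl⟩
      exact ⟨⟨x, hx⟩ * a * ⟨x, hx⟩⁻¹, ⟨hBn.conj_mem a ha.1 _, by rw [conj_pow, ha.2]; group⟩, rfl⟩
    have : (b : X) ∈ D := ⟨b.2, by rw [← hb, pow_orderOf_eq_one]⟩
    rw [(map_eq_bot_iff_of_injective _ X.subtype_injective).1 hD, mem_bot] at this
    rw [this, orderOf_one] at hb
    exact h.prime.ne_one hb.symm
  · rintro x hx _ ⟨a, ha, rfl⟩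
    exact ⟨⟨x, hx⟩ * a * ⟨x, hx⟩⁻¹, hBn.conj_mem a ha _, rfl⟩

section
variable {N : Subgroup (MulAut S)} (hN1 : N ≠ ⊥) (hNX : N ≤ X) (hNcop : (Nat.card N).Coprime r)
  (hNn : ∀ x ∈ X, ∀ a ∈ N, x * a * x⁻¹ ∈ N)
include hN1 hNX hNcop hNn

theorem rank_one {R : Subgroup (MulAut S)} (hRX : R ≤ X) (hRr : IsPGroup r R) : Nat.card R ≤ r := by
  haveI := finite_aut (S := S)
  haveI : Fact r.Prime := ⟨h.prime⟩
  by_contra hlt
  obtain ⟨n, hn⟩ := hRr.exists_card_eq
  have hn2 : 2 ≤ n := by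
    by_contra hn2
    have : r ^ n ≤ r ^ 1 := Nat.pow_le_pow_right h.prime.pos (by omega)
    rw [pow_one, ← hn] at this
    omega
  obtain ⟨E, hE⟩ := Sylow.exists_subgroup_card_pow_prime (G := R) r (n := 2) (hn ▸ pow_dvd_pow r hn2)
  set E' := E.map R.subtype with hE'
  have hE'R : E' ≤ R := map_subtype_le _
  have hE'c : Nat.card E' = r ^ 2 := by rw [card_map_of_injective R.subtype_injective, hE]
  haveI : IsMulCommutative E' :=
    ⟨⟨fun a b => IsPGroup.commutative_of_card_eq_prime_sq hE'c a b⟩⟩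
  have hnc : ¬ IsCyclic E' := fun hc => by
    obtain ⟨g, hg⟩ := IsCyclic.exists_ofOrder_eq_natCard (α := E')
    have h1 : orderOf g ∣ r := orderOf_dvd_of_pow_eq_one
      (Subtype.ext (by simpa using h.exp_r hRX hRr (hE'R g.2)))
    rw [hg, hE'c] at h1
    have := Nat.le_of_dvd h.prime.pos h1
    have := h.prime.one_lt
    nlinarith
  have hcop : (Nat.card E').Coprime (Nat.card N) := by
    rw [hE'c]; exact hNcop.symm.pow_left 2
  have hgen := Cfsg.Agent.S0058.result E' N hnc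
    (fun a ha => mem_normalizer_iff.2 fun x => ⟨hNn a (hRX (hE'R ha)) x, fun hx => by
      have := hNn a⁻¹ (inv_mem (hRX (hE'R ha))) _ hx
      simpa [mul_assoc] using this⟩) hcop
  apply hN1
  rw [← hgen]
  refine le_bot_iff.1 (iSup₂_le fun a ha c hc => ?_)
  obtain ⟨hcN, hca⟩ := hc
  rcases h.commute_r (hRX (hE'R ha.1)) (hNX hcN) (h.exp_r hRX hRr (hE'R ha.1))
    (pow_card_mem hcN) hNcop.symm (mem_centralizer_singleton_iff.1 hca).symm with e | e
  · exact absurd e ha.2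
  · exact Subgroup.mem_bot.2 e

/-- Each element of order `r` fixes an involution. -/
theorem r_fixes {x : MulAut S} (hx : x ∈ X) (hx1 : x ≠ 1) (hxr : x ^ r = 1) :
    ∃ s : S, s ≠ 1 ∧ x s = s := by
  by_contra hno
  push Not at hno
  refine hN1 (h.kill hNX hxr h.prime.pos (fun a ha => hNn x hx a ha) (fun i hi hir a ha hfix => ?_)
    fun s hs => by_contra fun hs1 => hno s hs1 hs)
  rcases h.commute_r (pow_mem hx i) (hNX ha) (by rw [← pow_mul, mul_comm, pow_mul, hxr, one_pow])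
    (pow_card_mem ha) hNcop.symm (mul_inv_eq_iff_eq_mul.1 hfix) with e | e
  · exfalso
    have h1 := orderOf_dvd_of_pow_eq_one e
    rw [h.orderOf_eq hxr hx1] at h1
    exact Nat.not_dvd_of_pos_of_lt hi hir h1
  · exact e

end

theorem normalizer_le {R₀ : Sylow r X} (hR1 : (R₀ : Subgroup X) ≠ ⊥) :
    normalizer ((R₀ : Subgroup X) : Set X) ≤ (R₀ : Subgroup X) := by
  haveI := finite_aut (S := S)
  haveI : Fact r.Prime := ⟨h.prime⟩
  set M₀ := normalizer ((R₀ : Subgroup X) : Set X)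
  suffices hp : IsPGroup r M₀ by
    exact (R₀.is_maximal' hp le_normalizer).le
  refine IsPGroup.of_card (n := (Nat.card M₀).primeFactorsList.length)
    (Nat.eq_prime_pow_of_unique_prime_dvd Nat.card_pos.ne' fun {p} hp hpd => ?_)
  by_contra hpr
  haveI : Fact p.Prime := ⟨hp⟩
  obtain ⟨y, hy⟩ := exists_prime_orderOf_dvd_card' p hpd
  rw [← Subgroup.orderOf_coe, ← Subgroup.orderOf_coe] at hy
  refine hR1 ((map_eq_bot_iff_of_injective _ X.subtype_injective).1
    (h.prime_elt (map_subtype_le _) (R₀.isPGroup'.map _) (y : X).2 hp hpr hy ?_))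
  rintro _ ⟨a, ha, rfl⟩
  exact ⟨(y : X) * a * (y : X)⁻¹, (mem_normalizer_iff.1 y.2 a).1 ha, rfl⟩

/-- The classification of the action. -/
theorem cases : (Nat.card X = r ∧ Nat.card S = r + 1) ∨ ∃ C, Act.Split X r C := by
  classical
  haveI := finite_aut (S := S)
  haveI : Fact r.Prime := ⟨h.prime⟩
  by_cases hF : ∀ F : Subgroup (MulAut S), F ≤ X → IsPGroup r F →
      (∀ x ∈ X, ∀ a ∈ F, x * a * x⁻¹ ∈ F) → F = ⊥
  swap
  · push Not at hF
    obtain ⟨F, hFX, hFr, hFn, hF1⟩ := hF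
    exact Or.inl (h.of_normal_r hFX hFr hFn hF1)
  right
  obtain ⟨N, hN1, hNX, hNcop, hNn⟩ := h.exists_pPrime_normal hF
  obtain ⟨s₀, hs₀⟩ : ∃ s : S, s ≠ 1 := by
    haveI : Nontrivial S := Finite.one_lt_card_iff_nontrivial.1 (by have := h.four; omega)
    exact exists_ne 1
  obtain ⟨R₀⟩ : Nonempty (Sylow r X) := inferInstance
  by_cases hR1 : (R₀ : Subgroup X) = ⊥
  · -- no `r`-elements: `X` is regular
    have hnd : ¬ r ∣ Nat.card X := fun hd => R₀.ne_bot_of_dvd_card hd hR1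
    have hfree : ∀ c ∈ X, ∀ s : S, s ≠ 1 → c s = s → c = 1 := by
      intro c hc s hs e
      by_contra hc1
      exact hnd ((h.orderOf_eq (h.fix c hc s hs e) hc1) ▸ X.orderOf_dvd_natCard hc)
    exact ⟨X, le_rfl, fun x hx c hc => mul_mem (mul_mem hx hc) (inv_mem hx), hnd,
      regular_card hs₀ (fun t ht => h.trans s₀ t hs₀ ht) fun x hx e => hfree x hx s₀ hs₀ e,
      hfree, Or.inl rfl⟩
  set R := (R₀ : Subgroup X).map X.subtype with hR
  have hRX : R ≤ X := map_subtype_le _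
  have hRr : IsPGroup r R := R₀.isPGroup'.map _
  have hRc₀ : Nat.card (R₀ : Subgroup X) = r := by
    obtain ⟨n, hn⟩ := R₀.isPGroup'.exists_card_eq
    have hle := h.rank_one hN1 hNX hNcop hNn hRX hRr
    rw [card_map_of_injective X.subtype_injective] at hle
    rcases Nat.lt_trichotomy n 1 with hn1 | hn1 | hn1
    · exfalso
      rw [show n = 0 by omega, pow_zero] at hn
      exact hR1 (Subgroup.card_eq_one.1 hn)
    · rw [hn, hn1, pow_one]
    · exfalso
      have : r ^ 1 < r ^ n := Nat.pow_lt_pow_right h.prime.one_lt hn1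
      rw [pow_one, ← hn] at this
      omega
  haveI : IsCyclic (R₀ : Subgroup X) := isCyclic_of_prime_card hRc₀
  have hnorm : normalizer ((R₀ : Subgroup X) : Set X) ≤ centralizer ((R₀ : Subgroup X) : Set X) :=
    (h.normalizer_le hR1).trans fun a ha => mem_centralizer_iff.2 fun b hb =>
      congrArg Subtype.val (IsCyclic.commGroup.mul_comm (⟨b, hb⟩ : (R₀ : Subgroup X)) ⟨a, ha⟩)
  obtain ⟨C₀, hC₀n, hcompl⟩ : ∃ C₀ : Subgroup X, C₀.Normal ∧ C₀.IsComplement' (R₀ : Subgroup X) :=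
    ⟨_, MonoidHom.normal_ker _, MonoidHom.ker_transferSylow_isComplement' R₀ hnorm⟩
  have hC₀c : Nat.card C₀ = (R₀ : Subgroup X).index := hcompl.index_eq_card.symm
  set C := C₀.map X.subtype with hC
  have hCcard : Nat.card C * r = Nat.card X := by
    rw [card_map_of_injective X.subtype_injective, ← hRc₀]
    exact hcompl.card_mul_card
  have hCnd : ¬ r ∣ Nat.card C := by
    rw [card_map_of_injective X.subtype_injective, hC₀c]
    exact R₀.not_dvd_index
  have hCX : C ≤ X := map_subtype_le _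
  have hfree : ∀ c ∈ C, ∀ s : S, s ≠ 1 → c s = s → c = 1 := by
    intro c hc s hs e
    by_contra hc1
    exact hCnd ((h.orderOf_eq (h.fix c (hCX hc) s hs e) hc1) ▸ C.orderOf_dvd_natCard hc)
  have hCn : ∀ x ∈ X, ∀ c ∈ C, x * c * x⁻¹ ∈ C := by
    rintro x hx _ ⟨c, hc, rfl⟩
    exact ⟨⟨x, hx⟩ * c * ⟨x, hx⟩⁻¹, hC₀n.conj_mem c hc ⟨x, hx⟩, rfl⟩
  -- an element of `R` fixes `s₁`; then `C` is transitive
  obtain ⟨x₁, hx₁, hx₁1⟩ := (Subgroup.bot_or_exists_ne_one (R₀ : Subgroup X)).resolve_left hR1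
  have hx₁r : (x₁ : MulAut S) ^ r = 1 := h.exp_r hRX hRr ⟨x₁, hx₁, rfl⟩
  have hx₁1' : (x₁ : MulAut S) ≠ 1 := fun e => hx₁1 (Subtype.ext e)
  obtain ⟨s₁, hs₁, hxs₁⟩ := h.r_fixes hN1 hNX hNcop hNn x₁.2 hx₁1' hx₁r
  have hR₁ : ∀ a ∈ (R₀ : Subgroup X), (a : MulAut S) s₁ = s₁ := by
    intro a ha
    obtain ⟨i, e⟩ : ∃ i : ℕ, a = x₁ ^ i := by
      have : zpowers x₁ = (R₀ : Subgroup X) := Subgroup.eq_of_le_of_card_ge (zpowers_le.2 hx₁) (by
        rw [hRc₀, Nat.card_zpowers, ← Subgroup.orderOf_coe, h.orderOf_eq hx₁r hx₁1'])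
      obtain ⟨i, hi⟩ := mem_powers_iff_mem_zpowers.2 (this ▸ ha)
      exact ⟨i, hi.symm⟩
    rw [e, SubmonoidClass.coe_pow]
    clear e
    induction i with
    | zero => simp
    | succ i ih => rw [pow_succ, MulAut.mul_apply, hxs₁, ih]
  have htrC : ∀ t : S, t ≠ 1 → ∃ c ∈ C, c s₁ = t := by
    intro t ht
    obtain ⟨x, hx, e⟩ := h.trans s₁ t hs₁ ht
    obtain ⟨⟨c, a⟩, hca⟩ := hcompl.2 ⟨x, hx⟩
    refine ⟨_, ⟨c.1, c.2, rfl⟩, ?_⟩
    have hx' : ((c.1 : X) : MulAut S) * ((a.1 : X) : MulAut S) = x := congrArg Subtype.val hca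
    rw [← hx', MulAut.mul_apply, hR₁ _ a.2] at e
    exact e
  have hcardC : Nat.card C + 1 = Nat.card S := regular_card hs₁ htrC fun c hc e => hfree c hc s₁ hs₁ e
  refine ⟨C, hCX, hCn, hCnd, hcardC, hfree, Or.inr ⟨by rw [← hCcard, mul_comm], ?_⟩⟩
  intro x hx hx1 hxr
  obtain ⟨s, hs, hxs⟩ := h.r_fixes hN1 hNX hNcop hNn hx hx1 hxr
  refine ⟨s, hs, fun u hu => ?_⟩
  by_cases hu1 : u = 1
  · exact Or.inl hu1
  right
  obtain ⟨c1, hc1, e1⟩ := htrC s hs
  obtain ⟨c2, hc2, e2⟩ := htrC u hu1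
  set c := c2 * c1⁻¹ with hc
  have hcC : c ∈ C := mul_mem hc2 (inv_mem hc1)
  have hcs : c s = u := by rw [hc, MulAut.mul_apply, ← e1, MulAut.inv_apply_self, e2]
  have h1 : (x * c * x⁻¹) s = c s := by
    rw [MulAut.mul_apply, MulAut.mul_apply, show x⁻¹ s = s by
      conv_lhs => rw [← hxs]
      exact MulAut.inv_apply_self S x s, hcs, hu]
  have h2 : c⁻¹ * (x * c * x⁻¹) = 1 :=
    hfree _ (mul_mem (inv_mem hcC) (hCn x hx c hcC)) s hs (by rw [MulAut.mul_apply, h1, MulAut.inv_apply_self])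
  have hcomm : Commute x c := mul_inv_eq_iff_eq_mul.1 (inv_mul_eq_one.1 h2).symm
  rcases h.commute_r hx (hCX hcC) hxr (pow_card_mem hcC)
    ((Nat.Prime.coprime_iff_not_dvd h.prime).2 hCnd) hcomm with e | e
  · exact absurd e hx1
  · rw [← hcs, e]; rfl

end Act

end Cfsg.Agent.ThreeOrders
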