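import Mathlib
import Cfsg.Agent.S0144
import Cfsg.Agent.S0205
import Cfsg.Agent.Lib.ThreeOrders.Norm

/-!
Groups in which the element orders divisible by `2` are at most `2` and `2r`, and those divisible by
the odd prime `r` at most `r` and `2r`.
-/

set_option autoImplicit false
set_option linter.style.haveILetI false

namespace Cfsg.Agent.ThreeOrders

open Subgroup

/-- The hypothesis on element orders. -/
structure Hyp (G : Type*) [Group G] (r : ℕ) : Prop where
  prime : r.Prime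
  ne_two : r ≠ 2
  even_order : ∀ g : G, 2 ∣ orderOf g → orderOf g = 2 ∨ orderOf g = 2 * r
  r_order : ∀ g : G, r ∣ orderOf g → orderOf g = r ∨ orderOf g = 2 * r

variable {G : Type*} [Group G] {r : ℕ}

/-- A power of a preimage has the order of the image. -/
theorem exists_orderOf_preimage [Finite G] {H : Type*} [Group H] (f : G →* H)
    (hf : Function.Surjective f) (y : H) : ∃ x : G, orderOf x = orderOf y ∧ (∃ k : ℕ, f x = y ^ k) := by
  obtain ⟨g, rfl⟩ := hf y
  have hd : orderOf (f g) ∣ orderOf g := orderOf_map_dvd f g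
  refine ⟨g ^ (orderOf g / orderOf (f g)), ?_, orderOf g / orderOf (f g), map_pow f g _⟩
  have hne : orderOf g / orderOf (f g) ≠ 0 := by
    rw [Nat.div_ne_zero_iff]
    refine ⟨?_, Nat.le_of_dvd (orderOf_pos g) hd⟩
    intro e
    rw [e] at hd
    exact (orderOf_pos g).ne' (zero_dvd_iff.1 hd)
  rw [orderOf_pow_of_dvd hne (Nat.div_dvd_of_dvd hd), Nat.div_div_self hd (orderOf_pos g).ne']

namespace Hyp

variable (h : Hyp G r)

include h

theorem odd_r : Odd r := h.prime.odd_of_ne_two h.ne_two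

theorem subgroup (H : Subgroup G) : Hyp H r :=
  ⟨h.prime, h.ne_two, fun g hg => by rw [← Subgroup.orderOf_coe] at hg ⊢; exact h.even_order _ hg,
    fun g hg => by rw [← Subgroup.orderOf_coe] at hg ⊢; exact h.r_order _ hg⟩

theorem of_surjective [Finite G] {H : Type*} [Group H] (f : G →* H) (hf : Function.Surjective f) :
    Hyp H r := by
  refine ⟨h.prime, h.ne_two, fun y hy => ?_, fun y hy => ?_⟩ <;>
    obtain ⟨x, hx, -⟩ := exists_orderOf_preimage f hf y <;> rw [← hx] at hy ⊢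
  exacts [h.even_order x hy, h.r_order x hy]

theorem quotient [Finite G] (N : Subgroup G) [N.Normal] : Hyp (G ⧸ N) r :=
  h.of_surjective (QuotientGroup.mk' N) (QuotientGroup.mk'_surjective N)

theorem sq_one {x : G} {k : ℕ} (hx : x ^ 2 ^ k = 1) : x * x = 1 := by
  obtain ⟨j, -, hj⟩ := (Nat.dvd_prime_pow Nat.prime_two).1 (orderOf_dvd_of_pow_eq_one hx)
  rcases Nat.eq_zero_or_pos j with rfl | hj0
  · rw [pow_zero, orderOf_eq_one_iff] at hj
    rw [hj, one_mul]
  rcases h.even_order x (hj ▸ dvd_pow_self 2 hj0.ne') with e | e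
  · rw [← pow_two, ← e, pow_orderOf_eq_one]
  · exfalso
    have h1 : r ∣ 2 ^ j := hj ▸ e ▸ dvd_mul_left r 2
    exact h.ne_two ((Nat.prime_dvd_prime_iff_eq h.prime Nat.prime_two).1 (h.prime.dvd_of_dvd_pow h1))

theorem two_group_sq {H : Subgroup G} (hH : IsPGroup 2 H) {x : G} (hx : x ∈ H) : x * x = 1 := by
  obtain ⟨k, hk⟩ := hH ⟨x, hx⟩
  exact h.sq_one (k := k) (by simpa using congrArg Subtype.val hk)

theorem two_group_comm {H : Subgroup G} (hH : IsPGroup 2 H) {x y : G} (hx : x ∈ H) (hy : y ∈ H) :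
    x * y = y * x := by
  have h1 := inv_eq_of_mul_eq_one_right (h.two_group_sq hH hx)
  have h2 := inv_eq_of_mul_eq_one_right (h.two_group_sq hH hy)
  have h3 := inv_eq_of_mul_eq_one_right (h.two_group_sq hH (mul_mem hx hy))
  rw [mul_inv_rev, h1, h2] at h3
  exact h3.symm

/-- An element of odd order commuting with an involution has exponent `r`. -/
theorem pow_r_of_commute {t c : G} (ht : orderOf t = 2) (hc : Commute c t) (hodd : Odd (orderOf c)) :
    c ^ r = 1 := by
  have he : orderOf (c * t) = orderOf c * 2 := by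
    rw [hc.orderOf_mul_eq_mul_orderOf_of_coprime (ht ▸ Nat.coprime_two_right.2 hodd), ht]
  rcases h.even_order (c * t) (he ▸ dvd_mul_left 2 _) with e | e <;> rw [he] at e
  · have : orderOf c = 1 := by omega
    rw [orderOf_eq_one_iff.1 this, one_pow]
  · have : orderOf c = r := by omega
    rw [← this, pow_orderOf_eq_one]

/-- A prime-order element commuting with an element of order `r`. -/
theorem prime_of_commute_r {x c : G} {p : ℕ} (hp : p.Prime) (hx : orderOf x = r) (hc : orderOf c = p)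
    (hcomm : Commute x c) : p = 2 ∨ p = r := by
  by_contra hne
  push Not at hne
  have he : orderOf (x * c) = r * p := by
    rw [hcomm.orderOf_mul_eq_mul_orderOf_of_coprime
      (hx ▸ hc ▸ (Nat.coprime_primes h.prime hp).2 (Ne.symm hne.2)), hx, hc]
  rcases h.r_order (x * c) (he ▸ dvd_mul_right r p) with e | e <;> rw [he] at e
  · exact hp.ne_one (Nat.eq_of_mul_eq_mul_left h.prime.pos (e.trans (mul_one r).symm))
  · exact hne.1 (Nat.eq_of_mul_eq_mul_left h.prime.pos (e.trans (mul_comm 2 r)))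

theorem orderOf_eq_r {x : G} (hx : x ^ r = 1) (hne : x ≠ 1) : orderOf x = r :=
  haveI : Fact r.Prime := ⟨h.prime⟩
  orderOf_eq_prime hx hne

/-- The primes dividing the order of the centraliser of an involution. -/
theorem prime_cent [Finite G] {t : G} (ht : orderOf t = 2) {p : ℕ} (hp : p.Prime)
    (hdvd : p ∣ Nat.card (centralizer ({t} : Set G))) : p = 2 ∨ p = r := by
  haveI : Fact p.Prime := ⟨hp⟩
  obtain ⟨c, hc⟩ := exists_prime_orderOf_dvd_card' p hdvd
  rw [← Subgroup.orderOf_coe] at hc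
  by_contra hne
  push Not at hne
  have hodd : Odd (orderOf (c : G)) := hc ▸ hp.odd_of_ne_two hne.1
  have h1 := h.pow_r_of_commute ht (mem_centralizer_singleton_iff.1 c.2) hodd
  have h2 : p ∣ r := hc ▸ orderOf_dvd_of_pow_eq_one h1
  exact hne.2 ((Nat.prime_dvd_prime_iff_eq hp h.prime).1 h2)

theorem solvable_of_primes [Finite G] (hall : ∀ p : ℕ, p.Prime → p ∣ Nat.card G → p = 2 ∨ p = r) :
    Group.IsSolvable G := by
  classical
  have hne : Nat.card G ≠ 0 := Nat.card_pos.ne'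
  refine Cfsg.Agent.S0144.result 2 r ((Nat.card G).factorization 2) ((Nat.card G).factorization r)
    Nat.prime_two h.prime ?_
  have hsub : (Nat.card G).factorization.support ⊆ {2, r} := fun p hp => by
    rw [Nat.support_factorization, Nat.mem_primeFactors] at hp
    simpa using hall p hp.1 hp.2.1
  conv_lhs => rw [← Nat.prod_factorization_pow_eq_self hne]
  rw [Finsupp.prod_of_support_subset _ hsub _ (fun _ _ => pow_zero _),
    Finset.prod_pair h.ne_two.symm]

theorem cent_solvable [Finite G] {t : G} (ht : orderOf t = 2) :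
    Group.IsSolvable (centralizer ({t} : Set G)) :=
  (h.subgroup _).solvable_of_primes fun _ hp hd => h.prime_cent ht hp hd

/-- An odd subgroup centralising an involution is an `r`-group of exponent `r`. -/
theorem exp_of_cent [Finite G] {t : G} (ht : orderOf t = 2) {K : Subgroup G} (hK : Odd (Nat.card K))
    (hle : K ≤ centralizer ({t} : Set G)) {x : G} (hx : x ∈ K) : x ^ r = 1 :=
  h.pow_r_of_commute ht (mem_centralizer_singleton_iff.1 (hle hx))
    (hK.of_dvd_nat (K.orderOf_dvd_natCard hx))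

/-- The norm map of an element of prime order `p ≠ 2` on an abelian subgroup of exponent `r`. -/
theorem pow_mul_eq_one [Finite G] {W : Subgroup G} (hWr : ∀ w ∈ W, w ^ r = 1) {y : G} {p : ℕ}
    (hp : p.Prime) (hp2 : p ≠ 2) (hy : orderOf y = p) (hyW : ∀ w ∈ W, y * w * y⁻¹ ∈ W) {w : G} (hw : w ∈ W) :
    (w * y) ^ p = 1 := by
  have hyWi : ∀ (i : ℕ), ∀ v ∈ W, y ^ i * v * (y ^ i)⁻¹ ∈ W := by
    intro i
    induction i with
    | zero => intro v hv; simpa using hv
    | succ i ih =>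
      intro v hv
      rw [show y ^ (i + 1) * v * (y ^ (i + 1))⁻¹ = y * (y ^ i * v * (y ^ i)⁻¹) * y⁻¹ by
        rw [pow_succ']; group]
      exact hyW _ (ih v hv)
  have hprod : ∀ n, ((List.range n).map fun i => y ^ i * w * (y ^ i)⁻¹).prod ∈ W := fun n =>
    list_prod_mem fun v hv => by
      obtain ⟨i, -, rfl⟩ := List.mem_map.1 hv
      exact hyWi i w hw
  by_contra hne
  have hyp : y ^ p = 1 := by rw [← hy, pow_orderOf_eq_one]
  have hv : (w * y) ^ p ∈ W := by rw [pow_mul_pow_eq, hyp, mul_one]; exact hprod p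
  have ho := h.orderOf_eq_r (hWr _ hv) hne
  have hdvd : r ∣ orderOf (w * y) := ho ▸ orderOf_pow_dvd p
  rw [orderOf_pow] at ho
  rcases h.r_order _ hdvd with e | e <;> rw [e] at ho
  · -- the order is `r`; then `p = r` and the power is trivial, or `y ^ r ∈ W`
    by_cases hpr : p = r
    · subst hpr
      exact hne (by rw [← e, pow_orderOf_eq_one])
    · have h1 : (w * y) ^ r = 1 := by rw [← e, pow_orderOf_eq_one]
      rw [pow_mul_pow_eq] at h1
      have h2 : y ^ r ∈ W := by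
        rw [eq_inv_of_mul_eq_one_right h1]
        exact inv_mem (hprod r)
      have h3 : y ^ (r * r) = 1 := by rw [pow_mul]; exact hWr _ h2
      have hd : p ∣ r * r := hy ▸ orderOf_dvd_of_pow_eq_one h3
      exact hpr ((Nat.prime_dvd_prime_iff_eq hp h.prime).1 (((hp.dvd_mul).1 hd).elim id id))
  · have : Nat.gcd (2 * r) p = 1 ∨ Nat.gcd (2 * r) p = p := by
      rcases hp.eq_one_or_self_of_dvd _ (Nat.gcd_dvd_right (2 * r) p) with g | g
      exacts [Or.inl g, Or.inr g]
    rcases this with g | g <;> rw [g] at ho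
    · have := h.prime.pos
      omega
    · have hpr : p = r := by
        have hd : p ∣ 2 * r := g ▸ Nat.gcd_dvd_left (2 * r) p
        rcases hp.dvd_mul.1 hd with k | k
        · exact absurd ((Nat.prime_dvd_prime_iff_eq hp Nat.prime_two).1 k) hp2
        · exact (Nat.prime_dvd_prime_iff_eq hp h.prime).1 k
      subst hpr
      rw [Nat.mul_div_cancel _ hp.pos] at ho
      omega

/-- An odd-order element moving an elementary 2-group gives one of odd prime order. -/
theorem exists_prime_mover [Finite G] {S : Subgroup G} {t : G} (ht : orderOf t = 2) (htS : t ∈ S) {n : G}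
    (hn : ∀ s ∈ S, n * s * n⁻¹ ∈ S) (hodd : Odd (orderOf n)) (hmove : ∃ s ∈ S, n * s ≠ s * n) :
    ∃ (y : G) (p : ℕ), p.Prime ∧ p ≠ 2 ∧ orderOf y = p ∧ (∀ s ∈ S, y * s * y⁻¹ ∈ S) ∧
      ∃ s ∈ S, y * s ≠ s * y := by
  suffices key : ∀ (k : ℕ) (n : G), orderOf n = k → (∀ s ∈ S, n * s * n⁻¹ ∈ S) → Odd (orderOf n) →
      (∃ s ∈ S, n * s ≠ s * n) → ∃ (y : G) (p : ℕ), p.Prime ∧ p ≠ 2 ∧ orderOf y = p ∧
        (∀ s ∈ S, y * s * y⁻¹ ∈ S) ∧ ∃ s ∈ S, y * s ≠ s * y from key _ n rfl hn hodd hmove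
  intro k
  induction k using Nat.strong_induction_on with
  | _ k ih =>
    intro n hk hn hodd hmove
    have hpow : ∀ i : ℕ, ∀ s ∈ S, n ^ i * s * (n ^ i)⁻¹ ∈ S := by
      intro i
      induction i with
      | zero => intro s hs; simpa using hs
      | succ i ih' =>
        intro s hs
        rw [show n ^ (i + 1) * s * (n ^ (i + 1))⁻¹ = n * (n ^ i * s * (n ^ i)⁻¹) * n⁻¹ by
          rw [pow_succ']; group]
        exact hn _ (ih' s hs)
    have hk1 : k ≠ 1 := fun e => by
      obtain ⟨s, -, hs⟩ := hmove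
      rw [orderOf_eq_one_iff.1 (hk.trans e)] at hs
      simp at hs
    obtain ⟨p, hp, hpk⟩ := Nat.exists_prime_and_dvd hk1
    have hkodd : Odd k := hk ▸ hodd
    have hp2 : p ≠ 2 := fun e => Nat.not_even_iff_odd.2 hkodd (even_iff_two_dvd.2 (e ▸ hpk))
    by_cases hp1 : k = p
    · exact ⟨n, p, hp, hp2, hk.trans hp1, hn, hmove⟩
    by_cases hmv : ∃ s ∈ S, n ^ p * s ≠ s * n ^ p
    · have hlt : orderOf (n ^ p) < k := by
        rw [orderOf_pow_of_dvd hp.ne_zero (hk ▸ hpk), hk]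
        exact Nat.div_lt_self (hk ▸ orderOf_pos n) hp.one_lt
      exact ih _ hlt _ rfl (hpow p) (hodd.of_dvd_nat (orderOf_pow_dvd p)) hmv
    push Not at hmv
    -- the power centralises an involution
    have hr : (n ^ p) ^ r = 1 :=
      h.pow_r_of_commute ht (hmv t htS) (hodd.of_dvd_nat (orderOf_pow_dvd p))
    have hkpr : k ∣ p * r := hk ▸ orderOf_dvd_of_pow_eq_one (by rw [pow_mul]; exact hr)
    have hkdvd : p * 1 ∣ k := by simpa using hpk
    obtain ⟨j, hj⟩ := hpk
    have hjr : j ∣ r := (Nat.mul_dvd_mul_iff_left hp.pos).1 (hj ▸ hkpr)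
    rcases (Nat.dvd_prime h.prime).1 hjr with e | e
    · exact absurd (by rw [hj, e, mul_one]) hp1
    · exfalso
      subst e
      rcases h.r_order n (hk ▸ hj ▸ dvd_mul_left j p) with e' | e' <;> rw [hk, hj] at e'
      · have : p = 1 := Nat.eq_of_mul_eq_mul_right h.prime.pos (e'.trans (one_mul j).symm)
        exact hp.ne_one this
      · exact hp2 (Nat.eq_of_mul_eq_mul_right h.prime.pos e')

/-- The subgroup `[S, y]` of an elementary abelian 2-group. -/
theorem exists_fpf [Finite G] {S : Subgroup G} (hS : IsPGroup 2 S) {y : G} {p : ℕ} (hp : p.Prime)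
    (hp2 : p ≠ 2) (hy : orderOf y = p) (hyS : ∀ s ∈ S, y * s * y⁻¹ ∈ S) :
    ∃ A : Subgroup G, A ≤ S ∧ IsPGroup 2 A ∧ (∀ a ∈ A, y * a * y⁻¹ ∈ A) ∧
      (∀ i, 0 < i → i < p → ∀ a ∈ A, y ^ i * a * (y ^ i)⁻¹ = a → a = 1) ∧
      ∀ s ∈ S, y * s * y⁻¹ * s⁻¹ ∈ A := by
  let f : S →* G :=
    { toFun := fun s => y * s * y⁻¹ * (s : G)⁻¹
      map_one' := by simp
      map_mul' := fun a b => by
        have e : y * b * y⁻¹ * ((b : G)⁻¹ * (a : G)⁻¹) = (a : G)⁻¹ * (y * b * y⁻¹ * (b : G)⁻¹) := by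
          calc y * b * y⁻¹ * ((b : G)⁻¹ * (a : G)⁻¹) = (y * b * y⁻¹ * (b : G)⁻¹) * (a : G)⁻¹ := by group
            _ = _ := h.two_group_comm hS (mul_mem (hyS _ b.2) (inv_mem b.2)) (inv_mem a.2)
        push_cast
        rw [mul_inv_rev]
        calc y * ((a : G) * b) * y⁻¹ * ((b : G)⁻¹ * (a : G)⁻¹)
            = y * a * y⁻¹ * (y * b * y⁻¹ * ((b : G)⁻¹ * (a : G)⁻¹)) := by group
          _ = _ := by rw [e]; group }
  have hle : f.range ≤ S := by
    rintro _ ⟨s, rfl⟩
    exact mul_mem (hyS _ s.2) (inv_mem s.2)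
  have hA := hS.to_le hle
  have hyA : ∀ a ∈ f.range, y * a * y⁻¹ ∈ f.range := by
    rintro _ ⟨s, rfl⟩
    exact ⟨⟨y * s * y⁻¹, hyS _ s.2⟩, by
      show y * (y * s * y⁻¹) * y⁻¹ * (y * (s : G) * y⁻¹)⁻¹ = y * (y * s * y⁻¹ * (s : G)⁻¹) * y⁻¹
      group⟩
  refine ⟨f.range, hle, hA, hyA, ?_, fun s hs => ⟨⟨s, hs⟩, rfl⟩⟩
  intro i hi hip a ha hfix
  -- then `y` fixes `a`
  have hcop : Nat.Coprime i (orderOf y) := by
    rw [hy]
    exact ((Nat.Prime.coprime_iff_not_dvd hp).2 (Nat.not_dvd_of_pos_of_lt hi hip)).symm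
  obtain ⟨m, hm⟩ := exists_pow_eq_self_of_coprime hcop
  have hya : y * a * y⁻¹ = a := by
    have hc : Commute (y ^ i) a := mul_inv_eq_iff_eq_mul.1 hfix
    exact mul_inv_eq_iff_eq_mul.2 (hm ▸ hc.pow_left m)
  obtain ⟨s, rfl⟩ := ha
  set a := f s with ha'
  have hac : ∀ j : ℕ, y ^ j * (s : G) * (y ^ j)⁻¹ = a ^ j * s := by
    intro j
    induction j with
    | zero => simp
    | succ j ih =>
      calc y ^ (j + 1) * (s : G) * (y ^ (j + 1))⁻¹ = y * (y ^ j * (s : G) * (y ^ j)⁻¹) * y⁻¹ := by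
            rw [pow_succ']; group
        _ = (y * a ^ j * y⁻¹) * (y * s * y⁻¹) := by rw [ih]; group
        _ = a ^ j * (a * s) := by
          rw [← conj_pow, hya, show y * (s : G) * y⁻¹ = a * s by
            show y * (s : G) * y⁻¹ = y * s * y⁻¹ * (s : G)⁻¹ * s; group]
        _ = a ^ (j + 1) * s := by rw [← mul_assoc, ← pow_succ]
  have hap : a ^ p = 1 := by
    have e := hac p
    rw [show y ^ p = 1 by rw [← hy, pow_orderOf_eq_one]] at e
    simpa using e.symm
  have ha2 : a ^ 2 = 1 := by rw [pow_two]; exact h.two_group_sq hA ⟨s, rfl⟩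
  have := pow_gcd_eq_one.2 ⟨hap, ha2⟩
  rwa [Nat.Coprime.gcd_eq_one ((Nat.coprime_primes hp Nat.prime_two).2 hp2), pow_one] at this

/-- `[S, y]` centralises an abelian group of exponent `r` normalised by `S` and `y`. -/
theorem fpf_centralizes [Finite G] {W A : Subgroup G} (hA : IsPGroup 2 A)
    (hWc : ∀ a ∈ W, ∀ b ∈ W, a * b = b * a) (hWr : ∀ w ∈ W, w ^ r = 1) {y : G} {p : ℕ} (hp : p.Prime)
    (hp2 : p ≠ 2) (hy : orderOf y = p) (hAW : ∀ a ∈ A, ∀ w ∈ W, a * w * a⁻¹ ∈ W)
    (hyW : ∀ w ∈ W, y * w * y⁻¹ ∈ W) (hyA : ∀ a ∈ A, y * a * y⁻¹ ∈ A)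
    (hfix : ∀ i, 0 < i → i < p → ∀ a ∈ A, y ^ i * a * (y ^ i)⁻¹ = a → a = 1) :
    ∀ a ∈ A, ∀ w ∈ W, a * w = w * a := by
  by_contra hne
  push Not at hne
  haveI : Fact r.Prime := ⟨h.prime⟩
  haveI : Fact (Nat.Prime 2) := ⟨Nat.prime_two⟩
  have hWp : IsPGroup r W := fun w => ⟨1, by
    rw [pow_one]; exact Subtype.ext (by simpa using hWr w w.2)⟩
  have hcop : (Nat.card A).Coprime (Nat.card W) := by
    obtain ⟨a, ha⟩ := hA.exists_card_eq
    obtain ⟨b, hb⟩ := hWp.exists_card_eq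
    rw [ha, hb]
    exact ((Nat.coprime_primes Nat.prime_two h.prime).2 h.ne_two.symm).pow a b
  obtain ⟨w, hw, hne'⟩ := exists_pow_ne_one hWc hcop hAW hyW hyA (by rw [← hy, pow_orderOf_eq_one])
    hp.pos hfix hne
  exact hne' (h.pow_mul_eq_one hWr hp hp2 hy hyW hw)


end Hyp

end Cfsg.Agent.ThreeOrders
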