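import Mathlib
import Cfsg.Agent.Lib.CIT.GenDefs
import Cfsg.Agent.Lib.CIT.Socle
import Cfsg.Agent.Lib.Forms.DicksonDihedral
import Cfsg.Agent.Lib.Forms.DicksonCor

/-!
A CIT group with a subgroup `PSL₂(9)` of index two has an element of order eight.

Otherwise a Sylow 2-subgroup has an involution `w` outside `L`.  For an involution `z` of `L`, the
order of `wz` is even and a power of two, so `z` commutes with an involution of `C_L(w)`; these are
at most `5 · 5` involutions, but `L` has at least 45.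
-/

set_option autoImplicit false
set_option linter.style.haveILetI false
set_option linter.unusedVariables false

namespace Cfsg.Agent.ThreeOrders.CaseA

open Subgroup CIT

universe u

/-- A dihedral subgroup of order eight of `PSL₂(9)`. -/
theorem exists_dihedral {F : Type} [Field F] [Fintype F] (h9 : Fintype.card F = 9) :
    Nat.card (Matrix.ProjectiveSpecialLinearGroup (Fin 2) F) = 360 ∧
    ∃ ι : DihedralGroup 4 →* Matrix.ProjectiveSpecialLinearGroup (Fin 2) F, Function.Injective ι := by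
  refine ⟨?_, ?_⟩
  · have h := Forms.DicksonCor.gcd_mul_natCard (F := F)
    rw [h9, show Nat.gcd 2 (9 - 1) = 2 from rfl] at h
    omega
  obtain ⟨H, -, ⟨d⟩, -⟩ := Forms.DicksonDihedral.exists_minus (F := F)
  have h4 : (Fintype.card F - 1) / Nat.gcd 2 (Fintype.card F - 1) = 4 := by rw [h9]; decide
  rw [h4] at d
  exact ⟨H.subtype.comp d.symm.toMonoidHom, H.subtype_injective.comp d.symm.injective⟩

variable {H : Type u} [Group H] [Finite H]

omit [Finite H] in
theorem odd_conj {w z : H} (hw : w * w = 1) (hz : z * z = 1) {j : ℕ}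
    (hj : (w * z) ^ (2 * j + 1) = 1) : (w * z) ^ j * w * ((w * z) ^ j)⁻¹ = z := by
  have hwi : w⁻¹ = w := inv_eq_of_mul_eq_one_right hw
  have hzi : z⁻¹ = z := inv_eq_of_mul_eq_one_right hz
  set a := w * z with ha
  have hai : w * a * w⁻¹ = a⁻¹ := by
    rw [ha, mul_inv_rev, hwi, hzi, ← mul_assoc, hw, one_mul]
  have h1 : w * (a ^ j)⁻¹ = a ^ j * w := by
    have := congrArg (·⁻¹) (conj_pow (a := w) (b := a) (i := j))
    simp only [hai, inv_pow, inv_inv, mul_inv_rev] at this
    calc w * (a ^ j)⁻¹ = w * (a ^ j)⁻¹ * w⁻¹ * w := by group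
      _ = a ^ j * w := by rw [mul_assoc w, ← this]
  rw [mul_assoc, h1, ← mul_assoc, ← pow_add, show j + j = 2 * j by omega]
  have h2 : a ^ (2 * j) = a⁻¹ := eq_inv_of_mul_eq_one_left (by rw [← pow_succ, hj])
  rw [h2, ha, mul_inv_rev, mul_assoc, inv_mul_cancel, mul_one, hzi]

/-- With all 2-elements of order at most four there is an involution outside `L`. -/
theorem exists_involution_outside (h4 : ∀ (g : H) (k : ℕ), g ^ 2 ^ k = 1 → g ^ 4 = 1)
    (L : Subgroup H) (hidx : L.index = 2) (hcard : Nat.card L = 360)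
    (ι : DihedralGroup 4 →* L) (hι : Function.Injective ι) :
    ∃ w : H, w ∉ L ∧ orderOf w = 2 := by
  haveI : Fact (Nat.Prime 2) := ⟨Nat.prime_two⟩
  set j : DihedralGroup 4 →* H := L.subtype.comp ι with hjdef
  have hj : Function.Injective j := L.subtype_injective.comp hι
  set D := j.range with hDdef
  have hDL : D ≤ L := by rintro _ ⟨d, rfl⟩; exact (ι d).2
  have hD8 : Nat.card D = 2 ^ 3 := by
    rw [hDdef, ← Nat.card_congr (MonoidHom.ofInjective hj).toEquiv, DihedralGroup.nat_card]; norm_num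
  obtain ⟨T, hT⟩ := (IsPGroup.of_card hD8 : IsPGroup 2 D).exists_le_sylow
  have hH : Nat.card H = 720 := by rw [← L.card_mul_index, hcard, hidx]
  have hT16 : Nat.card (T : Subgroup H) = 16 := by
    rw [T.card_eq_multiplicity, hH, show 720 = 2 ^ 4 * 45 from rfl,
      Nat.factorization_mul (by norm_num) (by norm_num), Finsupp.add_apply,
      Nat.Prime.factorization_pow Nat.prime_two, Finsupp.single_eq_same,
      Nat.factorization_eq_zero_of_not_dvd (by norm_num : ¬ 2 ∣ 45)]
    norm_num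
  have hTL : (T : Subgroup H) ⊓ L = D := by
    refine (eq_of_le_of_card_ge (le_inf hT hDL) ?_).symm
    have h1 := card_dvd_of_le (inf_le_left : (T : Subgroup H) ⊓ L ≤ T)
    have h2 := card_dvd_of_le (inf_le_right : (T : Subgroup H) ⊓ L ≤ L)
    rw [hT16] at h1
    rw [hcard] at h2
    have h3 := Nat.le_of_dvd (by norm_num) (Nat.dvd_gcd h1 h2)
    rw [show Nat.gcd 16 360 = 8 from rfl] at h3
    omega
  obtain ⟨y, hyT, hyD⟩ : ∃ y ∈ (T : Subgroup H), y ∉ D := by
    by_contra! hall
    have := card_le_of_le (hall : (T : Subgroup H) ≤ D)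
    omega
  have hyL : y ∉ L := fun h => hyD (hTL ▸ ⟨hyT, h⟩)
  have hDn : (D.subgroupOf T).Normal := by
    refine normal_of_index_eq_two ?_
    have := Subgroup.card_mul_index (D.subgroupOf (T : Subgroup H))
    rw [Nat.card_congr (subgroupOfEquivOfLe hT).toEquiv, hD8, hT16] at this
    omega
  set c := j (DihedralGroup.r 1) with hcdef
  have hcD : c ∈ D := ⟨_, rfl⟩
  have hyc : y * c * y⁻¹ = c ∨ y * c * y⁻¹ = c⁻¹ := by
    have hm : y * c * y⁻¹ ∈ D := by
      simpa [Subgroup.mem_subgroupOf] using hDn.conj_mem ⟨c, hT hcD⟩ (by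
        simpa [Subgroup.mem_subgroupOf] using hcD) ⟨y, hyT⟩
    obtain ⟨d, hd⟩ := hm
    have hne : d * d ≠ 1 := fun e => by
      have h1 : j (d * d) = 1 := by rw [e, map_one]
      rw [map_mul, hd] at h1
      have h2 : c * c = 1 := by
        calc c * c = y⁻¹ * ((y * c * y⁻¹) * (y * c * y⁻¹)) * y := by group
          _ = 1 := by rw [h1, mul_one, inv_mul_cancel]
      rw [hcdef, ← map_mul, ← map_one j] at h2
      exact absurd (hj h2) (by decide)
    have := (by decide : ∀ d : DihedralGroup 4, d * d ≠ 1 →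
      d = DihedralGroup.r 1 ∨ d = (DihedralGroup.r 1)⁻¹) d hne
    rcases this with rfl | rfl
    · exact Or.inl hd.symm
    · exact Or.inr (by rw [← hd, map_inv])
  obtain ⟨v, hvT, hvL, hvc⟩ : ∃ v ∈ (T : Subgroup H), v ∉ L ∧ Commute v c := by
    rcases hyc with h | h
    · exact ⟨y, hyT, hyL, mul_inv_eq_iff_eq_mul.1 h⟩
    · set s := j (DihedralGroup.sr 0) with hsdef
      have hsD : s ∈ D := ⟨_, rfl⟩
      have hs : s * c⁻¹ * s⁻¹ = c := by
        rw [hsdef, hcdef, ← map_inv, ← map_inv, ← map_mul, ← map_mul]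
        exact congrArg j (by decide)
      refine ⟨s * y, mul_mem (hT hsD) hyT, fun hm => hyL ((mul_mem_cancel_left (hDL hsD)).1 hm), ?_⟩
      refine mul_inv_eq_iff_eq_mul.1 ?_
      calc s * y * c * (s * y)⁻¹ = s * (y * c * y⁻¹) * s⁻¹ := by group
        _ = c := by rw [h, hs]
  have hv4 : v ^ 4 = 1 := by
    obtain ⟨k, hk⟩ := T.2 ⟨v, hvT⟩
    exact h4 v k (by simpa using congrArg Subtype.val hk)
  have hv1 : v ≠ 1 := fun e => hvL (e ▸ one_mem L)
  obtain ⟨d, hd⟩ : v * v ∈ D :=
    hTL ▸ ⟨mul_mem hvT hvT, Subgroup.mul_self_mem_of_index_two hidx v⟩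
  have hd2 : d * d = 1 := hj (by
    rw [map_mul, hd, map_one, ← hv4]; simp only [pow_succ, pow_zero, one_mul, mul_assoc])
  have hdc : d * DihedralGroup.r 1 = DihedralGroup.r 1 * d := hj (by
    rw [map_mul, map_mul, hd]; exact ((hvc.mul_left hvc)).eq)
  rcases (by decide : ∀ d : DihedralGroup 4, d * d = 1 → d * DihedralGroup.r 1 = DihedralGroup.r 1 * d →
      d = 1 ∨ d = DihedralGroup.r 1 * DihedralGroup.r 1) d hd2 hdc with rfl | rfl
  · refine ⟨v, hvL, orderOf_eq_prime ?_ hv1⟩
    rw [pow_two, ← hd, map_one]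
  · refine ⟨v * c, fun hm => hvL ((mul_mem_cancel_right (hDL hcD)).1 hm), orderOf_eq_prime ?_ ?_⟩
    · calc (v * c) ^ 2 = (v * v) * (c * c) := by
            rw [hvc.mul_pow, pow_two, pow_two]
        _ = j (DihedralGroup.r 1 * DihedralGroup.r 1 * (DihedralGroup.r 1 * DihedralGroup.r 1)) := by
            rw [← hd, hcdef, map_mul, map_mul, map_mul]
        _ = 1 := by rw [← map_one j]; exact congrArg j (by decide)
    · intro e
      exact hvL (eq_inv_of_mul_eq_one_left e ▸ inv_mem (hDL hcD))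

/-- Involutions of a 2-subgroup of `L` are at most five. -/
theorem card_involutions_le {L : Type u} [Group L] [Finite L] (hcard : Nat.card L = 360)
    (ι : DihedralGroup 4 →* L) (hι : Function.Injective ι) [Fintype L] [DecidableEq L]
    {K : Subgroup L} [DecidablePred (· ∈ K)] (hK : IsPGroup 2 K) :
    (Finset.univ.filter fun z : L => z * z = 1 ∧ z ≠ 1 ∧ z ∈ K).card ≤ 5 := by
  haveI : Fact (Nat.Prime 2) := ⟨Nat.prime_two⟩
  let P : Sylow 2 L := Sylow.ofCard ι.range (by
    rw [← Nat.card_congr (MonoidHom.ofInjective hι).toEquiv, DihedralGroup.nat_card, hcard,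
      show 360 = 2 ^ 3 * 45 from rfl, Nat.factorization_mul (by norm_num) (by norm_num),
      Finsupp.add_apply, Nat.Prime.factorization_pow Nat.prime_two, Finsupp.single_eq_same,
      Nat.factorization_eq_zero_of_not_dvd (by norm_num : ¬ 2 ∣ 45)]
    norm_num)
  obtain ⟨Q, hQ⟩ := hK.exists_le_sylow
  obtain ⟨g, hg⟩ := MulAction.exists_smul_eq L P Q
  have hsub : (Finset.univ.filter fun z : L => z * z = 1 ∧ z ≠ 1 ∧ z ∈ K) ⊆
      (Finset.univ.filter fun d : DihedralGroup 4 => d * d = 1 ∧ d ≠ 1).image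
        fun d => g * ι d * g⁻¹ := by
    intro z hz
    obtain ⟨hz2, hz1, hzK⟩ := (Finset.mem_filter.1 hz).2
    have hzQ := hQ hzK
    rw [← hg, Sylow.coe_subgroup_smul] at hzQ
    obtain ⟨_, ⟨d, rfl⟩, e⟩ := hzQ
    change g * ι d * g⁻¹ = z at e
    refine Finset.mem_image.2 ⟨d, Finset.mem_filter.2 ⟨Finset.mem_univ _, hι ?_, fun e1 => hz1 ?_⟩, e⟩
    · rw [map_mul, map_one]
      calc ι d * ι d = g⁻¹ * ((g * ι d * g⁻¹) * (g * ι d * g⁻¹)) * g := by group
        _ = 1 := by rw [e, hz2, mul_one, inv_mul_cancel]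
    · rw [← e, e1, map_one, mul_one, mul_inv_cancel]
  refine (Finset.card_le_card hsub).trans (Finset.card_image_le.trans ?_)
  decide

/-- The counting. -/
theorem no_index_two_nine (hC : IsCIT H) (h4 : ∀ (g : H) (k : ℕ), g ^ 2 ^ k = 1 → g ^ 4 = 1)
    (L : Subgroup H) (hidx : L.index = 2) (h9 : IsPSLTwoNine L) : False := by
  classical
  obtain ⟨F, iF, iT, hF, ⟨e⟩⟩ := h9
  obtain ⟨hc, ι₀, hι₀⟩ := exists_dihedral hF
  rw [← Nat.card_congr e.toEquiv] at hc
  set ι : DihedralGroup 4 →* L := e.symm.toMonoidHom.comp ι₀ with hιdef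
  have hι : Function.Injective ι := e.symm.injective.comp hι₀
  obtain ⟨w, hwL, hw⟩ := exists_involution_outside h4 L hidx hc ι hι
  haveI : Fact (Nat.Prime 2) := ⟨Nat.prime_two⟩
  haveI := Fintype.ofFinite L
  have hw2 : w * w = 1 := by rw [← pow_two, ← hw, pow_orderOf_eq_one]
  have hord : ∀ z : L, z * z = 1 → z ≠ 1 → orderOf (z : H) = 2 := fun z h1 h2 =>
    orderOf_eq_prime (by rw [pow_two]; exact congrArg Subtype.val h1) fun e => h2 (Subtype.ext e)
  set I : Finset L := Finset.univ.filter fun z => z * z = 1 ∧ z ≠ 1 with hI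
  set J : Finset L := Finset.univ.filter fun z : L =>
    z * z = 1 ∧ z ≠ 1 ∧ z ∈ (centralizer ({w} : Set H)).subgroupOf L with hJ
  have hK : ∀ t : H, orderOf t = 2 → IsPGroup 2 ((centralizer ({t} : Set H)).subgroupOf L) :=
    fun t ht => (hC t ht).comap_subtype
  have hJ5 : J.card ≤ 5 := card_involutions_le hc ι hι (hK w hw)
  -- every involution of `L` commutes with a member of `J`
  have hcover : I ⊆ J.biUnion fun i => Finset.univ.filter fun z : L =>
      z * z = 1 ∧ z ≠ 1 ∧ z ∈ (centralizer ({(i : H)} : Set H)).subgroupOf L := by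
    intro z hz
    obtain ⟨hz2, hz1⟩ := (Finset.mem_filter.1 hz).2
    have hzH : (z : H) * z = 1 := congrArg Subtype.val hz2
    have mk : ∀ i : L, i * i = 1 → i ≠ 1 → Commute (i : H) w → Commute (z : H) i →
        z ∈ J.biUnion fun i => Finset.univ.filter fun z : L =>
          z * z = 1 ∧ z ≠ 1 ∧ z ∈ (centralizer ({(i : H)} : Set H)).subgroupOf L := by
      intro i hi2 hi1 hiw hzi
      refine Finset.mem_biUnion.2 ⟨i, Finset.mem_filter.2 ⟨Finset.mem_univ _, hi2, hi1, ?_⟩,
        Finset.mem_filter.2 ⟨Finset.mem_univ _, hz2, hz1, ?_⟩⟩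
      · rw [mem_subgroupOf, mem_centralizer_singleton_iff]; exact hiw.eq
      · rw [mem_subgroupOf, mem_centralizer_singleton_iff]; exact hzi.eq
    set a := w * (z : H) with ha
    obtain ⟨k, m, hm, hkm⟩ := Nat.exists_eq_pow_mul_and_not_dvd (orderOf_pos a).ne' 2 (by norm_num)
    have hk : k ≠ 0 := by
      intro h0
      rw [h0, pow_zero, one_mul] at hkm
      obtain ⟨q, hq⟩ : ∃ q, m = 2 * q + 1 := ⟨m / 2, by omega⟩
      have h := odd_conj hw2 hzH (j := q) (by rw [← hq, ← hkm, pow_orderOf_eq_one])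
      haveI := normal_of_index_eq_two hidx
      refine hwL ?_
      have := (inferInstance : L.Normal).conj_mem _ z.2 ((a ^ q)⁻¹)
      rw [← h] at this
      simpa [ha, mul_assoc] using this
    have haw : w * a * w⁻¹ = a⁻¹ := by
      rw [ha, mul_inv_rev, inv_eq_of_mul_eq_one_right hw2,
        inv_eq_of_mul_eq_one_right hzH, ← mul_assoc, hw2, one_mul]
    obtain ⟨l, rfl⟩ : ∃ l, k = l + 1 := ⟨k - 1, by omega⟩
    have hi : orderOf (a ^ (2 ^ l * m)) = 2 := by
      have h := orderOf_pow_orderOf_div (x := a) (n := 2) (orderOf_pos a).ne'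
        (hkm ▸ (dvd_mul_of_dvd_left (dvd_pow_self 2 l.succ_ne_zero) m))
      rwa [hkm, pow_succ, mul_right_comm, Nat.mul_div_cancel _ (by norm_num)] at h
    set i := a ^ (2 ^ l * m) with hidef
    have hii : i⁻¹ = i := inv_eq_of_mul_eq_one_right (by rw [← pow_two, ← hi, pow_orderOf_eq_one])
    have hiw : Commute i w := by
      refine (mul_inv_eq_iff_eq_mul.1 ?_ : w * i = i * w).symm
      rw [hidef, ← conj_pow, haw, inv_pow, ← hidef, hii]
    have hza : (z : H) = w * a := by rw [ha, ← mul_assoc, hw2, one_mul]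
    have hiz : Commute (z : H) i := by
      rw [hza]; exact hiw.symm.mul_left ((Commute.refl a).pow_right _)
    -- `a` is a 2-element of order at most four
    obtain ⟨p, hp⟩ := hC i hi ⟨a, mem_centralizer_singleton_iff.2 ((Commute.refl a).pow_right _).eq⟩
    have ha4 : a ^ 4 = 1 := h4 a p (by simpa using congrArg Subtype.val hp)
    have hd4 := orderOf_dvd_of_pow_eq_one ha4
    rw [hkm] at hd4
    have hm1 : m = 1 := by
      have hmd : m ∣ 4 := dvd_trans (dvd_mul_left _ _) hd4
      exact Nat.eq_one_of_dvd_coprimes ((Nat.prime_two.coprime_iff_not_dvd.2 hm).pow_left 2) hmd dvd_rfl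
    subst hm1
    rw [mul_one] at hd4
    have hl : l ≤ 1 := by
      have h1 := (Nat.pow_dvd_pow_iff_le_right (by norm_num : 1 < 2)).1
        (show 2 ^ (l + 1) ∣ 2 ^ 2 from hd4)
      omega
    clear hp
    rcases Nat.le_one_iff_eq_zero_or_eq_one.1 hl with rfl | rfl
    · -- `w` and `z` commute
      refine mk z hz2 hz1 ?_ (Commute.refl _)
      have : i = a := by rw [hidef]; norm_num
      rw [this] at hiw
      rw [hza]
      exact (Commute.refl w).mul_left hiw
    · have hiL : i ∈ L := by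
        rw [hidef, show 2 ^ 1 * 1 = 2 from rfl, pow_two]
        exact Subgroup.mul_self_mem_of_index_two hidx a
      refine mk ⟨i, hiL⟩ (Subtype.ext ?_) (fun e => ?_) hiw hiz
      · show i * i = 1
        rw [← pow_two, ← hi, pow_orderOf_eq_one]
      · have : i = 1 := congrArg Subtype.val e
        rw [this, orderOf_one] at hi
        omega
  have hI25 : I.card ≤ 25 := by
    refine (Finset.card_le_card hcover).trans (Finset.card_biUnion_le.trans ?_)
    refine (Finset.sum_le_card_nsmul J _ 5 fun i hi => ?_).trans ?_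
    · obtain ⟨hi2, hi1, -⟩ := (Finset.mem_filter.1 hi).2
      exact card_involutions_le hc ι hι (hK _ (hord i hi2 hi1))
    · rw [smul_eq_mul]; omega
  -- the conjugates of one involution
  set z₀ := ι (DihedralGroup.r 1 * DihedralGroup.r 1) with hz₀
  have hz02 : z₀ * z₀ = 1 := by rw [hz₀, ← map_mul, ← map_one ι]; exact congrArg ι (by decide)
  have hz01 : z₀ ≠ 1 := fun e => absurd (hι (hz₀.symm.trans (e.trans (map_one ι).symm))) (by decide)
  set C := centralizer ({z₀} : Set L)
  haveI := Fintype.ofFinite (L ⧸ C)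
  have horb : C.index ≤ I.card := by
    rw [index_eq_card, Nat.card_eq_fintype_card, ← Finset.card_univ]
    refine Finset.card_le_card_of_injOn (fun q => q.out * z₀ * q.out⁻¹) (fun q _ => ?_) fun a _ b _ h => ?_
    · refine Finset.mem_filter.2 ⟨Finset.mem_univ _, ?_, ?_⟩
      · rw [← pow_two, conj_pow, pow_two, hz02, mul_one, mul_inv_cancel]
      · exact fun e => hz01 (by simpa using e)
    · rw [← QuotientGroup.out_eq' a, ← QuotientGroup.out_eq' b]
      refine QuotientGroup.eq.2 (mem_centralizer_singleton_iff.2 ?_)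
      simp only at h
      calc a.out⁻¹ * b.out * z₀ = a.out⁻¹ * (b.out * z₀ * b.out⁻¹) * b.out := by group
        _ = a.out⁻¹ * (a.out * z₀ * a.out⁻¹) * b.out := by rw [h]
        _ = z₀ * (a.out⁻¹ * b.out) := by group
  have hC8 : Nat.card C ∣ 8 := by
    have hCp : IsPGroup 2 C := by
      rintro ⟨x, hx⟩
      obtain ⟨p, hp⟩ := hC _ (hord z₀ hz02 hz01) ⟨(x : H), mem_centralizer_singleton_iff.2
        (congrArg Subtype.val (mem_centralizer_singleton_iff.1 hx))⟩
      exact ⟨p, by ext; simpa using congrArg Subtype.val hp⟩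
    obtain ⟨n, hn⟩ := IsPGroup.iff_card.1 hCp
    have hd := card_subgroup_dvd_card C
    rw [hn, hc] at hd
    rw [hn]
    have h3 : n ≤ 3 := by
      by_contra! hlt
      have : (2 : ℕ) ^ 4 ∣ 360 := (pow_dvd_pow 2 hlt).trans hd
      norm_num at this
    exact pow_dvd_pow 2 h3
  have hmul := C.card_mul_index
  rw [hc] at hmul
  have hle := Nat.le_of_dvd (by norm_num) hC8
  have : 360 ≤ 8 * C.index := hmul ▸ Nat.mul_le_mul_right _ hle
  omega

end Cfsg.Agent.ThreeOrders.CaseA
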