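import Mathlib
import Cfsg.Agent.Lib.AtMostOneComposite.Main
import Cfsg.Agent.Lib.ThreeOrders.Basic

/-!
No prime divides three element orders: element orders have at most two prime factors, and elements
of 2-power order have order at most four.
-/

set_option autoImplicit false
set_option linter.style.haveILetI false

namespace Cfsg.Agent.ThreeOrders.CaseA

open Cfsg.Agent.AtMostOneComposite (NoThreeOrders)

variable {G : Type*} [Group G] [Finite G]

theorem exists_order_of_dvd {x : G} {a : ℕ} (h : a ∣ orderOf x) : ∃ y : G, orderOf y = a :=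
  ⟨x ^ (orderOf x / a), orderOf_pow_orderOf_div (orderOf_pos x).ne' h⟩

theorem primeFactors_le (h3 : NoThreeOrders G) (x : G) :
    (orderOf x).primeFactorsList.length ≤ 2 := by
  have hk0 : orderOf x ≠ 0 := (orderOf_pos x).ne'
  have hprod := Nat.prod_primeFactorsList hk0
  have hpr : ∀ p ∈ (orderOf x).primeFactorsList, Nat.Prime p := fun p =>
    Nat.prime_of_mem_primeFactorsList
  rcases hl : (orderOf x).primeFactorsList with _ | ⟨a, _ | ⟨b, _ | ⟨c, l⟩⟩⟩
  · simp
  · simp
  · simp
  exfalso
  rw [hl] at hprod hpr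
  simp only [List.prod_cons] at hprod
  have ha := hpr a (by simp)
  have hb := hpr b (by simp)
  have hc := hpr c (by simp)
  obtain ⟨y, hy⟩ := exists_order_of_dvd (x := x) (a := a) (Dvd.intro _ hprod)
  obtain ⟨z, hz⟩ := exists_order_of_dvd (x := x) (a := a * b)
    (Dvd.intro (c * l.prod) (by rw [← hprod]; ring))
  have hlp : 1 ≤ l.prod := by
    rcases Nat.eq_zero_or_pos l.prod with e | e
    · rw [e] at hprod; simp at hprod; exact absurd hprod.symm hk0
    · exact e
  have h1 : a < a * b := lt_mul_of_one_lt_right ha.pos hb.one_lt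
  have h2 : a * b < orderOf x := by
    rw [← hprod, ← mul_assoc a b]
    exact lt_mul_of_one_lt_right (Nat.mul_pos ha.pos hb.pos) (lt_of_lt_of_le hc.one_lt
      (Nat.le_mul_of_pos_right c hlp))
  refine h3 a ha y z x (by omega) (by omega) (by omega)
    ⟨by rw [hy], by rw [hz]; exact dvd_mul_right a b, ?_⟩
  exact Dvd.intro _ hprod

/-- The same for a quotient. -/
theorem primeFactors_le_map (h3 : NoThreeOrders G) {H : Type*} [Group H] (f : G →* H)
    (hf : Function.Surjective f) (y : H) : (orderOf y).primeFactorsList.length ≤ 2 := by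
  obtain ⟨x, hx, -⟩ := exists_orderOf_preimage f hf y
  exact hx ▸ primeFactors_le h3 x

theorem pow_four_eq_one (h3 : NoThreeOrders G) {g : G} {k : ℕ} (hg : g ^ 2 ^ k = 1) : g ^ 4 = 1 := by
  obtain ⟨j, -, hj⟩ := (Nat.dvd_prime_pow Nat.prime_two).1 (orderOf_dvd_of_pow_eq_one hg)
  have h2 := primeFactors_le h3 g
  rw [hj, Nat.Prime.primeFactorsList_pow Nat.prime_two, List.length_replicate] at h2
  refine orderOf_dvd_iff_pow_eq_one.1 ?_
  rw [hj]
  exact pow_dvd_pow 2 h2

theorem no_eight (h3 : NoThreeOrders G) (g : G) : ¬ 8 ∣ orderOf g := fun h => by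
  obtain ⟨y, hy⟩ := exists_order_of_dvd h
  have := pow_four_eq_one h3 (g := y) (k := 3) (by rw [show 2 ^ 3 = 8 from rfl, ← hy, pow_orderOf_eq_one])
  have h4 := orderOf_dvd_of_pow_eq_one this
  rw [hy] at h4
  norm_num at h4

end Cfsg.Agent.ThreeOrders.CaseA
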