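import Mathlib
import Cfsg.Agent.Lib.CIT.GenQuot
import Cfsg.Agent.Lib.Suzuki.LieEquiv
import Cfsg.Agent.S0333
import Cfsg.Agent.Lib.CIT.ConsArith

/-!
A CIT group without elements of order eight has no normal 2-subgroup under a Suzuki group.

With `u` of order five and `n` of order four inducing squaring on `u`, every element `uⁱ n` of the
quotient lifts to elements of order at most four, so `1 + g + g² + g³` kills a module; summing over
`i` gives `5 = 0`.
-/

set_option autoImplicit false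
set_option linter.style.haveILetI false

namespace Cfsg.Agent.ThreeOrders.CaseA

open Subgroup CIT

universe u

theorem end_false {A : Type*} [AddCommGroup A] [Nontrivial A] (h2 : ∀ a : A, a + a = 0)
    (P X : AddMonoid.End A) (h5 : P ^ 5 = 1) (hrel : X * P = P ^ 2 * X)
    (hfix : ∀ a : A, P a = a → a = 0)
    (hT : ∀ i : ℕ, 1 + P ^ i * X + (P ^ i * X) ^ 2 + (P ^ i * X) ^ 3 = 0) : False := by
  have hS : 1 + P + P ^ 2 + P ^ 3 + P ^ 4 = 0 := by
    refine AddMonoidHom.ext fun a => hfix _ ?_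
    have h : P * (1 + P + P ^ 2 + P ^ 3 + P ^ 4) = 1 + P + P ^ 2 + P ^ 3 + P ^ 4 := by
      simp only [mul_add, mul_one, ← pow_succ']
      rw [h5, ← pow_two]
      abel
    exact DFunLike.congr_fun h a
  have hpow : ∀ i : ℕ, X * P ^ i = P ^ (2 * i) * X := by
    intro i
    induction i with
    | zero => simp
    | succ i ih =>
      rw [pow_succ, ← mul_assoc, ih, mul_assoc, hrel, ← mul_assoc, ← pow_add]
      ring_nf
  have hmod : ∀ i : ℕ, P ^ i = P ^ (i % 5) := fun i => pow_eq_pow_mod i h5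
  have e2 : ∀ i : ℕ, (P ^ i * X) ^ 2 = P ^ (3 * i) * X ^ 2 := fun i => by
    rw [pow_two, pow_two, mul_assoc, ← mul_assoc X, hpow, ← mul_assoc, ← mul_assoc, ← pow_add,
      mul_assoc, show i + 2 * i = 3 * i by omega]
  have e3 : ∀ i : ℕ, (P ^ i * X) ^ 3 = P ^ (7 * i) * X ^ 3 := fun i => by
    rw [pow_succ' _ 2, e2, mul_assoc, ← mul_assoc X, hpow, ← mul_assoc, ← mul_assoc, ← pow_add,
      mul_assoc, ← pow_succ' X 2, show i + 2 * (3 * i) = 7 * i by omega]
  have key : (5 : ℕ) • (1 : AddMonoid.End A) +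
      (1 + P + P ^ 2 + P ^ 3 + P ^ 4) * (X + X ^ 2 + X ^ 3) = 0 := by
    have h0 := hT 0
    have h1 := hT 1
    have h2' := hT 2
    have h3 := hT 3
    have h4 := hT 4
    rw [e2, e3] at h0 h1 h2' h3 h4
    rw [hmod (3 * 2), hmod (7 * 2)] at h2'
    rw [hmod (3 * 3), hmod (7 * 3)] at h3
    rw [hmod (3 * 4), hmod (7 * 4)] at h4
    rw [hmod (7 * 1)] at h1
    norm_num at h0 h1 h2' h3 h4
    calc (5 : ℕ) • (1 : AddMonoid.End A) + (1 + P + P ^ 2 + P ^ 3 + P ^ 4) * (X + X ^ 2 + X ^ 3)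
        = (1 + X + X ^ 2 + X ^ 3) + (1 + P * X + P ^ 3 * X ^ 2 + P ^ 2 * X ^ 3) +
          (1 + P ^ 2 * X + P * X ^ 2 + P ^ 4 * X ^ 3) + (1 + P ^ 3 * X + P ^ 4 * X ^ 2 + P * X ^ 3) +
          (1 + P ^ 4 * X + P ^ 2 * X ^ 2 + P ^ 3 * X ^ 3) := by
            simp only [add_mul, mul_add, one_mul, succ_nsmul, zero_nsmul, zero_add]
            abel
      _ = 0 := by rw [h0, h1, h2', h3, h4]; simp
  rw [hS, zero_mul, add_zero] at key
  obtain ⟨v, hv⟩ := exists_ne (0 : A)
  refine hv ?_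
  have := DFunLike.congr_fun key v
  simp only [succ_nsmul, zero_nsmul, zero_add] at this
  change v + v + v + v + v = 0 at this
  rwa [h2, zero_add, h2, zero_add] at this

variable {G : Type u} [Group G] [Finite G]

theorem core_eq_bot_of_quotient (hC : IsCIT G) (h4 : ∀ (g : G) (k : ℕ), g ^ 2 ^ k = 1 → g ^ 4 = 1)
    (R : Subgroup G) [R.Normal] (hR : IsPGroup 2 R) {u n : G ⧸ R} (hu : orderOf u = 5)
    (hn : n ^ 4 = 1) (hrel : n * u * n⁻¹ = u ^ 2) : R = ⊥ := by
  haveI : Fact (Nat.Prime 2) := ⟨Nat.prime_two⟩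
  by_contra hR1
  haveI : Nontrivial R := (nontrivial_iff_ne_bot R).2 hR1
  haveI := hR.center_nontrivial
  set Z := (center R).map R.subtype with hZ
  haveI hZn : Z.Normal := by
    haveI : (center R).Characteristic := inferInstance
    exact ConjAct.normal_of_characteristic_of_normal
  have hZ1 : Z ≠ ⊥ := by
    rw [hZ, ne_eq, map_eq_bot_iff_of_injective _ R.subtype_injective]
    exact (nontrivial_iff_ne_bot _).1 inferInstance
  obtain ⟨V, hVn, hVZ, hV1, hmin⟩ := Hall.exists_minimal_normal Z hZ1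
  haveI := hVn
  have hVR : V ≤ R := hVZ.trans (map_subtype_le _)
  have hcen : ∀ v ∈ V, ∀ r ∈ R, r * v = v * r := by
    intro v hv r hr
    obtain ⟨z, hz, rfl⟩ := hVZ hv
    exact congrArg Subtype.val (mem_center_iff.1 hz ⟨r, hr⟩)
  haveI : IsMulCommutative V := ⟨⟨fun a b => Subtype.ext (hcen b b.2 a (hVR a.2))⟩⟩
  open scoped IsMulCommutative in
  haveI : Group.IsSolvable V := Coprime.isSolvable_of_isMulCommutative V
  have hsq : ∀ v ∈ V, v * v = 1 := by
    obtain ⟨p, hp, hpd, -, hel⟩ := Hall.minimal_normal_isElementaryAbelian hV1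
      (fun K hK hKV => hmin K hK hKV)
    obtain ⟨l, hl⟩ := IsPGroup.iff_card.1 (hR.to_le hVR)
    have hp2 : p = 2 := (Nat.prime_dvd_prime_iff_eq hp Nat.prime_two).1 (hp.dvd_of_dvd_pow (hl ▸ hpd))
    subst hp2
    intro v hv
    rw [← sq]; exact hel.2 v hv
  haveI : Nontrivial V := (nontrivial_iff_ne_bot V).2 hV1
  open scoped IsMulCommutative in
  let ρ : G →* AddMonoid.End (Additive V) :=
    { toFun := fun g => (MonoidHom.toAdditive (MulAut.conjNormal g : MulAut V).toMonoidHom :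
        AddMonoid.End (Additive V))
      map_one' := AddMonoidHom.ext fun a => by
        apply Additive.toMul.injective
        show (MulAut.conjNormal (1 : G) : MulAut V) a.toMul = _
        rw [map_one]
        rfl
      map_mul' := fun g h => AddMonoidHom.ext fun a => by
        apply Additive.toMul.injective
        show (MulAut.conjNormal (g * h) : MulAut V) a.toMul = _
        rw [map_mul]
        rfl }
  have hρ : ∀ (g : G) (a : Additive V), ((ρ g a).toMul : G) = g * (a.toMul : G) * g⁻¹ :=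
    fun g a => MulAut.conjNormal_apply g a.toMul
  open scoped IsMulCommutative in
  have hker : ∀ r ∈ R, ρ r = 1 := by
    intro r hr
    refine AddMonoidHom.ext fun a => Additive.toMul.injective (Subtype.ext ?_)
    refine (hρ r a).trans ?_
    rw [hcen _ a.toMul.2 r hr, mul_inv_cancel_right]
    rfl
  have hcongr : ∀ g h : G, (g : G ⧸ R) = h → ρ g = ρ h := fun g h e => by
    have hm := hker _ (QuotientGroup.eq.1 e)
    rw [show h = g * (g⁻¹ * h) by group, map_mul, hm, mul_one]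
  obtain ⟨x, rfl⟩ := QuotientGroup.mk_surjective n
  obtain ⟨y, rfl, hyo⟩ := Gen.exists_odd_lift R (x := u) (hu ▸ by decide)
  have hy1 : y ≠ 1 := fun e => by rw [e, QuotientGroup.mk_one, orderOf_one] at hu; omega
  open scoped IsMulCommutative in
  refine end_false (A := Additive V) (fun a => Additive.toMul.injective (Subtype.ext (hsq _ a.toMul.2)))
    (ρ y) (ρ x) ?_ ?_ (fun a ha => ?_) fun i => ?_
  · rw [← map_pow, hcongr (y ^ 5) 1 (by rw [QuotientGroup.mk_pow, QuotientGroup.mk_one, ← hu, pow_orderOf_eq_one]), map_one]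
  · rw [← map_mul, ← map_pow, ← map_mul]
    refine hcongr _ _ ?_
    rw [QuotientGroup.mk_mul, QuotientGroup.mk_mul, QuotientGroup.mk_pow, ← hrel]
    group
  · refine Additive.toMul.injective (Subtype.ext (Gen.fixed_eq_one hC hR hyo hy1 (hVR a.toMul.2) ?_))
    rw [← hρ]
    exact congrArg (fun b : Additive V => (b.toMul : G)) ha
  · -- every element over `uⁱ n` has fourth power one
    have hq : ((y ^ i * x : G) : G ⧸ R) ^ 4 = 1 := by
      rw [QuotientGroup.mk_mul, QuotientGroup.mk_pow]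
      set U := (y : G ⧸ R)
      set N := (x : G ⧸ R)
      have h1 : ∀ j : ℕ, N * U ^ j = U ^ (2 * j) * N := fun j => by
        rw [pow_mul, ← hrel, conj_pow]
        group
      have h2 : U ^ i * N * (U ^ i * N) = U ^ (3 * i) * N ^ 2 := by
        rw [pow_two, mul_assoc, ← mul_assoc N, h1, ← mul_assoc, ← mul_assoc, ← pow_add, mul_assoc,
          show i + 2 * i = 3 * i by omega]
      have h3 : N ^ 2 * U ^ (3 * i) = U ^ (12 * i) * N ^ 2 := by
        rw [pow_two, mul_assoc, h1, ← mul_assoc, h1, mul_assoc, show 2 * (2 * (3 * i)) = 12 * i by omega]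
      calc (U ^ i * N) ^ 4 = (U ^ i * N * (U ^ i * N)) * (U ^ i * N * (U ^ i * N)) := by
            simp only [pow_succ, pow_zero, one_mul, mul_assoc]
        _ = U ^ (15 * i) * N ^ 4 := by
            rw [h2, mul_assoc, ← mul_assoc (N ^ 2), h3, ← mul_assoc, ← mul_assoc, ← pow_add, mul_assoc,
              ← pow_add, show 3 * i + 12 * i = 15 * i by omega]
        _ = 1 := by
            rw [hn, mul_one, show 15 * i = 5 * (3 * i) by omega, pow_mul, ← hu, pow_orderOf_eq_one, one_pow]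
    have hfour : ∀ g : G, (g : G ⧸ R) ^ 4 = 1 → g ^ 4 = 1 := by
      intro g hg
      rw [← QuotientGroup.mk_pow, QuotientGroup.eq_one_iff] at hg
      obtain ⟨k, hk⟩ := hR ⟨_, hg⟩
      refine h4 g (2 + k) ?_
      rw [pow_add, pow_mul]
      exact congrArg Subtype.val hk
    rw [← map_pow ρ y i, ← map_mul ρ]
    set g := y ^ i * x with hgdef
    refine AddMonoidHom.ext fun a => Additive.toMul.injective (Subtype.ext ?_)
    have hg4 : g ^ 4 = 1 := hfour g hq
    have hv4 : ((a.toMul : G) * g) ^ 4 = 1 := hfour _ (by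
      rwa [QuotientGroup.mk_mul, (QuotientGroup.eq_one_iff _).2 (hVR a.toMul.2), one_mul])
    rw [← map_pow, ← map_pow]
    show (((a + ρ g a + ρ (g ^ 2) a + ρ (g ^ 3) a : Additive V)).toMul : G) = 1
    simp only [toMul_add, Subgroup.coe_mul, hρ]
    set v := (a.toMul : G)
    calc v * (g * v * g⁻¹) * (g ^ 2 * v * (g ^ 2)⁻¹) * (g ^ 3 * v * (g ^ 3)⁻¹)
        = (v * g) ^ 4 * (g ^ 4)⁻¹ := by simp only [pow_succ, pow_zero, one_mul, mul_inv_rev, mul_assoc]; group
      _ = 1 := by rw [hv4, hg4, inv_one, mul_one]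

/-- In a Suzuki group some element of order four squares an element of order five. -/
theorem exists_five_four {F : Type*} [Field F] [Fintype F] {m : ℕ} (hm : 1 ≤ m)
    (hF : Fintype.card F = 2 ^ (2 * m + 1)) :
    ∃ u n : Cfsg.Sz F m, orderOf u = 5 ∧ n ^ 4 = 1 ∧ n * u * n⁻¹ = u ^ 2 := by
  classical
  obtain ⟨k, hk, h5⟩ : ∃ k ∈ ({2 ^ (2 * m + 1) + 2 ^ (m + 1) + 1,
      2 ^ (2 * m + 1) - 2 ^ (m + 1) + 1} : Set ℕ), 5 ∣ k := by
    rcases CIT.five_dvd_suzuki m with h | h
    · exact ⟨_, Or.inl rfl, h⟩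
    · exact ⟨_, Or.inr rfl, h⟩
  obtain ⟨U, hUc, hUk, hUcent, hUN⟩ := S0333.result (F := F) hm hF k hk
  haveI : Fact (Nat.Prime 5) := ⟨Nat.prime_five⟩
  obtain ⟨⟨u, huU⟩, hu⟩ := exists_prime_orderOf_dvd_card' (G := U) 5 (hUk ▸ h5)
  rw [Subgroup.orderOf_mk] at hu
  have hu1 : u ≠ 1 := fun e => by rw [e, orderOf_one] at hu; omega
  have hcent := hUcent u huU hu1
  set N := Subgroup.normalizer (U : Set (Cfsg.Sz F m))
  set UN := U.subgroupOf N
  have hUleN : U ≤ N := Subgroup.le_normalizer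
  have hidx : UN.index = 4 := by
    have h1 := Subgroup.card_mul_index UN
    rw [Nat.card_congr (Subgroup.subgroupOfEquivOfLe hUleN).toEquiv, hUk, hUN, mul_comm 4] at h1
    have hk0 : 0 < k := hUk ▸ Nat.card_pos
    exact Nat.eq_of_mul_eq_mul_left hk0 h1
  let f : N ⧸ UN → Cfsg.Sz F m := fun q => (q.out : Cfsg.Sz F m) * u * (q.out : Cfsg.Sz F m)⁻¹
  have hinj : Function.Injective f := by
    intro a b hab
    rw [← QuotientGroup.out_eq' a, ← QuotientGroup.out_eq' b]
    refine QuotientGroup.eq.2 (Subgroup.mem_subgroupOf.2 ?_)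
    rw [← hcent, Subgroup.mem_centralizer_singleton_iff]
    have e := congrArg (fun z => (a.out : Cfsg.Sz F m)⁻¹ * z * (b.out : Cfsg.Sz F m)) hab
    simp only [f, Subgroup.coe_mul, Subgroup.coe_inv] at e ⊢
    calc (a.out : Cfsg.Sz F m)⁻¹ * b.out * u
        = (a.out : Cfsg.Sz F m)⁻¹ * ((b.out : Cfsg.Sz F m) * u * (b.out : Cfsg.Sz F m)⁻¹) * b.out := by group
      _ = (a.out : Cfsg.Sz F m)⁻¹ * ((a.out : Cfsg.Sz F m) * u * (a.out : Cfsg.Sz F m)⁻¹) * b.out := e.symm
      _ = u * ((a.out : Cfsg.Sz F m)⁻¹ * b.out) := by group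
  -- the images lie among the generators of `⟨u⟩`
  have hpow : ∀ x ∈ U, x ^ 5 = 1 → x ∈ Subgroup.zpowers u := by
    intro x hx hx5
    haveI := hUc
    haveI := Fintype.ofFinite U
    have hle := IsCyclic.card_pow_eq_one_le (α := U) (n := 5) (by norm_num)
    set S : Finset U := Finset.univ.filter fun z : U => z ^ 5 = 1
    have hsub : Finset.univ.filter (fun z : U => z ∈ Subgroup.zpowers (⟨u, huU⟩ : U)) ⊆ S := by
      intro z hz
      obtain ⟨j, rfl⟩ := (Finset.mem_filter.1 hz).2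
      refine Finset.mem_filter.2 ⟨Finset.mem_univ _, ?_⟩
      have h' : (⟨u, huU⟩ : U) ^ 5 = 1 := Subtype.ext (by simpa [hu] using pow_orderOf_eq_one u)
      rw [← zpow_natCast, ← _root_.zpow_mul, mul_comm, _root_.zpow_mul, zpow_natCast, h', _root_.one_zpow]
    have hc : (Finset.univ.filter (fun z : U => z ∈ Subgroup.zpowers (⟨u, huU⟩ : U))).card = 5 := by
      rw [← Fintype.card_subtype, ← Nat.card_eq_fintype_card]
      exact (Nat.card_zpowers _).trans (by rw [Subgroup.orderOf_mk, hu])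
    have heq := Finset.eq_of_subset_of_card_le hsub (hc ▸ hle)
    have hxS : (⟨x, hx⟩ : U) ∈ S := Finset.mem_filter.2 ⟨Finset.mem_univ _, Subtype.ext (by simpa using hx5)⟩
    rw [← heq] at hxS
    obtain ⟨j, hj⟩ := (Finset.mem_filter.1 hxS).2
    exact ⟨j, by simpa using congrArg Subtype.val hj⟩
  set T : Finset (Cfsg.Sz F m) := {u, u ^ 2, u ^ 3, u ^ 4}
  haveI := Fintype.ofFinite (N ⧸ UN)
  have himg : Finset.univ.image f ⊆ T := by
    intro z hz
    obtain ⟨q, -, rfl⟩ := Finset.mem_image.1 hz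
    have hmem : f q ∈ U := (Subgroup.mem_set_normalizer_iff.1 q.out.2 u).1 huU
    have h5' : f q ^ 5 = 1 := by
      simp only [f, conj_pow]
      rw [← hu, pow_orderOf_eq_one, mul_one, mul_inv_cancel]
    obtain ⟨j, hj⟩ := hpow _ hmem h5'
    have hj' : u ^ j = u ^ (j % 5).toNat := by
      rw [← zpow_natCast, Int.toNat_of_nonneg (Int.emod_nonneg _ (by norm_num))]
      conv_lhs => rw [← Int.emod_add_mul_ediv j 5, zpow_add, _root_.zpow_mul]
      rw [show u ^ (5 : ℤ) = 1 by rw [show (5 : ℤ) = ((5 : ℕ) : ℤ) from rfl, zpow_natCast, ← hu, pow_orderOf_eq_one],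
        _root_.one_zpow, mul_one]
    have hlt : (j % 5).toNat < 5 := by omega
    have hne : f q ≠ 1 := fun e => hu1 (by simpa [f] using e)
    change u ^ j = f q at hj
    rw [← hj, hj'] at hne ⊢
    interval_cases (j % 5).toNat <;> simp_all [T]
  have hfull : Finset.univ.image f = T := by
    refine Finset.eq_of_subset_of_card_le himg ?_
    rw [Finset.card_image_of_injective _ hinj, Finset.card_univ, ← Nat.card_eq_fintype_card,
      ← Subgroup.index_eq_card, hidx]
    exact Finset.card_le_four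
  obtain ⟨q, -, hq⟩ := Finset.mem_image.1 (show u ^ 2 ∈ Finset.univ.image f by rw [hfull]; simp [T])
  refine ⟨u, q.out, hu, ?_, hq⟩
  by_contra hn4
  haveI : UN.Normal := Subgroup.normal_subgroupOf_of_le_normalizer le_rfl
  have hmem : (q.out : Cfsg.Sz F m) ^ 4 ∈ U := by
    have := UN.pow_index_mem q.out
    rw [hidx] at this
    simpa [UN, Subgroup.mem_subgroupOf] using this
  have hnU : (q.out : Cfsg.Sz F m) ∈ U := by
    rw [← hUcent _ hmem hn4, Subgroup.mem_centralizer_singleton_iff]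
    exact ((Commute.refl (q.out : Cfsg.Sz F m)).pow_right 4).eq
  have hc : Commute (q.out : Cfsg.Sz F m) u := Subgroup.mem_centralizer_singleton_iff.1 (hcent ▸ hnU)
  have h2 : u ^ 2 = u := by rw [← hq]; simp only [f]; rw [hc.eq, mul_inv_cancel_right]
  exact hu1 (by rw [pow_two] at h2; exact mul_eq_left.1 h2)

/-- No normal 2-subgroup under a Suzuki group. -/
theorem core_eq_bot_of_suzuki (hC : IsCIT G) (h4 : ∀ (g : G) (k : ℕ), g ^ 2 ^ k = 1 → g ^ 4 = 1)
    (R : Subgroup G) [R.Normal] (hR : IsPGroup 2 R) (hS : Cfsg.Lie.IsoSuzuki (G ⧸ R)) : R = ⊥ := by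
  obtain ⟨F, iF, iT, m, hm, hF, ⟨e⟩⟩ := hS
  haveI := Cfsg.Agent.Suzuki.charTwo hF
  obtain ⟨ε⟩ := Cfsg.Agent.Suzuki.lieEquiv hm hF
  obtain ⟨u, n, hu, hn, hrel⟩ := exists_five_four (F := F) hm hF
  let j := (e.trans ε.symm).symm
  exact core_eq_bot_of_quotient hC h4 R hR (u := j u) (n := j n) (by rw [MulEquiv.orderOf_eq, hu])
    (by rw [← map_pow, hn, map_one]) (by rw [← map_inv, ← map_mul, ← map_mul, hrel, map_pow])

end Cfsg.Agent.ThreeOrders.CaseA
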