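import Cfsg.Agent.Lib.CIT.Gen
import Cfsg.Agent.Lib.Suzuki.Partition
import Cfsg.Agent.Lib.ThreeOrders.CaseAOrders
import Cfsg.Agent.Lib.ThreeOrders.CaseASuzuki
import Cfsg.Agent.Lib.ThreeOrders.CaseANine

/-!
# No prime divides three element orders: the whole theorem from its two cases

The case of an element of order `2r` is a hypothesis, as is the structure of nonsolvable CIT groups.
-/

set_option autoImplicit false
set_option linter.style.haveILetI false

namespace Cfsg.Agent.ThreeOrders.CaseA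

open Matrix CIT
open Cfsg.Agent.AtMostOneComposite (NoThreeOrders TwoRCase isCIT_of_no_two_r)

universe u

/-- The five outcomes. -/
def ThreeOrderList (G : Type u) [Group G] : Prop :=
  (∃ (F : Type) (_ : Field F) (_ : Fintype F), CharP F 2 ∧ 4 ≤ Fintype.card F ∧
      (Fintype.card F + 1).primeFactorsList.length ≤ 2 ∧ (Fintype.card F - 1).primeFactorsList.length ≤ 2 ∧
      Nonempty (G ⧸ Cfsg.pCore 2 G ≃* Matrix.ProjectiveSpecialLinearGroup (Fin 2) F)) ∨
  (∃ (F : Type) (_ : Field F) (_ : Fintype F), 5 < Fintype.card F ∧ (Fintype.card F % 8 = 3 ∨ Fintype.card F % 8 = 5) ∧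
      ((Fintype.card F + 1) / 2).primeFactorsList.length ≤ 2 ∧ ((Fintype.card F - 1) / 2).primeFactorsList.length ≤ 2 ∧
      Nonempty (G ≃* Matrix.ProjectiveSpecialLinearGroup (Fin 2) F)) ∨
  (∃ (F : Type) (_ : Field F) (_ : Fintype F), (Fintype.card F = 7 ∨ Fintype.card F = 9) ∧
      Nonempty (G ≃* Matrix.ProjectiveSpecialLinearGroup (Fin 2) F)) ∨
  (∃ (F : Type) (_ : Field F) (_ : Fintype F), Fintype.card F = 4 ∧ Nonempty (G ≃* Matrix.ProjectiveSpecialLinearGroup (Fin 3) F)) ∨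
  (∃ n : ℕ, 1 ≤ n ∧ IsSimpleGroup G ∧ Nat.card G = (2 ^ (2 * n + 1)) ^ 2 * ((2 ^ (2 * n + 1)) ^ 2 + 1) * (2 ^ (2 * n + 1) - 1) ∧
      (2 ^ (2 * n + 1) - 1).primeFactorsList.length ≤ 2 ∧ (2 ^ (2 * n + 1) - 2 ^ (n + 1) + 1).primeFactorsList.length ≤ 2 ∧
      (2 ^ (2 * n + 1) + 2 ^ (n + 1) + 1).primeFactorsList.length ≤ 2)

variable {G : Type u} [Group G] [Finite G]

/-- The orders of the two tori of `PSL₂`, read in a quotient. -/
theorem psl_tori {H : Type*} [Group H] (f : G →* H)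
    (hf : Function.Surjective f) {F : Type} [Field F] [Fintype F]
    (e : H ≃* ProjectiveSpecialLinearGroup (Fin 2) F) (h4 : 4 ≤ Fintype.card F) {k : ℕ}
    (hk : k ∣ (Fintype.card F - 1) / Nat.gcd 2 (Fintype.card F - 1) ∨
      k ∣ (Fintype.card F + 1) / Nat.gcd 2 (Fintype.card F - 1)) :
    ∃ x : G, orderOf x = k := by
  obtain ⟨p, hp⟩ := CharP.exists F
  haveI := hp
  haveI : Fact p.Prime := ⟨CharP.char_is_prime F p⟩
  obtain ⟨y, hy⟩ : k ∈ Set.range (orderOf : ProjectiveSpecialLinearGroup (Fin 2) F → ℕ) := by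
    rw [S2475.result (F := F) p h4]; exact Or.inr hk
  obtain ⟨x, hx, -⟩ := exists_orderOf_preimage f hf (e.symm y)
  exact ⟨x, by rw [hx, MulEquiv.orderOf_eq, hy]⟩

theorem psl_bounds (h3 : NoThreeOrders G) {H : Type*} [Group H] (f : G →* H)
    (hf : Function.Surjective f) {F : Type} [Field F] [Fintype F]
    (e : H ≃* ProjectiveSpecialLinearGroup (Fin 2) F) (h4 : 4 ≤ Fintype.card F) :
    ((Fintype.card F + 1) / Nat.gcd 2 (Fintype.card F - 1)).primeFactorsList.length ≤ 2 ∧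
      ((Fintype.card F - 1) / Nat.gcd 2 (Fintype.card F - 1)).primeFactorsList.length ≤ 2 := by
  obtain ⟨x, hx⟩ := psl_tori f hf e h4 (Or.inl dvd_rfl)
  obtain ⟨y, hy⟩ := psl_tori f hf e h4 (Or.inr dvd_rfl)
  exact ⟨hy ▸ primeFactors_le h3 y, hx ▸ primeFactors_le h3 x⟩

theorem list_psl_even (h3 : NoThreeOrders G) {F : Type} [Field F] [Fintype F] {n : ℕ} (hn : 2 ≤ n)
    (hF : Fintype.card F = 2 ^ n)
    (e : G ⧸ Cfsg.pCore 2 G ≃* ProjectiveSpecialLinearGroup (Fin 2) F) : ThreeOrderList G := by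
  haveI : Fact (Nat.Prime 2) := ⟨Nat.prime_two⟩
  haveI : CharP F 2 := charP_of_card_eq_prime_pow (p := 2) (f := n) hF
  have h4 : 4 ≤ Fintype.card F := by
    rw [hF]; exact le_trans (by norm_num) (Nat.pow_le_pow_right two_pos hn)
  obtain ⟨h1, h2⟩ := psl_bounds h3 (QuotientGroup.mk' _) (QuotientGroup.mk'_surjective _) e h4
  rw [hF, CIT.gcd_two_pow_sub_one (by omega), Nat.div_one] at h1 h2
  exact Or.inl ⟨F, inferInstance, inferInstance, inferInstance, h4, hF ▸ h1, hF ▸ h2, ⟨e⟩⟩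

theorem list_of_citList (h3 : NoThreeOrders G) (hR : Cfsg.pCore 2 G = ⊥) [IsSimpleGroup G]
    (hl : CITList G) : ThreeOrderList G := by
  let eR : G ⧸ Cfsg.pCore 2 G ≃* G :=
    (QuotientGroup.quotientMulEquivOfEq hR).trans QuotientGroup.quotientBot
  rcases hl with ⟨F, iF, iT, hF, ⟨e⟩⟩ | hL | hS
  · rcases hF with hF | ⟨n, hn, hF⟩ | ⟨h5, hq, k, hk⟩
    · exact Or.inr (Or.inr (Or.inl ⟨F, iF, iT, Or.inr hF, ⟨e⟩⟩))
    · exact list_psl_even h3 hn hF (eR.trans e)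
    · by_cases h7 : Fintype.card F = 7
      · exact Or.inr (Or.inr (Or.inl ⟨F, iF, iT, Or.inl h7, ⟨e⟩⟩))
      by_cases hq5 : Fintype.card F = 5
      · obtain ⟨K, iK, iT', hK, ⟨i⟩⟩ := CIT.Gen.exists_four_of_five hq5
        exact list_psl_even h3 (n := 2) le_rfl (by rw [hK]; norm_num) (eR.trans (e.trans i))
      exfalso
      have hk4 : 4 ≤ k := by
        by_contra! hlt
        interval_cases k <;> rcases hk with hk | hk <;> norm_num at hk <;>
          first | omega | (rw [hk] at hq; norm_num at hq)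
      obtain ⟨j, rfl⟩ : ∃ j, k = j + 4 := ⟨k - 4, by omega⟩
      have h16 : 2 ^ (j + 4) = 16 * 2 ^ j := by rw [pow_add]; ring
      have hg : Nat.gcd 2 (Fintype.card F - 1) = 2 := CIT.gcd_two_of_odd_prime hq h5
      obtain ⟨x, hx⟩ := psl_tori (MonoidHom.id G) Function.surjective_id e (by omega) (k := 8) (by
        rw [hg]
        rcases hk with hk | hk
        · exact Or.inl ⟨2 ^ j, by omega⟩
        · exact Or.inr ⟨2 ^ j, by omega⟩)
      exact no_eight h3 x (hx ▸ dvd_rfl)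
  · exact Or.inr (Or.inr (Or.inr (Or.inl hL)))
  · obtain ⟨F, iF, iT, m, hm, hF, ⟨e⟩⟩ := hS
    haveI := Cfsg.Agent.Suzuki.charTwo hF
    obtain ⟨ε⟩ := Cfsg.Agent.Suzuki.lieEquiv hm hF
    let j := e.trans ε.symm
    have lift : ∀ y : Cfsg.Sz F m, (orderOf y).primeFactorsList.length ≤ 2 := fun y => by
      have := primeFactors_le h3 (j.symm y)
      rwa [MulEquiv.orderOf_eq] at this
    have cyc : ∀ (U : Subgroup (Cfsg.Sz F m)), IsCyclic U → (Nat.card U).primeFactorsList.length ≤ 2 := by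
      intro U hc
      obtain ⟨g, hg⟩ := hc.exists_generator
      have := lift g
      rwa [Subgroup.orderOf_coe, orderOf_eq_card_of_forall_mem_zpowers hg] at this
    have hU := S0333.result (F := F) hm hF
    obtain ⟨U, hc, hcard, -⟩ := hU _ (Or.inl rfl)
    obtain ⟨V, hc', hcard', -⟩ := hU _ (Or.inr rfl)
    obtain ⟨s, hs⟩ := IsCyclic.exists_generator (α := Fˣ)
    let φ : Fˣ →* Cfsg.Sz F m := MonoidHom.mk' (Suzuki.tor hF) (Suzuki.tor_mul hF)
    have hφ : Function.Injective φ := Suzuki.tor_injective hF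
    have hs' := lift (φ s)
    rw [orderOf_injective φ hφ, orderOf_eq_card_of_forall_mem_zpowers hs, Nat.card_units,
      Nat.card_eq_fintype_card, hF] at hs'
    refine Or.inr (Or.inr (Or.inr (Or.inr ⟨m, hm, inferInstance, ?_, hs', hcard' ▸ cyc V hc',
      hcard ▸ cyc U hc⟩)))
    rw [Nat.card_congr j.toEquiv, Suzuki.card_eq hm hF, hF]

/-- The case without elements of order `2r`. -/
theorem list_of_cit (hGen : GenStatement.{u}) (h3 : NoThreeOrders G) (hG : ¬ Group.IsSolvable G)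
    (hC : IsCIT G) : ThreeOrderList G := by
  have h4 : ∀ (g : G) (k : ℕ), g ^ 2 ^ k = 1 → g ^ 4 = 1 := fun g k => pow_four_eq_one h3
  obtain ⟨-, hCq, L, hLn, hLs, hLc, -, -, hlist, hshape, -, hcore⟩ := hGen G hC hG
  rcases hcore with hR | ⟨htop, hev⟩
  · let eR : G ⧸ Cfsg.pCore 2 G ≃* G :=
      (QuotientGroup.quotientMulEquivOfEq hR).trans QuotientGroup.quotientBot
    rcases hshape with htop | ⟨hidx, h9⟩
    · subst htop
      let eL : (⊤ : Subgroup (G ⧸ Cfsg.pCore 2 G)) ≃* G := Subgroup.topEquiv.trans eR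
      haveI := hLs
      haveI : IsSimpleGroup G := eL.symm.isSimpleGroup
      refine list_of_citList h3 hR ?_
      rcases hlist with ⟨F, iF, iT, hF, ⟨e⟩⟩ | ⟨F, iF, iT, hF, ⟨e⟩⟩ | hS
      · exact Or.inl ⟨F, iF, iT, hF, ⟨eL.symm.trans e⟩⟩
      · exact Or.inr (Or.inl ⟨F, iF, iT, hF, ⟨eL.symm.trans e⟩⟩)
      · obtain ⟨F, iF, iT, m, hm, hF, ⟨e⟩⟩ := hS
        exact Or.inr (Or.inr ⟨F, iF, iT, m, hm, hF, ⟨eL.symm.trans e⟩⟩)
    · refine (no_index_two_nine hCq (fun g k hg => ?_) L hidx h9).elim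
      have he : eR g ^ 2 ^ k = 1 := by rw [← map_pow, hg, map_one]
      exact eR.injective (by rw [map_pow, h4 _ k he, map_one])
  · subst htop
    rcases hev with ⟨F, iF, iT, ⟨n, hn, hF⟩, ⟨e⟩⟩ | hS
    · exact list_psl_even h3 hn hF (Subgroup.topEquiv.symm.trans e)
    · have hS' : Cfsg.Lie.IsoSuzuki (G ⧸ Cfsg.pCore 2 G) := by
        obtain ⟨F, iF, iT, m, hm, hF, ⟨e⟩⟩ := hS
        exact ⟨F, iF, iT, m, hm, hF, ⟨Subgroup.topEquiv.symm.trans e⟩⟩
      have hR := core_eq_bot_of_suzuki hC h4 _ CIT.Gen.isPGroup_pCore hS'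
      let eR : G ⧸ Cfsg.pCore 2 G ≃* G :=
        (QuotientGroup.quotientMulEquivOfEq hR).trans QuotientGroup.quotientBot
      let eL : (⊤ : Subgroup (G ⧸ Cfsg.pCore 2 G)) ≃* G := Subgroup.topEquiv.trans eR
      haveI := hLs
      haveI : IsSimpleGroup G := eL.symm.isSimpleGroup
      refine list_of_citList h3 hR (Or.inr (Or.inr ?_))
      obtain ⟨F, iF, iT, m, hm, hF, ⟨e⟩⟩ := hS'
      exact ⟨F, iF, iT, m, hm, hF, ⟨eR.symm.trans e⟩⟩

/-- The theorem. -/
theorem classification (hGen : GenStatement.{u}) (h2r : TwoRCase.{u}) (h3 : NoThreeOrders G)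
    (hG : ¬ Group.IsSolvable G) : ThreeOrderList G := by
  by_cases h2 : ∃ (g : G) (r : ℕ), r.Prime ∧ r ≠ 2 ∧ orderOf g = 2 * r
  · obtain ⟨F, iF, iT, h5, h8, ⟨e⟩⟩ := h2r G hG h3 h2
    obtain ⟨h1, h2'⟩ := psl_bounds h3 (MonoidHom.id G) Function.surjective_id e (by omega)
    rw [Nat.gcd_eq_left (show 2 ∣ Fintype.card F - 1 by omega)] at h1 h2'
    exact Or.inr (Or.inl ⟨F, iF, iT, h5, h8, h1, h2', ⟨e⟩⟩)
  · exact list_of_cit hGen h3 hG (isCIT_of_no_two_r h2)

end Cfsg.Agent.ThreeOrders.CaseA
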