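import Mathlib
import Cfsg.Agent.S0023
import Cfsg.Agent.S0058
import Cfsg.Agent.InvChar.Core
import Cfsg.Agent.Lib.Cores.Basic
import Cfsg.Agent.Lib.ZStar.Main
import Cfsg.Agent.Lib.ThreeOrders.Basic

/-!
A non-solvable group with the hypothesis has neither a normal 2-subgroup nor a normal subgroup of odd
order other than the trivial one, and so no solvable normal subgroup.
-/

set_option autoImplicit false
set_option linter.style.haveILetI false

namespace Cfsg.Agent.ThreeOrders

open Subgroup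
open scoped commutatorElement

variable {G : Type*} [Group G] [Finite G] {r : ℕ}

theorem solvable_ext (N : Subgroup G) [N.Normal] (hN : Group.IsSolvable N)
    (hQ : Group.IsSolvable (G ⧸ N)) : Group.IsSolvable G := by
  haveI := hN; haveI := hQ
  exact Group.isSolvable_of_ker_le_range N.subtype (QuotientGroup.mk' N) (by simp)

/-- A non-trivial solvable normal subgroup contains a non-trivial abelian one, normal in the group. -/
theorem exists_abelian_normal_le {R : Subgroup G} (hRn : R.Normal) (hs : Group.IsSolvable R)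
    (hR : R ≠ ⊥) : ∃ B : Subgroup G, B.Normal ∧ B ≤ R ∧ B ≠ ⊥ ∧ ∀ x ∈ B, ∀ y ∈ B, x * y = y * x := by
  classical
  haveI := hRn
  obtain ⟨n, hn⟩ := (Group.isSolvable_def R).1 hs
  have hex : ∃ m, derivedSeries R m = ⊥ := ⟨n, hn⟩
  haveI : Nontrivial R := (Subgroup.nontrivial_iff_ne_bot R).2 hR
  have h0 : Nat.find hex ≠ 0 := fun h => by
    have := Nat.find_spec hex
    rw [h, derivedSeries_zero] at this
    exact top_ne_bot this
  obtain ⟨m, hm⟩ := Nat.exists_eq_succ_of_ne_zero h0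
  haveI := derivedSeries_characteristic R m
  refine ⟨(derivedSeries R m).map R.subtype, inferInstance, map_subtype_le _, ?_, ?_⟩
  · rw [Ne, map_eq_bot_iff_of_injective _ R.subtype_injective]
    exact Nat.find_min hex (by omega)
  rintro _ ⟨x, hx, rfl⟩ _ ⟨y, hy, rfl⟩
  have h1 : ⁅x, y⁆ ∈ derivedSeries R (m + 1) := Subgroup.commutator_mem_commutator hx hy
  rw [show m + 1 = Nat.find hex from hm.symm, Nat.find_spec hex, Subgroup.mem_bot] at h1
  simp only [Subgroup.coe_subtype, ← Subgroup.coe_mul, commutatorElement_eq_one_iff_mul_comm.1 h1]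

/-- Without odd core, a non-trivial solvable normal subgroup gives a non-trivial normal 2-subgroup. -/
theorem exists_normal_two_group (hO : Cfsg.oddCore G = ⊥) {R : Subgroup G} (hRn : R.Normal)
    (hs : Group.IsSolvable R) (hR : R ≠ ⊥) : ∃ B : Subgroup G, B.Normal ∧ IsPGroup 2 B ∧ B ≠ ⊥ := by
  classical
  obtain ⟨B, hBn, -, hB1, hBc⟩ := exists_abelian_normal_le hRn hs hR
  refine ⟨B, hBn, ?_, hB1⟩
  haveI := hBn
  -- the elements of odd order of `B` form a normal subgroup of odd order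
  let D : Subgroup G :=
    { carrier := {x | x ∈ B ∧ Odd (orderOf x)}
      one_mem' := ⟨one_mem B, by simp⟩
      mul_mem' := fun {a b} ha hb => ⟨mul_mem ha.1 hb.1,
        (ha.2.mul hb.2).of_dvd_nat ((show Commute a b from hBc a ha.1 b hb.1).orderOf_mul_dvd_mul_orderOf)⟩
      inv_mem' := fun {a} ha => ⟨inv_mem ha.1, by rw [orderOf_inv]; exact ha.2⟩ }
  have hDn : D.Normal := ⟨fun x hx g => ⟨hBn.conj_mem x hx.1 g, by
    have := (MulAut.conj g).orderOf_eq x
    rw [MulAut.conj_apply] at this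
    rw [this]; exact hx.2⟩⟩
  have hDodd : Odd (Nat.card D) := by
    rw [Nat.odd_iff, ← Nat.two_dvd_ne_zero]
    intro hd
    haveI : Fact (Nat.Prime 2) := ⟨Nat.prime_two⟩
    obtain ⟨x, hx⟩ := exists_prime_orderOf_dvd_card' 2 hd
    rw [← Subgroup.orderOf_coe] at hx
    have := x.2.2
    rw [hx] at this
    exact absurd this (by decide)
  have hD : D = ⊥ := le_bot_iff.1 (hO ▸ InvChar.Core.le_oddCore hDn hDodd)
  intro x
  obtain ⟨k, m, hm, e⟩ := Nat.exists_eq_two_pow_mul_odd (orderOf_pos (x : G)).ne'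
  refine ⟨k, Subtype.ext ?_⟩
  have hmem : (x : G) ^ 2 ^ k ∈ D := ⟨pow_mem x.2 _, by
    rw [orderOf_pow_of_dvd (pow_ne_zero k two_ne_zero) (e ▸ dvd_mul_right _ _), e,
      Nat.mul_div_cancel_left _ (Nat.two_pow_pos k)]
    exact hm⟩
  rw [hD, Subgroup.mem_bot] at hmem
  simpa using hmem

namespace Hyp

variable (h : Hyp G r)

include h

theorem commute_two_group {N : Subgroup G} [N.Normal] (hN : IsPGroup 2 N) {x : G}
    (hx : ∃ k, x ^ 2 ^ k = 1) {v : G} (hv : v ∈ N) : x * v = v * x := by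
  haveI : Fact (Nat.Prime 2) := ⟨Nat.prime_two⟩
  have hP : IsPGroup 2 (zpowers x) := by
    obtain ⟨k, hk⟩ := hx
    rintro ⟨_, i, rfl⟩
    exact ⟨k, Subtype.ext (by push_cast; rw [← zpow_natCast, zpow_comm, zpow_natCast, hk, one_zpow])⟩
  exact h.two_group_comm (hP.to_sup_of_normal_right hN) (mem_sup_left (mem_zpowers x)) (mem_sup_right hv)

theorem two_core_eq_bot (hns : ¬ Group.IsSolvable G) {N : Subgroup G} (hNn : N.Normal)
    (hN : IsPGroup 2 N) : N = ⊥ := by
  by_contra hne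
  haveI := hNn
  haveI : Fact (Nat.Prime 2) := ⟨Nat.prime_two⟩
  obtain ⟨v, hv, hv1⟩ := (Subgroup.bot_or_exists_ne_one N).resolve_left hne
  have hv2 : orderOf v = 2 := orderOf_eq_prime (by rw [pow_two]; exact h.two_group_sq hN hv) hv1
  set C := centralizer (N : Set G)
  have hle : C ≤ centralizer ({v} : Set G) := fun x hx => mem_centralizer_singleton_iff.2
    (mem_centralizer_iff.1 hx v hv).symm
  haveI := h.cent_solvable hv2
  have hCs : Group.IsSolvable C := Group.isSolvable_of_isSolvable_injective (Subgroup.inclusion_injective hle)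
  refine hns (solvable_ext C hCs (Cfsg.Agent.S0205.result ?_))
  rw [Nat.odd_iff, ← Nat.two_dvd_ne_zero]
  intro hd
  obtain ⟨q, hq⟩ := exists_prime_orderOf_dvd_card' 2 hd
  obtain ⟨g, rfl⟩ := QuotientGroup.mk'_surjective C q
  have hd' : orderOf (QuotientGroup.mk' C g) ∣ orderOf g := orderOf_map_dvd _ g
  rw [hq] at hd'
  obtain ⟨e, m, hm, he⟩ := Nat.exists_eq_two_pow_mul_odd (orderOf_pos g).ne'
  have hmem : g ^ m ∈ C := mem_centralizer_iff.2 fun u hu =>
    (h.commute_two_group hN ⟨e, by rw [← pow_mul, mul_comm, ← he, pow_orderOf_eq_one]⟩ hu).symm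
  have hgm : (QuotientGroup.mk' C g) ^ m = 1 := by
    rw [← map_pow]; exact (QuotientGroup.eq_one_iff _).2 hmem
  have := orderOf_dvd_of_pow_eq_one hgm
  rw [hq] at this
  exact Nat.not_even_iff_odd.2 hm (even_iff_two_dvd.2 this)

theorem exists_mover (hns : ¬ Group.IsSolvable G) (S : Sylow 2 G) :
    ∃ (y : G) (p : ℕ), p.Prime ∧ p ≠ 2 ∧ orderOf y = p ∧
      (∀ s ∈ (S : Subgroup G), y * s * y⁻¹ ∈ (S : Subgroup G)) ∧
        ∃ s ∈ (S : Subgroup G), y * s ≠ s * y := by
  haveI : Fact (Nat.Prime 2) := ⟨Nat.prime_two⟩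
  have hne : ¬ normalizer ((S : Subgroup G) : Set G) ≤ centralizer ((S : Subgroup G) : Set G) := fun hle =>
    hns (by
      set K := (MonoidHom.transferSylow S hle).ker
      have hc := MonoidHom.ker_transferSylow_isComplement' S hle
      have hodd : Odd (Nat.card K) := by
        rw [Nat.odd_iff, ← Nat.two_dvd_ne_zero, show Nat.card K = (S : Subgroup G).index from
          hc.index_eq_card.symm]
        exact S.not_dvd_index
      refine solvable_ext K (Cfsg.Agent.S0205.result hodd) ?_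
      haveI : IsMulCommutative (S : Subgroup G) :=
        ⟨⟨fun a b => Subtype.ext (h.two_group_comm S.isPGroup' a.2 b.2)⟩⟩
      haveI := Cfsg.Agent.Coprime.isSolvable_of_isMulCommutative (S : Subgroup G)
      exact Group.isSolvable_of_isSolvable_injective
        (f := (QuotientGroup.quotientKerEquivRange (MonoidHom.transferSylow S hle)).toMonoidHom.range.subtype.comp
          ((QuotientGroup.quotientKerEquivRange (MonoidHom.transferSylow S hle)).toMonoidHom.rangeRestrict))
        (fun a b e => (QuotientGroup.quotientKerEquivRange (MonoidHom.transferSylow S hle)).injective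
          (congrArg Subtype.val (Subtype.ext e))))
  obtain ⟨n, hn, hnc⟩ := SetLike.not_le_iff_exists.1 hne
  obtain ⟨s, hs, hns'⟩ : ∃ s ∈ (S : Subgroup G), n * s ≠ s * n := by
    by_contra hall
    push Not at hall
    exact hnc (mem_centralizer_iff.2 fun s hs => (hall s hs).symm)
  have hnS : ∀ k : ℕ, ∀ u ∈ (S : Subgroup G), n ^ k * u * (n ^ k)⁻¹ ∈ (S : Subgroup G) := fun k u hu =>
    (mem_normalizer_iff.1 (pow_mem hn k) u).1 hu
  obtain ⟨t, htS, ht⟩ : ∃ t ∈ (S : Subgroup G), orderOf t = 2 := ⟨s, hs,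
    orderOf_eq_prime (by rw [pow_two]; exact h.two_group_sq S.isPGroup' hs) (fun e => hns' (by simp [e]))⟩
  -- the odd part of `n` still moves `S`
  obtain ⟨e, m, hm, he⟩ := Nat.exists_eq_two_pow_mul_odd (orderOf_pos n).ne'
  have h2 : n ^ m ∈ (S : Subgroup G) := by
    have hP : IsPGroup 2 (zpowers (n ^ m)) := by
      rintro ⟨_, i, rfl⟩
      exact ⟨e, Subtype.ext (by
        push_cast
        rw [← zpow_natCast (((n ^ m) ^ i)), zpow_comm, zpow_natCast, ← pow_mul, mul_comm m, ← he,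
          pow_orderOf_eq_one, one_zpow])⟩
    have hle : zpowers (n ^ m) ≤ normalizer ((S : Subgroup G) : Set G) := zpowers_le.2 (pow_mem hn m)
    rw [← S.is_maximal' (hP.to_sup_of_normal_right' S.isPGroup' hle) le_sup_right]
    exact mem_sup_left (mem_zpowers _)
  refine h.exists_prime_mover (n := n ^ (2 ^ e)) ht htS (hnS _) ?_ ⟨s, hs, fun hcomm => hns' ?_⟩
  · rw [orderOf_pow_of_dvd (pow_ne_zero e two_ne_zero) (he ▸ dvd_mul_right _ _), he,
      Nat.mul_div_cancel_left _ (Nat.two_pow_pos e)]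
    exact hm
  · have c1 : Commute (n ^ m) s := h.two_group_comm S.isPGroup' h2 hs
    have c2 : Commute (n ^ 2 ^ e) s := hcomm
    obtain ⟨j, hj⟩ := hm
    obtain ⟨a, b, hab⟩ : ∃ a b : ℤ, (1 : ℤ) = a * (2 ^ e : ℕ) + b * m := by
      have hco : Nat.Coprime (2 ^ e) m := (Nat.coprime_two_left.2 ⟨j, hj⟩).pow_left e
      exact ⟨_, _, by rw [mul_comm, mul_comm (Nat.gcdB _ _)]; exact_mod_cast (hco.gcd_eq_one ▸ Nat.gcd_eq_gcd_ab (2 ^ e) m : ((1 : ℕ) : ℤ) = _)⟩
    have : n = (n ^ 2 ^ e) ^ a * (n ^ m) ^ b := by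
      rw [← zpow_natCast n (2 ^ e), ← zpow_natCast n m, ← zpow_mul, ← zpow_mul, ← zpow_add,
        mul_comm _ a, mul_comm _ b, ← hab, zpow_one]
    rw [this]
    exact ((c2.zpow_left a).mul_left (c1.zpow_left b)).eq

/-- An `r`-element has order dividing `r`. -/
theorem r_group_exp {K : Subgroup G} (hK : IsPGroup r K) {x : G} (hx : x ∈ K) : x ^ r = 1 := by
  obtain ⟨k, hk⟩ := hK ⟨x, hx⟩
  have hk' : x ^ r ^ k = 1 := by simpa using congrArg Subtype.val hk
  obtain ⟨j, -, hj⟩ := (Nat.dvd_prime_pow h.prime).1 (orderOf_dvd_of_pow_eq_one hk')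
  rcases Nat.eq_zero_or_pos j with rfl | hj0
  · rw [pow_zero, orderOf_eq_one_iff] at hj
    rw [hj, one_pow]
  rcases h.r_order x (hj ▸ dvd_pow_self r hj0.ne') with e | e
  · rw [← e, pow_orderOf_eq_one]
  · exfalso
    have h2 : 2 ∣ r ^ j := hj ▸ e ▸ dvd_mul_right 2 r
    exact h.ne_two ((Nat.prime_dvd_prime_iff_eq Nat.prime_two h.prime).1 (Nat.prime_two.dvd_of_dvd_pow h2)).symm

/-- A subgroup of odd order normalised by a four-group is an `r`-group. -/
theorem odd_is_r_group {K V : Subgroup G} (hK : Odd (Nat.card K)) (hV : IsPGroup 2 V) (hVc : ¬ IsCyclic V)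
    (hVK : V ≤ normalizer (K : Set G)) : IsPGroup r K := by
  haveI : Fact r.Prime := ⟨h.prime⟩
  haveI : Fact (Nat.Prime 2) := ⟨Nat.prime_two⟩
  obtain ⟨a, ha⟩ := hV.exists_card_eq
  refine IsPGroup.of_card (n := (Nat.card K).primeFactorsList.length) (Nat.eq_prime_pow_of_unique_prime_dvd
    Nat.card_pos.ne' fun {q} hq hqd => ?_)
  by_contra hqr
  haveI : Fact q.Prime := ⟨hq⟩
  haveI := Cfsg.Agent.S0205.result hK
  obtain ⟨P, hP⟩ := Cfsg.Agent.S0023.result V K hVK
    (by rw [ha]; exact (Nat.coprime_two_left.2 hK).pow_left a) (Or.inr inferInstance) q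
  set P' := (P : Subgroup K).map K.subtype
  have hPodd : Odd (Nat.card P') := hK.of_dvd_nat (card_dvd_of_le (map_subtype_le _))
  haveI : IsMulCommutative V := ⟨⟨fun u v => Subtype.ext (h.two_group_comm hV u.2 v.2)⟩⟩
  have hgen := Cfsg.Agent.S0058.result V P' hVc hP (by rw [ha]; exact (Nat.coprime_two_left.2 hPodd).pow_left a)
  have hbot : P' = ⊥ := by
    rw [← hgen]
    refine le_bot_iff.1 (iSup₂_le fun v hv x hx => ?_)
    obtain ⟨hxP, hxv⟩ := hx
    have hv2 : orderOf v = 2 := orderOf_eq_prime (by rw [pow_two]; exact h.two_group_sq hV hv.1) hv.2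
    have h1 := h.pow_r_of_commute hv2 (mem_centralizer_singleton_iff.1 hxv)
      (hPodd.of_dvd_nat (P'.orderOf_dvd_natCard hxP))
    obtain ⟨k, hk⟩ := (P.isPGroup'.map K.subtype) ⟨x, hxP⟩
    have h2 : x ^ q ^ k = 1 := by simpa using congrArg Subtype.val hk
    have h3 := pow_gcd_eq_one.2 ⟨h1, h2⟩
    rw [((Nat.coprime_primes h.prime hq).2 (Ne.symm hqr)).pow_right k |>.gcd_eq_one, pow_one] at h3
    exact Subgroup.mem_bot.2 h3
  have hP1 : (P : Subgroup K) = ⊥ := (map_eq_bot_iff_of_injective _ K.subtype_injective).1 hbot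
  exact P.ne_bot_of_dvd_card hqd hP1

theorem oddCore_eq_bot (hns : ¬ Group.IsSolvable G) : Cfsg.oddCore G = ⊥ := by
  by_contra hne
  haveI : Fact (Nat.Prime 2) := ⟨Nat.prime_two⟩
  haveI : Fact r.Prime := ⟨h.prime⟩
  set K := Cfsg.oddCore G with hKdef
  haveI : K.Normal := ZStar.Main.oddCore_normal
  have hKodd : Odd (Nat.card K) := InvChar.Core.odd_card_oddCore
  obtain ⟨S⟩ : Nonempty (Sylow 2 G) := inferInstance
  obtain ⟨y, p, hp, hp2, hy, hyS, s, hs, hys⟩ := h.exists_mover hns S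
  obtain ⟨A, hAS, hA, hyA, hfix, hAcomm⟩ := h.exists_fpf S.isPGroup' hp hp2 hy hyS
  set a := y * s * y⁻¹ * s⁻¹ with had
  have haA : a ∈ A := hAcomm s hs
  have ha1 : a ≠ 1 := fun e => hys (mul_inv_eq_iff_eq_mul.1 (mul_inv_eq_one.1 e))
  -- `A` is not cyclic, as `y` moves `a`
  have hAc : ¬ IsCyclic A := fun hc => by
    have h2 : ∀ x : A, x * x = 1 := fun x => Subtype.ext (h.two_group_sq hA x.2)
    have hle : Nat.card A ≤ 2 := by
      obtain ⟨g, hg⟩ := IsCyclic.exists_ofOrder_eq_natCard (α := A)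
      rw [← hg]
      exact Nat.le_of_dvd two_pos (orderOf_dvd_of_pow_eq_one (by rw [pow_two, h2]))
    have h1 : y * a * y⁻¹ ≠ a := fun e => ha1 (hfix 1 one_pos hp.one_lt a haA (by simpa using e))
    have h3 : y * a * y⁻¹ ≠ 1 := fun e => ha1 (by
      calc a = y⁻¹ * (y * a * y⁻¹) * y := by group
        _ = 1 := by rw [e]; group)
    have : 3 ≤ Nat.card A := by
      have hsub : ({1, a, y * a * y⁻¹} : Set G) ⊆ A := by
        rintro x (rfl | rfl | rfl)
        exacts [one_mem A, haA, hyA a haA]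
      have := Set.ncard_le_ncard hsub (Set.toFinite _)
      rw [Set.ncard_eq_three.2 ⟨1, a, y * a * y⁻¹, ha1.symm, h3.symm, h1.symm, rfl⟩] at this
      rwa [← Nat.card_coe_set_eq] at this
    omega
  have hKr : IsPGroup r K := h.odd_is_r_group hKodd hA hAc (Subgroup.le_normalizer_of_normal)
  set W := (center K).map K.subtype with hW
  haveI : W.Normal := inferInstance
  have hWK : W ≤ K := map_subtype_le _
  obtain ⟨w, hw, hw1⟩ : ∃ w ∈ W, w ≠ 1 := by
    haveI : Nontrivial K := (Subgroup.nontrivial_iff_ne_bot K).2 hne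
    haveI := hKr.center_nontrivial
    obtain ⟨z, hz⟩ := exists_ne (1 : center K)
    exact ⟨_, ⟨z.1, z.2, rfl⟩, fun e => hz (Subtype.ext (Subtype.ext e))⟩
  have hWc : ∀ u ∈ W, ∀ v ∈ W, u * v = v * u := by
    rintro _ ⟨u, hu, rfl⟩ _ ⟨v, -, rfl⟩
    exact congrArg Subtype.val ((mem_center_iff.1 hu v).symm)
  have hcent := h.fpf_centralizes hA hWc (fun v hv => h.r_group_exp hKr (hWK hv)) hp hp2 hy
    (fun u _ v hv => (inferInstance : W.Normal).conj_mem v hv u)
    (fun v hv => (inferInstance : W.Normal).conj_mem v hv y) hyA hfix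
  set R := centralizer (W : Set G) with hR
  have haR : a ∈ R := mem_centralizer_iff.2 fun v hv => (hcent a haA v hv).symm
  have hwr : orderOf w = r := h.orderOf_eq_r (h.r_group_exp hKr (hWK hw)) hw1
  have hRs : Group.IsSolvable R := (h.subgroup R).solvable_of_primes fun q hq hqd => by
    haveI : Fact q.Prime := ⟨hq⟩
    obtain ⟨c, hc⟩ := exists_prime_orderOf_dvd_card' q hqd
    rw [← Subgroup.orderOf_coe] at hc
    exact h.prime_of_commute_r hq hwr hc (mem_centralizer_iff.1 c.2 w hw)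
  -- its image modulo the core
  set f := QuotientGroup.mk' K with hf
  have hRn : (R.map f).Normal := Subgroup.Normal.map inferInstance f (QuotientGroup.mk'_surjective K)
  have hRs' : Group.IsSolvable (R.map f) := Cfsg.Agent.Coprime.isSolvable_map f hRs
  have hRne : R.map f ≠ ⊥ := fun e => by
    have : a ∈ K := (QuotientGroup.eq_one_iff a).1 (Subgroup.mem_bot.1 (e ▸ mem_map_of_mem f haR))
    have h1 := K.orderOf_dvd_natCard this
    rw [orderOf_eq_prime (by rw [pow_two]; exact h.two_group_sq hA haA) ha1] at h1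
    exact Nat.not_even_iff_odd.2 hKodd (even_iff_two_dvd.2 h1)
  have hQns : ¬ Group.IsSolvable (G ⧸ K) := fun hq =>
    hns (solvable_ext K (Cfsg.Agent.S0205.result hKodd) hq)
  obtain ⟨B, hBn, hB, hB1⟩ := exists_normal_two_group InvChar.Core.oddCore_quotient_oddCore_eq_bot hRn
    hRs' hRne
  exact hB1 ((h.quotient K).two_core_eq_bot hQns hBn hB)

theorem solvable_normal_eq_bot (hns : ¬ Group.IsSolvable G) {R : Subgroup G} (hRn : R.Normal)
    (hs : Group.IsSolvable R) : R = ⊥ := by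
  by_contra hne
  obtain ⟨B, hBn, hB, hB1⟩ := exists_normal_two_group (h.oddCore_eq_bot hns) hRn hs hne
  exact hB1 (h.two_core_eq_bot hns hBn hB)

end Hyp

end Cfsg.Agent.ThreeOrders
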