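import Mathlib
import Cfsg.Agent.S0217
import Cfsg.Agent.S0223
import Cfsg.Agent.Lib.Cores.Fitting
import Cfsg.Agent.Lib.Involutions.StronglyEmbedded
import Cfsg.Agent.Lib.ThreeOrders.Cores

/-!
With a Sylow 2-subgroup of order at least eight, its normaliser contains the centraliser of each of its
involutions and is strongly embedded.
-/

set_option autoImplicit false
set_option linter.style.haveILetI false

namespace Cfsg.Agent.ThreeOrders

open Subgroup

universe u

variable {G : Type u} [Group G] [Finite G] {r : ℕ}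

/-- A solvable group without odd core whose Sylow 2-subgroup is abelian. -/
theorem sylow_normal_of_core {H : Type*} [Group H] [Finite H] (hs : Group.IsSolvable H)
    (hO : Cfsg.oddCore H = ⊥) (P : Sylow 2 H) (hPc : ∀ x ∈ (P : Subgroup H), ∀ y ∈ (P : Subgroup H), x * y = y * x) :
    (P : Subgroup H).Normal ∧ centralizer ((P : Subgroup H) : Set H) ≤ P := by
  haveI := hs
  haveI : Fact (Nat.Prime 2) := ⟨Nat.prime_two⟩
  have hF : Cfsg.fittingSubgroup H ≤ Cfsg.pCore 2 H := by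
    rw [Cores.fittingSubgroup_eq_iSup]
    refine iSup_le fun p => ?_
    have hp := Nat.prime_of_mem_primeFactors p.2
    haveI : Fact (p : ℕ).Prime := ⟨hp⟩
    by_cases h2 : (p : ℕ) = 2
    · rw [h2]
    · obtain ⟨n, hn⟩ := (Cores.pCore_isPGroup (G := H) (p : ℕ)).exists_card_eq
      have hle : Cfsg.pCore (p : ℕ) H ≤ Cfsg.oddCore H := Cores.le_oddCore (by
        rw [hn]; exact (hp.odd_of_ne_two h2).pow)
      exact hle.trans (hO.le.trans bot_le)
  have hFP : Cfsg.fittingSubgroup H ≤ (P : Subgroup H) := hF.trans (Cores.pCore_le_sylow P)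
  have hC := Cores.centralizer_fittingSubgroup_le (G := H)
  have hPF : (P : Subgroup H) ≤ Cfsg.fittingSubgroup H :=
    (show (P : Subgroup H) ≤ centralizer (Cfsg.fittingSubgroup H : Set H) from
      fun x hx => mem_centralizer_iff.2 fun y hy => hPc y (hFP hy) x hx).trans hC
  have hEq : (P : Subgroup H) = Cfsg.fittingSubgroup H := le_antisymm hPF hFP
  refine ⟨hEq ▸ inferInstance, ?_⟩
  conv_rhs => rw [hEq]
  rw [hEq]
  exact hC

theorem eq_one_of_odd_two {x : G} {K : Subgroup G} (hK : Odd (Nat.card K)) (hx : x ∈ K) {P : Subgroup G}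
    (hP : IsPGroup 2 P) (hxP : x ∈ P) : x = 1 := by
  obtain ⟨k, hk⟩ := hP ⟨x, hxP⟩
  have h1 : x ^ 2 ^ k = 1 := by simpa using congrArg Subtype.val hk
  have h2 := pow_gcd_eq_one.2 ⟨h1, orderOf_dvd_iff_pow_eq_one.1 (K.orderOf_dvd_natCard hx)⟩
  rwa [((Nat.coprime_two_left.2 hK).pow_left k).gcd_eq_one, pow_one] at h2

/-- The odd core of the centraliser, as a subgroup of the group. -/
def theta (t : G) : Subgroup G :=
  (Cfsg.oddCore (centralizer ({t} : Set G))).map (centralizer ({t} : Set G)).subtype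

theorem theta_le (t : G) : theta t ≤ centralizer ({t} : Set G) := map_subtype_le _

theorem theta_odd (t : G) : Odd (Nat.card (theta t)) := by
  rw [theta, card_map_of_injective (Subgroup.subtype_injective _)]
  exact InvChar.Core.odd_card_oddCore

theorem theta_normal {t c x : G} (hc : c ∈ centralizer ({t} : Set G)) (hx : x ∈ theta t) :
    c * x * c⁻¹ ∈ theta t := by
  obtain ⟨y, hy, rfl⟩ := hx
  haveI : (Cfsg.oddCore (centralizer ({t} : Set G))).Normal := ZStar.Main.oddCore_normal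
  exact ⟨⟨c, hc⟩ * y * ⟨c, hc⟩⁻¹, Normal.conj_mem inferInstance y hy ⟨c, hc⟩, rfl⟩

theorem le_theta {t : G} {K : Subgroup G} (hK : K ≤ centralizer ({t} : Set G)) (hodd : Odd (Nat.card K))
    (hn : ∀ c ∈ centralizer ({t} : Set G), ∀ x ∈ K, c * x * c⁻¹ ∈ K) : K ≤ theta t := by
  set C := centralizer ({t} : Set G)
  have h1 : K.subgroupOf C ≤ Cfsg.oddCore C := InvChar.Core.le_oddCore
    ⟨fun x hx c => by
      rw [mem_subgroupOf] at hx ⊢
      exact hn c c.2 x hx⟩
    (by rw [Nat.card_congr (subgroupOfEquivOfLe hK).toEquiv]; exact hodd)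
  intro x hx
  exact ⟨⟨x, hK hx⟩, h1 (mem_subgroupOf.2 hx), rfl⟩

theorem theta_conj {t n x : G} (hx : x ∈ theta t) : n * x * n⁻¹ ∈ theta (n * t * n⁻¹) := by
  refine le_theta (K := (theta t).map (MulAut.conj n).toMonoidHom) ?_ ?_ ?_ ⟨x, hx, rfl⟩
  · rintro _ ⟨y, hy, rfl⟩
    rw [mem_centralizer_singleton_iff]
    have := mem_centralizer_singleton_iff.1 (theta_le t hy)
    simp only [MulEquiv.coe_toMonoidHom, MulAut.conj_apply]
    calc n * y * n⁻¹ * (n * t * n⁻¹) = n * (y * t) * n⁻¹ := by group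
      _ = n * t * n⁻¹ * (n * y * n⁻¹) := by rw [this]; group
  · rw [card_map_of_injective (MulAut.conj n).injective]; exact theta_odd t
  · rintro c hc _ ⟨y, hy, rfl⟩
    have hc' : n⁻¹ * c * n ∈ centralizer ({t} : Set G) := by
      rw [mem_centralizer_singleton_iff] at hc ⊢
      calc n⁻¹ * c * n * t = n⁻¹ * (c * (n * t * n⁻¹)) * n := by group
        _ = t * (n⁻¹ * c * n) := by rw [hc]; group
    refine ⟨_, theta_normal hc' hy, ?_⟩
    simp only [MulEquiv.coe_toMonoidHom, MulAut.conj_apply]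
    group

namespace Hyp

variable (h : Hyp G r) (S : Sylow 2 G)

include h

theorem le_cent {t : G} (ht : t ∈ (S : Subgroup G)) :
    (S : Subgroup G) ≤ centralizer ({t} : Set G) :=
  fun _ hs => mem_centralizer_singleton_iff.2 (h.two_group_comm S.isPGroup' hs ht)

theorem orderOf_two {t : G} (ht : t ∈ (S : Subgroup G)) (ht1 : t ≠ 1) : orderOf t = 2 :=
  haveI : Fact (Nat.Prime 2) := ⟨Nat.prime_two⟩
  orderOf_eq_prime (by rw [pow_two]; exact h.two_group_sq S.isPGroup' ht) ht1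

/-- The centraliser of an involution modulo its odd core. -/
theorem cent_quotient {t : G} (ht : t ∈ (S : Subgroup G)) (ht1 : t ≠ 1) :
    let C := centralizer ({t} : Set G)
    let f := QuotientGroup.mk' (Cfsg.oddCore C)
    (((S : Subgroup G).subgroupOf C).map f).Normal ∧
      centralizer ((((S : Subgroup G).subgroupOf C).map f : Subgroup (C ⧸ Cfsg.oddCore C)) : Set (C ⧸ Cfsg.oddCore C)) ≤
        ((S : Subgroup G).subgroupOf C).map f := by
  intro C f
  haveI : Fact (Nat.Prime 2) := ⟨Nat.prime_two⟩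
  haveI := h.cent_solvable (h.orderOf_two S ht ht1)
  have hSC : (S : Subgroup G) ≤ C := h.le_cent S ht
  set SC : Sylow 2 C := S.subtype hSC
  have hf : Function.Surjective f := QuotientGroup.mk'_surjective _
  refine sylow_normal_of_core (Group.isSolvable_of_surjective hf)
    InvChar.Core.oddCore_quotient_oddCore_eq_bot (SC.mapSurjective hf) ?_
  rintro _ ⟨x, hx, rfl⟩ _ ⟨y, hy, rfl⟩
  rw [← map_mul, ← map_mul]
  congr 1
  exact Subtype.ext (h.two_group_comm S.isPGroup' hx hy)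

/-- An odd subgroup of `C(t)` normalised by `S` lies in the odd core. -/
theorem le_theta_of_norm {t : G} (ht : t ∈ (S : Subgroup G)) (ht1 : t ≠ 1) {X : Subgroup G}
    (hX : X ≤ centralizer ({t} : Set G)) (hodd : Odd (Nat.card X))
    (hn : ∀ s ∈ (S : Subgroup G), ∀ x ∈ X, s * x * s⁻¹ ∈ X) : X ≤ theta t := by
  obtain ⟨hSn, hSc⟩ := h.cent_quotient S ht ht1
  set C := centralizer ({t} : Set G)
  set f := QuotientGroup.mk' (Cfsg.oddCore C)
  intro x hx
  refine ⟨⟨x, hX hx⟩, ?_, rfl⟩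
  have hXodd : Odd (Nat.card ((X.subgroupOf C).map f)) :=
    hodd.of_dvd_nat ((card_map_dvd _ _).trans (by rw [Nat.card_congr (subgroupOfEquivOfLe hX).toEquiv]))
  have hP : IsPGroup 2 (((S : Subgroup G).subgroupOf C).map f) :=
    ((S.isPGroup'.of_equiv (subgroupOfEquivOfLe (h.le_cent S ht)).symm)).map f
  have hxm : f ⟨x, hX hx⟩ ∈ (X.subgroupOf C).map f := mem_map_of_mem f (mem_subgroupOf.2 hx)
  have hcomm : f ⟨x, hX hx⟩ ∈ centralizer ((((S : Subgroup G).subgroupOf C).map f :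
      Subgroup (C ⧸ Cfsg.oddCore C)) : Set (C ⧸ Cfsg.oddCore C)) := by
    rw [mem_centralizer_iff]
    rintro _ ⟨s, hs, rfl⟩
    have h1 : f ⟨x, hX hx⟩ * f s * (f ⟨x, hX hx⟩)⁻¹ * (f s)⁻¹ ∈ (X.subgroupOf C).map f := by
      rw [show f ⟨x, hX hx⟩ * f s * (f ⟨x, hX hx⟩)⁻¹ * (f s)⁻¹
        = f ⟨x, hX hx⟩ * (f s * (f ⟨x, hX hx⟩)⁻¹ * (f s)⁻¹) by group, ← map_inv, ← map_inv, ← map_mul,
        ← map_mul]
      exact mul_mem hxm (mem_map_of_mem f (mem_subgroupOf.2 (hn s hs _ (inv_mem hx))))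
    have h2 : f ⟨x, hX hx⟩ * f s * (f ⟨x, hX hx⟩)⁻¹ * (f s)⁻¹ ∈ ((S : Subgroup G).subgroupOf C).map f :=
      mul_mem (hSn.conj_mem _ (mem_map_of_mem f hs) _) (inv_mem (mem_map_of_mem f hs))
    exact (mul_inv_eq_iff_eq_mul.1 (mul_inv_eq_one.1 (eq_one_of_odd_two hXodd h1 hP h2))).symm
  exact (QuotientGroup.eq_one_iff _).1 (eq_one_of_odd_two hXodd hxm hP (hSc hcomm))

/-- Frattini argument for `C(t)`. -/
theorem cent_le_sup {t : G} (ht : t ∈ (S : Subgroup G)) (ht1 : t ≠ 1) :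
    centralizer ({t} : Set G) ≤ theta t ⊔ normalizer ((S : Subgroup G) : Set G) := by
  haveI : Fact (Nat.Prime 2) := ⟨Nat.prime_two⟩
  obtain ⟨hSn, -⟩ := h.cent_quotient S ht ht1
  set C := centralizer ({t} : Set G)
  set f := QuotientGroup.mk' (Cfsg.oddCore C)
  set SC : Sylow 2 C := S.subtype (h.le_cent S ht)
  set K := (((S : Subgroup G).subgroupOf C).map f).comap f
  haveI : K.Normal := hSn.comap f
  have hSK : (SC : Subgroup C) ≤ K := le_comap_map f _
  have htop := Sylow.normalizer_sup_eq_top' SC hSK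
  intro x hx
  have hmem : (⟨x, hx⟩ : C) ∈ normalizer ((SC : Subgroup C) : Set C) ⊔ K := htop ▸ mem_top _
  rw [show K = (SC : Subgroup C) ⊔ Cfsg.oddCore C by
    rw [show K = ((SC : Subgroup C).map f).comap f from rfl, comap_map_eq, QuotientGroup.ker_mk'],
    ← sup_assoc, sup_eq_left.2 le_normalizer] at hmem
  have := mem_map_of_mem C.subtype hmem
  rw [Subgroup.map_sup, sup_comm] at this
  refine SetLike.le_def.1 (sup_le_sup le_rfl ?_) this
  rintro _ ⟨n, hn, rfl⟩
  rw [mem_normalizer_iff]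
  intro s
  have key := fun hs => mem_normalizer_iff.1 hn ⟨s, hs⟩
  constructor
  · intro hs
    exact (key (h.le_cent S ht hs)).1 hs
  · intro hs
    have hsC : s ∈ C := by
      have := C.mul_mem (C.mul_mem (inv_mem n.2) (h.le_cent S ht hs)) n.2
      simpa [mul_assoc] using this
    exact (key hsC).2 hs

end Hyp

/-- `A = [S, y]` centralises every `r`-group normalised by `A` and `y`. -/
theorem Hyp.centralizes_r_group (h : Hyp G r) {W A : Subgroup G} (hA : IsPGroup 2 A) (hW : IsPGroup r W)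
    {y : G} {p : ℕ} (hp : p.Prime) (hp2 : p ≠ 2) (hy : orderOf y = p)
    (hAW : ∀ a ∈ A, ∀ w ∈ W, a * w * a⁻¹ ∈ W)
    (hyW : ∀ w ∈ W, y * w * y⁻¹ ∈ W) (hyA : ∀ a ∈ A, y * a * y⁻¹ ∈ A)
    (hfix : ∀ i, 0 < i → i < p → ∀ a ∈ A, y ^ i * a * (y ^ i)⁻¹ = a → a = 1) :
    ∀ a ∈ A, ∀ w ∈ W, a * w = w * a := by
  suffices key : ∀ (n : ℕ) (G : Type u) [Group G] [Finite G] (_ : Hyp G r) (W A : Subgroup G),
      Nat.card W = n → IsPGroup 2 A → IsPGroup r W → ∀ (y : G), orderOf y = p →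
      (∀ a ∈ A, ∀ w ∈ W, a * w * a⁻¹ ∈ W) → (∀ w ∈ W, y * w * y⁻¹ ∈ W) → (∀ a ∈ A, y * a * y⁻¹ ∈ A) →
      (∀ i, 0 < i → i < p → ∀ a ∈ A, y ^ i * a * (y ^ i)⁻¹ = a → a = 1) →
      ∀ a ∈ A, ∀ w ∈ W, a * w = w * a from
    key _ G h W A rfl hA hW y hy hAW hyW hyA hfix
  clear * - hp hp2
  intro n
  induction n using Nat.strong_induction_on with
  | _ n ih =>
    intro G _ _ h W A hn hA hW y hy hAW hyW hyA hfix a ha w hw
    haveI : Fact r.Prime := ⟨h.prime⟩
    haveI : Fact p.Prime := ⟨hp⟩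
    by_cases hA1 : ∀ b ∈ A, b = 1
    · simp [hA1 a ha]
    by_cases hW1 : W = ⊥
    · simp [Subgroup.mem_bot.1 (hW1 ▸ hw)]
    -- work in the normaliser
    set N := normalizer (W : Set G)
    have hyn : y ∈ N := mem_normalizer_fintype fun v hv => hyW v hv
    have hAN : A ≤ N := fun b hb => mem_normalizer_fintype fun v hv => hAW b hb v hv
    set Z := (center W).map W.subtype
    have hZW : Z ≤ W := map_subtype_le _
    have hZc : ∀ u ∈ Z, ∀ v ∈ W, u * v = v * u := by
      rintro _ ⟨u, hu, rfl⟩ v hv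
      exact congrArg Subtype.val ((mem_center_iff.1 hu ⟨v, hv⟩).symm)
    have hZn : ∀ g ∈ N, ∀ z ∈ Z, g * z * g⁻¹ ∈ Z := by
      intro g hg z hz
      refine ⟨⟨g * z * g⁻¹, (mem_normalizer_iff.1 hg z).1 (hZW hz)⟩, mem_center_iff.2 fun v => ?_, rfl⟩
      refine Subtype.ext ?_
      have hv' : g⁻¹ * v * g ∈ W := (mem_normalizer_iff.1 hg _).2 (by simpa [mul_assoc] using v.2)
      show (v : G) * (g * z * g⁻¹) = g * z * g⁻¹ * v
      calc (v : G) * (g * z * g⁻¹) = g * ((g⁻¹ * v * g) * z) * g⁻¹ := by group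
        _ = g * (z * (g⁻¹ * v * g)) * g⁻¹ := by rw [hZc z hz _ hv']
        _ = _ := by group
    have hZA := h.fpf_centralizes hA (fun u hu v hv => hZc u hu v (hZW hv))
      (fun u hu => h.r_group_exp hW (hZW hu)) hp hp2 hy (fun b hb => hZn b (hAN hb)) (hZn y hyn) hyA hfix
    -- the centre is non-trivial
    have hZ1 : Z ≠ ⊥ := by
      intro e
      haveI : Nontrivial W := (Subgroup.nontrivial_iff_ne_bot W).2 hW1
      haveI := hW.center_nontrivial
      exact (Subgroup.nontrivial_iff_ne_bot (center W)).1 inferInstance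
        ((map_eq_bot_iff_of_injective _ W.subtype_injective).1 e)
    set Z' := Z.subgroupOf N with hZ'
    haveI : Z'.Normal := ⟨fun z hz g => hZn g g.2 z hz⟩
    set f := QuotientGroup.mk' Z'
    set W' := (W.subgroupOf N).map f
    set A' := (A.subgroupOf N).map f
    have hWN : W ≤ N := le_normalizer
    have hy' : orderOf (f ⟨y, hyn⟩) = p := by
      refine orderOf_eq_prime (by rw [← map_pow]; exact (QuotientGroup.eq_one_iff _).2 (by
        rw [show (⟨y, hyn⟩ : N) ^ p = 1 from Subtype.ext (by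
          simp [← hy, pow_orderOf_eq_one])]; exact one_mem _)) fun e => hA1 fun b hb => ?_
      have hyZ : y ∈ Z := mem_subgroupOf.1 ((QuotientGroup.eq_one_iff (⟨y, hyn⟩ : N)).1 e)
      refine hfix 1 one_pos hp.one_lt b hb ?_
      rw [pow_one, ← hZA b hb y hyZ, mul_inv_cancel_right]
    have hcard : Nat.card W' < n := by
      have h1 : Nat.card W' * Nat.card Z' = Nat.card (W.subgroupOf N) := by
        have h2 := Cores.card_comap_mk' Z' W'
        have h3 : W'.comap f = W.subgroupOf N := by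
          rw [comap_map_eq, QuotientGroup.ker_mk', sup_eq_left]
          exact fun z hz => hZW hz
        rw [← h3]
        rw [h2]; ring
      have hZ'c : Nat.card Z' = Nat.card Z :=
        Nat.card_congr (subgroupOfEquivOfLe (hZW.trans hWN)).toEquiv
      have hW'c : Nat.card (W.subgroupOf N) = n := by
        rw [Nat.card_congr (subgroupOfEquivOfLe hWN).toEquiv, hn]
      have h4 : 1 < Nat.card Z := (Subgroup.one_lt_card_iff_ne_bot Z).2 hZ1
      rw [hZ'c, hW'c] at h1
      rw [← h1]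
      exact (lt_mul_iff_one_lt_right Nat.card_pos).2 h4
    have hrec := ih _ hcard (N ⧸ Z') ((h.subgroup N).quotient Z') W' A' rfl
      ((hA.of_equiv (subgroupOfEquivOfLe hAN).symm).map f)
      ((hW.of_equiv (subgroupOfEquivOfLe hWN).symm).map f) (f ⟨y, hyn⟩) hy'
      (by
        rintro _ ⟨b, hb, rfl⟩ _ ⟨v, hv, rfl⟩
        exact ⟨b * v * b⁻¹, hAW b hb v hv, by simp⟩)
      (by
        rintro _ ⟨v, hv, rfl⟩
        exact ⟨⟨y, hyn⟩ * v * ⟨y, hyn⟩⁻¹, hyW v hv, by simp⟩)
      (by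
        rintro _ ⟨b, hb, rfl⟩
        exact ⟨⟨y, hyn⟩ * b * ⟨y, hyn⟩⁻¹, hyA b hb, by simp⟩)
      (by
        rintro i hi hip _ ⟨b, hb, rfl⟩ e
        rw [← map_pow, ← map_inv, ← map_mul, ← map_mul, ← mul_inv_eq_one, ← map_inv, ← map_mul] at e
        have hz : y ^ i * b * (y ^ i)⁻¹ * (b : G)⁻¹ ∈ Z := by
          have := (QuotientGroup.eq_one_iff _).1 e
          simpa [Z', mem_subgroupOf] using this
        have hyib : ∀ (j : ℕ), ∀ c ∈ A, y ^ j * c * (y ^ j)⁻¹ ∈ A := by
          intro j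
          induction j with
          | zero => intro c hc; simpa using hc
          | succ j ihj =>
            intro c hc
            rw [show y ^ (j + 1) * c * (y ^ (j + 1))⁻¹ = y * (y ^ j * c * (y ^ j)⁻¹) * y⁻¹ by
              rw [pow_succ']; group]
            exact hyA _ (ihj c hc)
        have hm : y ^ i * b * (y ^ i)⁻¹ * (b : G)⁻¹ ∈ A := mul_mem (hyib i _ hb) (inv_mem hb)
        have hZodd : Odd (Nat.card W) := by
          obtain ⟨k, hk⟩ := hW.exists_card_eq
          rw [hk]; exact h.odd_r.pow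
        have hb1 : (b : G) = 1 :=
          hfix i hi hip b hb (mul_inv_eq_one.1 (eq_one_of_odd_two hZodd (hZW hz) hA hm))
        rw [show b = 1 from Subtype.ext hb1, map_one])
      (f ⟨a, hAN ha⟩) ⟨⟨a, hAN ha⟩, ha, rfl⟩ (f ⟨w, hWN hw⟩) ⟨⟨w, hWN hw⟩, hw, rfl⟩
    rw [← map_mul, ← map_mul] at hrec
    have hz : w⁻¹ * (a * w * a⁻¹) ∈ Z := by
      have e : f ((⟨w, hWN hw⟩ : N)⁻¹ * (⟨a, hAN ha⟩ * ⟨w, hWN hw⟩ * ⟨a, hAN ha⟩⁻¹)) = 1 := by
        rw [map_mul, map_mul, hrec, map_inv, map_inv, map_mul]; group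
      simpa [Z', mem_subgroupOf] using (QuotientGroup.eq_one_iff _).1 e
    set z := w⁻¹ * (a * w * a⁻¹) with hzdef
    have haw : a * w * a⁻¹ = w * z := by rw [hzdef]; group
    have haz : a * z * a⁻¹ = z := by rw [hZA a ha z hz, mul_inv_cancel_right]
    have ha2 := h.two_group_sq hA ha
    have hainv : a⁻¹ = a := inv_eq_of_mul_eq_one_right ha2
    have hz2 : z ^ 2 = 1 := by
      have h1 : w = w * z * z := by
        calc w = (a * a) * w * (a * a)⁻¹ := by rw [ha2]; group
          _ = a * (a * w * a⁻¹) * a⁻¹ := by group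
          _ = a * (w * z) * a⁻¹ := by rw [haw]
          _ = (a * w * a⁻¹) * (a * z * a⁻¹) := by group
          _ = w * z * z := by rw [haw, haz]
      rw [mul_assoc] at h1
      rw [pow_two]
      exact mul_eq_left.1 h1.symm
    have hz1 : z = 1 := by
      have h1 := h.r_group_exp hW (hZW hz)
      have h3 := pow_gcd_eq_one.2 ⟨hz2, h1⟩
      rwa [(Nat.coprime_two_left.2 h.odd_r).gcd_eq_one, pow_one] at h3
    rw [hz1, mul_one] at haw
    exact mul_inv_eq_iff_eq_mul.1 haw

namespace Hyp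

variable (h : Hyp G r) (hns : ¬ Group.IsSolvable G) (S : Sylow 2 G) (h8 : 8 ≤ Nat.card (S : Subgroup G))

include h hns h8

theorem not_normal_S : ¬ (S : Subgroup G).Normal := fun hn => by
  have := h.two_core_eq_bot hns hn S.isPGroup'
  rw [this, Subgroup.card_bot] at h8
  omega

omit hns in
theorem not_cyclic : ¬ IsCyclic (S : Subgroup G) := fun hc => by
  obtain ⟨g, hg⟩ := IsCyclic.exists_ofOrder_eq_natCard (α := (S : Subgroup G))
  have : orderOf g ≤ 2 := Nat.le_of_dvd two_pos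
    (orderOf_dvd_of_pow_eq_one (Subtype.ext (by simpa [pow_two] using h.two_group_sq S.isPGroup' g.2)))
  omega

/-- The signaliser: a subgroup `W` of odd order cutting each odd core out. -/
theorem exists_signalizer : ∃ W : Subgroup G, Odd (Nat.card W) ∧ IsPGroup r W ∧
    normalizer ((S : Subgroup G) : Set G) ≤ normalizer (W : Set G) ∧
    ∀ a ∈ (S : Subgroup G), a ≠ 1 → W ⊓ centralizer ({a} : Set G) = theta a := by
  haveI : Fact (Nat.Prime 2) := ⟨Nat.prime_two⟩
  have h217 := Cfsg.Agent.S0217.result (p := 2) (S : Subgroup G)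
    (fun a ha b hb => h.two_group_comm S.isPGroup' ha hb)
    (fun a ha => by rw [pow_two]; exact h.two_group_sq S.isPGroup' ha) (by simpa using h8) theta
    (fun a _ _ => theta_le a)
    (fun a _ _ hd => Nat.not_even_iff_odd.2 (theta_odd a) (even_iff_two_dvd.2 hd))
    (fun a ha _ b hb x hx => theta_normal (h.le_cent S ha hb) hx)
    (fun a _ _ => Cfsg.Agent.S0205.result (theta_odd a))
    (fun a ha _ b hb hb1 => h.le_theta_of_norm S hb hb1 inf_le_right
      ((theta_odd a).of_dvd_nat (card_dvd_of_le inf_le_left)) fun s hs x hx =>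
      ⟨theta_normal (h.le_cent S ha hs) hx.1,
        Subgroup.mul_mem _ (Subgroup.mul_mem _ (h.le_cent S hb hs) hx.2)
          (Subgroup.inv_mem _ (h.le_cent S hb hs))⟩)
  set W := ⨆ a : {a : G // a ∈ (S : Subgroup G) ∧ a ≠ 1}, theta (a : G) with hWdef
  have hodd : Odd (Nat.card W) := Nat.odd_iff.2 (Nat.two_dvd_ne_zero.1 h217.1)
  have hnorm : normalizer ((S : Subgroup G) : Set G) ≤ normalizer (W : Set G) := by
    intro n hn
    refine mem_normalizer_fintype fun x hx => ?_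
    have hle : W ≤ W.comap (MulAut.conj n).toMonoidHom := by
      refine iSup_le fun a v hv => ?_
      have h1 : n * (a : G) * n⁻¹ ∈ (S : Subgroup G) := (mem_normalizer_iff.1 hn a).1 a.2.1
      have h2 : n * (a : G) * n⁻¹ ≠ 1 := fun e => a.2.2 (by
        calc (a : G) = n⁻¹ * (n * a * n⁻¹) * n := by group
          _ = 1 := by rw [e]; group)
      exact le_iSup (fun b : {a : G // a ∈ (S : Subgroup G) ∧ a ≠ 1} => theta (b : G)) ⟨_, h1, h2⟩
        (theta_conj hv)
    exact hle hx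
  refine ⟨W, hodd, ?_, hnorm, fun a ha ha1 => h217.2 a ha ha1⟩
  exact h.odd_is_r_group hodd S.isPGroup' (h.not_cyclic S h8) (le_normalizer.trans hnorm)

theorem cent_le_normalizer {t : G} (htS : t ∈ (S : Subgroup G)) (ht1 : t ≠ 1) :
    centralizer ({t} : Set G) ≤ normalizer ((S : Subgroup G) : Set G) := by
  haveI : Fact (Nat.Prime 2) := ⟨Nat.prime_two⟩
  obtain ⟨W, hWodd, hWr, hNW, hcut⟩ := h.exists_signalizer hns S h8
  -- `W` is centralised by `S`
  have hSW : ∀ b ∈ (S : Subgroup G), ∀ w ∈ W, b * w = w * b := by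
    by_cases hW1 : W = ⊥
    · intro b _ w hw
      rw [hW1, mem_bot] at hw
      simp [hw]
    obtain ⟨y, p, hp, hp2, hy, hyS, s, hs, hys⟩ := h.exists_mover hns S
    obtain ⟨A, hAS, hA, hyA, hfix, hAcomm⟩ := h.exists_fpf S.isPGroup' hp hp2 hy hyS
    set a := y * s * y⁻¹ * s⁻¹ with had
    have haA : a ∈ A := hAcomm s hs
    have ha1 : a ≠ 1 := fun e => hys (mul_inv_eq_iff_eq_mul.1 (mul_inv_eq_one.1 e))
    have hyN : y ∈ normalizer ((S : Subgroup G) : Set G) := mem_normalizer_fintype fun u hu => hyS u hu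
    have hc := h.centralizes_r_group hA hWr hp hp2 hy
      (fun b hb w hw => (mem_normalizer_iff.1 ((le_normalizer.trans hNW) (hAS hb)) w).1 hw)
      (fun w hw => (mem_normalizer_iff.1 (hNW hyN) w).1 hw) hyA hfix
    have haW : theta a = W := by
      rw [← hcut a (hAS haA) ha1, inf_eq_left]
      exact fun w hw => mem_centralizer_singleton_iff.2 (hc a haA w hw).symm
    set M₀ := normalizer (W : Set G)
    have hCle : ∀ b ∈ (S : Subgroup G), b ≠ 1 → centralizer ({b} : Set G) ≤ M₀ := fun b hb hb1 =>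
      (h.cent_le_sup S hb hb1).trans (sup_le
        ((hcut b hb hb1).symm.le.trans (inf_le_left.trans le_normalizer)) hNW)
    have hne : M₀ ≠ ⊤ := fun e => by
      haveI : W.Normal := normalizer_eq_top_iff.1 e
      exact hW1 (le_bot_iff.1 (h.oddCore_eq_bot hns ▸ InvChar.Core.le_oddCore inferInstance hWodd))
    have hSM : (S : Subgroup G) ≤ M₀ := le_normalizer.trans hNW
    have hconjS : ∀ t ∈ M₀, orderOf t = 2 → ∃ m ∈ M₀, m * t * m⁻¹ ∈ (S : Subgroup G) := by
      intro t ht ht2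
      have hP : IsPGroup 2 (zpowers (⟨t, ht⟩ : M₀)) := IsPGroup.of_card (n := 1) (by
        rw [Nat.card_zpowers, ← Subgroup.orderOf_coe, ht2, pow_one])
      obtain ⟨Q, hQ⟩ := hP.exists_le_sylow
      obtain ⟨m, hm⟩ := MulAction.exists_smul_eq M₀ Q (S.subtype hSM)
      refine ⟨m, m.2, ?_⟩
      have : m * ⟨t, ht⟩ * m⁻¹ ∈ ((S.subtype hSM : Sylow 2 M₀) : Subgroup M₀) := by
        rw [← hm, Sylow.coe_subgroup_smul]
        exact ⟨⟨t, ht⟩, hQ (mem_zpowers _), rfl⟩
      exact this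
    have hcomm : ∀ x ∈ (S : Subgroup G), x ∈ centralizer ((S : Subgroup G) : Set G) := fun x hx =>
      mem_centralizer_iff.2 fun u hu => h.two_group_comm S.isPGroup' hu hx
    have hfus : ∀ x ∈ (S : Subgroup G), ∀ g : G, g * x * g⁻¹ ∈ (S : Subgroup G) →
        ∃ n ∈ normalizer ((S : Subgroup G) : Set G), g * x * g⁻¹ = n * x * n⁻¹ := by
      intro x hx g hg
      obtain ⟨n, hn, e⟩ := S.conj_eq_normalizer_conj_of_mem_centralizer x g⁻¹ (hcomm x hx)
        (by rw [inv_inv]; exact hcomm _ hg)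
      exact ⟨n⁻¹, inv_mem hn, by rw [inv_inv] at e ⊢; exact e⟩
    have hSE : Cfsg.IsStronglyEmbedded M₀ := by
      obtain ⟨b, hb, hb1⟩ : ∃ b ∈ (S : Subgroup G), b ≠ 1 := ⟨a, hAS haA, ha1⟩
      have heven : Even (Nat.card M₀) := even_iff_two_dvd.2
        (h.orderOf_two S hb hb1 ▸ M₀.orderOf_dvd_natCard (hSM hb))
      refine (Cfsg.Agent.S0223.result M₀ hne heven).2 ⟨fun t ht ht2 => ?_, fun t ht u hu ht2 hu2 hc => ?_⟩
      · obtain ⟨m, hm, hmt⟩ := hconjS t ht ht2
        have hmt1 : m * t * m⁻¹ ≠ 1 := fun e => by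
          rw [conj_eq_one_iff] at e; rw [e, orderOf_one] at ht2; omega
        intro c hc
        have : m * c * m⁻¹ ∈ M₀ := hCle _ hmt hmt1 (mem_centralizer_singleton_iff.2 (by
          rw [mem_centralizer_singleton_iff] at hc
          calc m * c * m⁻¹ * (m * t * m⁻¹) = m * (c * t) * m⁻¹ := by group
            _ = m * t * m⁻¹ * (m * c * m⁻¹) := by rw [hc]; group))
        have h1 := mul_mem (mul_mem (inv_mem hm) this) hm
        simpa [mul_assoc] using h1
      · obtain ⟨g, hg⟩ := isConj_iff.1 hc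
        obtain ⟨m, hm, hmt⟩ := hconjS t ht ht2
        obtain ⟨k, hk, hku⟩ := hconjS u hu hu2
        obtain ⟨n, hn, e⟩ := hfus _ hmt (k * g * m⁻¹) (by
          rw [show k * g * m⁻¹ * (m * t * m⁻¹) * (k * g * m⁻¹)⁻¹ = k * (g * t * g⁻¹) * k⁻¹ by group, hg]
          exact hku)
        refine ⟨k⁻¹ * n * m, mul_mem (mul_mem (inv_mem hk) (hNW hn)) hm, ?_⟩
        calc k⁻¹ * n * m * t * (k⁻¹ * n * m)⁻¹ = k⁻¹ * (n * (m * t * m⁻¹) * n⁻¹) * k := by group
          _ = u := by rw [← e, ← hg]; group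
    obtain ⟨u, huM, hu⟩ := Involutions.StronglyEmbedded.exists_involution_notMem hSE
    intro b hb w hw
    by_cases hb1 : b = 1
    · simp [hb1]
    -- `b` is conjugate to `a` under the normaliser of `S`
    obtain ⟨d, hd, hdab⟩ := Involutions.StronglyEmbedded.exists_conj_in_inter hSE hu huM
      (h.orderOf_two S (hAS haA) ha1) (hSM (hAS haA)) (h.orderOf_two S hb hb1) (hSM hb)
    obtain ⟨n, hn, e⟩ := hfus a (hAS haA) d (hdab ▸ hb)
    have hw' : n⁻¹ * w * n ∈ theta a := by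
      rw [haW]
      exact (mem_normalizer_iff.1 (hNW hn) _).2 (by simpa [mul_assoc] using hw)
    have h1 := theta_conj (n := n) hw'
    rw [← e, hdab, show n * (n⁻¹ * w * n) * n⁻¹ = w by group] at h1
    exact (mem_centralizer_singleton_iff.1 (theta_le b h1)).symm
  refine (h.cent_le_sup S htS ht1).trans (sup_le ?_ le_rfl)
  have hle : theta t ≤ W := (hcut t htS ht1).symm.le.trans inf_le_left
  intro w hw
  refine mem_normalizer_fintype fun u hu => ?_
  rw [← hSW u hu w (hle hw), mul_inv_cancel_right]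
  exact hu

theorem isStronglyEmbedded : Cfsg.IsStronglyEmbedded (normalizer ((S : Subgroup G) : Set G)) := by
  haveI : Fact (Nat.Prime 2) := ⟨Nat.prime_two⟩
  set M := normalizer ((S : Subgroup G) : Set G)
  have hne : M ≠ ⊤ := fun e => h.not_normal_S hns S h8 (normalizer_eq_top_iff.1 e)
  obtain ⟨b, hb, hb1⟩ := (Subgroup.bot_or_exists_ne_one (S : Subgroup G)).resolve_left (fun e => by
    rw [e, Subgroup.card_bot] at h8; omega)
  have hinv : ∀ t ∈ M, orderOf t = 2 → t ∈ (S : Subgroup G) := by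
    intro t ht ht2
    have hP : IsPGroup 2 (zpowers t) := IsPGroup.of_card (n := 1) (by
      rw [Nat.card_zpowers, ht2, pow_one])
    rw [← S.is_maximal' (hP.to_sup_of_normal_right' S.isPGroup' (zpowers_le.2 ht)) le_sup_right]
    exact mem_sup_left (mem_zpowers t)
  refine (Cfsg.Agent.S0223.result M hne (even_iff_two_dvd.2
    (h.orderOf_two S hb hb1 ▸ M.orderOf_dvd_natCard (le_normalizer hb)))).2
    ⟨fun t ht ht2 => h.cent_le_normalizer hns S h8 (hinv t ht ht2) (fun e => by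
      rw [e, orderOf_one] at ht2; omega), fun t ht u hu ht2 hu2 hc => ?_⟩
  obtain ⟨g, hg⟩ := isConj_iff.1 hc
  obtain ⟨n, hn, e⟩ := S.conj_eq_normalizer_conj_of_mem_centralizer t g⁻¹
    (mem_centralizer_iff.2 fun v hv => h.two_group_comm S.isPGroup' hv (hinv t ht ht2))
    (mem_centralizer_iff.2 fun v hv => h.two_group_comm S.isPGroup' hv (by
      rw [inv_inv, hg]; exact hinv u hu hu2))
  exact ⟨n⁻¹, inv_mem hn, by rw [inv_inv] at e ⊢; exact e.symm.trans hg⟩

theorem involutions_isConj {a b : G} (ha : orderOf a = 2) (hb : orderOf b = 2) : IsConj a b :=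
  Involutions.StronglyEmbedded.isConj_involutions (h.isStronglyEmbedded hns S h8) ha hb

end Hyp

end Cfsg.Agent.ThreeOrders
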