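import Mathlib
import Cfsg.Agent.S0058
import Cfsg.Agent.Lib.ThreeOrders.Action
import Cfsg.Agent.Lib.ThreeOrders.Local

/-!
The normaliser of the Sylow 2-subgroup and the action it induces.
-/

set_option autoImplicit false
set_option linter.style.haveILetI false

namespace Cfsg.Agent.ThreeOrders

open Subgroup

universe u

variable {G : Type u} [Group G] [Finite G] {r : ℕ}

/-- The setting: a non-solvable group with a Sylow 2-subgroup of order at least eight. -/
structure Big (S : Sylow 2 G) (r : ℕ) : Prop where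
  hyp : Hyp G r
  ns : ¬ Group.IsSolvable G
  eight : 8 ≤ Nat.card (S : Subgroup G)

omit [Finite G] in
theorem card_comap_eq {H : Type*} [Group H] (f : G →* H) {C : Subgroup H} (hC : C ≤ f.range) :
    Nat.card (C.comap f) = Nat.card C * Nat.card f.ker := by
  set g := f.comp (C.comap f).subtype
  have hr : g.range = C := by
    rw [MonoidHom.range_comp, Subgroup.range_subtype, map_comap_eq_self hC]
  have hk : Nat.card g.ker = Nat.card f.ker := by
    rw [show g.ker = f.ker.subgroupOf (C.comap f) from (MonoidHom.comap_ker f _).symm]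
    exact Nat.card_congr (subgroupOfEquivOfLe (ker_le_comap f C)).toEquiv
  rw [← Subgroup.card_mul_index g.ker, index_ker, hr, hk, mul_comm]

namespace Big

variable {S : Sylow 2 G} (h : Big S r)

include h

local notation "Mn" => normalizer ((S : Subgroup G) : Set G)
local notation "Cs" => centralizer ((S : Subgroup G) : Set G)

theorem cent_le {t : G} (ht : t ∈ (S : Subgroup G)) (ht1 : t ≠ 1) :
    centralizer ({t} : Set G) ≤ Mn :=
  h.hyp.cent_le_normalizer h.ns S h.eight ht ht1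

theorem se : Cfsg.IsStronglyEmbedded Mn := h.hyp.isStronglyEmbedded h.ns S h.eight

omit h in
theorem mem_S_of_two {t : G} (ht : t ∈ Mn) {k : ℕ} (ht2 : t ^ 2 ^ k = 1) : t ∈ (S : Subgroup G) := by
  haveI : Fact (Nat.Prime 2) := ⟨Nat.prime_two⟩
  have hP : IsPGroup 2 (zpowers t) := by
    rintro ⟨_, i, rfl⟩
    exact ⟨k, Subtype.ext (by push_cast; rw [← zpow_natCast, zpow_comm, zpow_natCast, ht2, one_zpow])⟩
  rw [← S.is_maximal' (hP.to_sup_of_normal_right' S.isPGroup' (zpowers_le.2 ht)) le_sup_right]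
  exact mem_sup_left (mem_zpowers t)

omit h in
theorem mem_S_of_involution {t : G} (ht : t ∈ Mn) (ht2 : orderOf t = 2) : t ∈ (S : Subgroup G) :=
  mem_S_of_two ht (k := 1) (by rw [pow_one, ← ht2, pow_orderOf_eq_one])

theorem exists_ne : ∃ t ∈ (S : Subgroup G), t ≠ 1 :=
  (Subgroup.bot_or_exists_ne_one (S : Subgroup G)).resolve_left (fun e => by
    have := h.eight
    rw [e, Subgroup.card_bot] at this
    omega)

theorem le_cs : (S : Subgroup G) ≤ Cs :=
  fun _ hx => mem_centralizer_iff.2 fun _ hs => h.hyp.two_group_comm S.isPGroup' hs hx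

omit h in
theorem cs_le : Cs ≤ Mn :=
  fun x hx => mem_normalizer_fintype fun s hs => by
    rw [← (mem_centralizer_iff.1 hx s hs), mul_inv_cancel_right]
    exact hs

omit h in
theorem conj_cs {x c : G} (hx : x ∈ Mn) (hc : c ∈ Cs) : x * c * x⁻¹ ∈ Cs := by
  rw [mem_centralizer_iff]
  intro s hs
  have h1 : x⁻¹ * s * x ∈ (S : Subgroup G) := by
    have := (mem_normalizer_iff.1 (inv_mem hx) s).1 hs
    rwa [inv_inv] at this
  calc s * (x * c * x⁻¹) = x * ((x⁻¹ * s * x) * c) * x⁻¹ := by group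
    _ = x * (c * (x⁻¹ * s * x)) * x⁻¹ := by rw [mem_centralizer_iff.1 hc _ h1]
    _ = x * c * x⁻¹ * s := by group

/-- An element commuting with an involution has exponent `2r`. -/
theorem pow_of_commute {t x : G} (ht : t ∈ (S : Subgroup G)) (ht1 : t ≠ 1) (hc : Commute x t) :
    x ^ (2 * r) = 1 := by
  rcases Nat.even_or_odd (orderOf x) with he | ho
  · rcases h.hyp.even_order x (even_iff_two_dvd.1 he) with e | e
    · rw [pow_mul, ← e, pow_orderOf_eq_one, one_pow]
    · rw [← e, pow_orderOf_eq_one]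
  · rw [mul_comm, pow_mul, h.hyp.pow_r_of_commute (h.hyp.orderOf_two S ht ht1) hc ho, one_pow]

/-- A solvable subgroup over `S` lies in the normaliser. -/
theorem le_M_of_solvable {H : Subgroup G} (hSH : (S : Subgroup G) ≤ H) (hs : Group.IsSolvable H) :
    H ≤ Mn := by
  haveI : Fact (Nat.Prime 2) := ⟨Nat.prime_two⟩
  haveI := hs
  set K := (Cfsg.oddCore H).map H.subtype with hK
  have hKodd : Odd (Nat.card K) := by
    rw [card_map_of_injective H.subtype_injective]; exact InvChar.Core.odd_card_oddCore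
  haveI : (Cfsg.oddCore H).Normal := ZStar.Main.oddCore_normal
  have hKn : ∀ x ∈ H, ∀ k ∈ K, x * k * x⁻¹ ∈ K := by
    rintro x hx _ ⟨k, hk, rfl⟩
    exact ⟨⟨x, hx⟩ * k * ⟨x, hx⟩⁻¹, Normal.conj_mem inferInstance k hk ⟨x, hx⟩, rfl⟩
  have hSK : (S : Subgroup G) ≤ normalizer (K : Set G) :=
    fun s hs' => mem_normalizer_fintype fun k hk => hKn s (hSH hs') k hk
  haveI : IsMulCommutative (S : Subgroup G) :=
    ⟨⟨fun a b => Subtype.ext (h.hyp.two_group_comm S.isPGroup' a.2 b.2)⟩⟩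
  have hKM : K ≤ Mn := by
    have hgen := Cfsg.Agent.S0058.result (S : Subgroup G) K (h.hyp.not_cyclic S h.eight) hSK (by
      obtain ⟨a, ha⟩ := S.isPGroup'.exists_card_eq
      rw [ha]; exact (Nat.coprime_two_left.2 hKodd).pow_left a)
    rw [← hgen]
    exact iSup₂_le fun a ha => inf_le_right.trans (h.cent_le ha.1 ha.2)
  have hKS : ∀ k ∈ K, ∀ s ∈ (S : Subgroup G), k * s = s * k := by
    intro k hk s hs'
    have h1 : k * s * k⁻¹ * s⁻¹ ∈ (S : Subgroup G) :=
      mul_mem ((mem_normalizer_iff.1 (hKM hk) s).1 hs') (inv_mem hs')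
    have h2 : k * s * k⁻¹ * s⁻¹ ∈ K := by
      rw [show k * s * k⁻¹ * s⁻¹ = k * (s * k⁻¹ * s⁻¹) by group]
      exact mul_mem hk (hKn s (hSH hs') _ (inv_mem hk))
    exact mul_inv_eq_iff_eq_mul.1 (mul_inv_eq_one.1 (eq_one_of_odd_two hKodd h2 S.isPGroup' h1))
  intro x hx
  refine mem_normalizer_fintype fun s hs' => ?_
  -- modulo the odd core the Sylow subgroup is normal
  set f := QuotientGroup.mk' (Cfsg.oddCore H)
  set SH : Sylow 2 H := S.subtype hSH
  have hf : Function.Surjective f := QuotientGroup.mk'_surjective _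
  obtain ⟨hn, -⟩ := sylow_normal_of_core (Group.isSolvable_of_surjective hf)
    InvChar.Core.oddCore_quotient_oddCore_eq_bot (SH.mapSurjective hf) (by
      rintro _ ⟨a, ha, rfl⟩ _ ⟨b, hb, rfl⟩
      rw [← map_mul, ← map_mul]
      congr 1
      exact Subtype.ext (h.hyp.two_group_comm S.isPGroup' ha hb))
  have hmem : f (⟨x, hx⟩ * ⟨s, hSH hs'⟩ * ⟨x, hx⟩⁻¹) ∈ ((SH : Subgroup H).map f) := by
    rw [map_mul, map_mul, map_inv]
    exact hn.conj_mem _ (mem_map_of_mem f (mem_subgroupOf.2 hs')) _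
  obtain ⟨⟨s', hs'H⟩, hs'S, e⟩ := hmem
  have hk : s'⁻¹ * (x * s * x⁻¹) ∈ K := by
    refine ⟨⟨s', hs'H⟩⁻¹ * (⟨x, hx⟩ * ⟨s, hSH hs'⟩ * ⟨x, hx⟩⁻¹), ?_, rfl⟩
    exact (QuotientGroup.eq_one_iff _).1 (by
      show f _ = 1
      rw [map_mul, map_inv, e, inv_mul_cancel])
  have hs'S' : s' ∈ (S : Subgroup G) := hs'S
  set k := s'⁻¹ * (x * s * x⁻¹) with hkdef
  have hk2 : k ^ 2 = 1 := by
    have hc : Commute s'⁻¹ k := (hKS k hk s'⁻¹ (inv_mem hs'S')).symm
    have e1 : x * s * x⁻¹ = s' * k := by rw [hkdef]; group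
    have hc' : Commute s' k := Commute.inv_left_iff.1 hc
    have e2 : (s' * k) ^ 2 = 1 := by rw [← e1, conj_pow, pow_two, h.hyp.two_group_sq S.isPGroup' hs']; group
    rwa [hc'.mul_pow, pow_two s', h.hyp.two_group_sq S.isPGroup' hs'S', one_mul] at e2
  have hk1 : k = 1 := by
    have h1 := pow_gcd_eq_one.2 ⟨hk2, orderOf_dvd_iff_pow_eq_one.1 (K.orderOf_dvd_natCard hk)⟩
    rwa [(Nat.coprime_two_left.2 hKodd).gcd_eq_one, pow_one] at h1
  rw [inv_mul_eq_one.1 hk1.symm.symm] at hs'S'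
  exact hs'S'

theorem cent_le_of_order_r {o : G} (ho : orderOf o = r) (hS : (S : Subgroup G) ≤ centralizer ({o} : Set G)) :
    centralizer ({o} : Set G) ≤ Mn :=
  h.le_M_of_solvable hS ((h.hyp.subgroup _).solvable_of_primes fun p hp hd => by
    haveI : Fact p.Prime := ⟨hp⟩
    obtain ⟨c, hc⟩ := exists_prime_orderOf_dvd_card' p hd
    rw [← Subgroup.orderOf_coe] at hc
    exact h.hyp.prime_of_commute_r hp ho hc (mem_centralizer_singleton_iff.1 c.2).symm)

/-- The centraliser of `S` is `S` times a group of exponent `r`. -/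
theorem exists_O : ∃ O : Subgroup G, O ≤ Cs ∧ IsPGroup r O ∧ Odd (Nat.card O) ∧
    (∀ o, o ∈ O ↔ o ∈ Cs ∧ o ^ r = 1) ∧
    (∀ x ∈ Cs, ∃ s ∈ (S : Subgroup G), ∃ o ∈ O, x = s * o) ∧
    Nat.card Cs = Nat.card (S : Subgroup G) * Nat.card O := by
  haveI : Fact (Nat.Prime 2) := ⟨Nat.prime_two⟩
  obtain ⟨t, ht, ht1⟩ := h.exists_ne
  set SC : Sylow 2 Cs := S.subtype h.le_cs
  have hle : normalizer ((SC : Subgroup Cs) : Set Cs) ≤ centralizer ((SC : Subgroup Cs) : Set Cs) :=
    fun x _ => mem_centralizer_iff.2 fun a ha => Subtype.ext (mem_centralizer_iff.1 x.2 a ha)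
  obtain ⟨N, hN⟩ : ∃ N : Subgroup Cs, N.IsComplement' (SC : Subgroup Cs) :=
    ⟨_, MonoidHom.ker_transferSylow_isComplement' SC hle⟩
  have hodd : Odd (Nat.card N) := by
    rw [Nat.odd_iff, ← Nat.two_dvd_ne_zero, ← hN.index_eq_card]
    exact SC.not_dvd_index
  have hcard : Nat.card (SC : Subgroup Cs) = Nat.card (S : Subgroup G) :=
    Nat.card_congr (subgroupOfEquivOfLe h.le_cs).toEquiv
  have hr : ∀ n ∈ N, (n : G) ^ r = 1 := fun n hn => by
    refine h.hyp.pow_r_of_commute (h.hyp.orderOf_two S ht ht1)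
      ((mem_centralizer_iff.1 n.2 t ht).symm) ?_
    rw [Subgroup.orderOf_coe]
    exact hodd.of_dvd_nat (N.orderOf_dvd_natCard hn)
  refine ⟨N.map (Cs).subtype, map_subtype_le _, ?_, ?_, fun o => ⟨?_, ?_⟩, ?_, ?_⟩
  · rintro ⟨_, n, hn, rfl⟩
    exact ⟨1, Subtype.ext (by simpa using hr n hn)⟩
  · rw [card_map_of_injective (Cs).subtype_injective]; exact hodd
  · rintro ⟨n, hn, rfl⟩
    exact ⟨n.2, hr n hn⟩
  · rintro ⟨hoC, hor⟩
    obtain ⟨⟨n, s⟩, e⟩ := hN.2 ⟨o, hoC⟩
    have e' : (n.1 : G) * (s.1 : G) = o := congrArg Subtype.val e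
    have hsS : (s.1 : G) ∈ (S : Subgroup G) := s.2
    have hc : Commute (n.1 : G) (s.1 : G) := (mem_centralizer_iff.1 n.1.2 _ hsS).symm
    rw [← e', hc.mul_pow, hr _ n.2, one_mul] at hor
    have h2 : (s.1 : G) ^ 2 = 1 := by rw [pow_two]; exact h.hyp.two_group_sq S.isPGroup' hsS
    have h3 := pow_gcd_eq_one.2 ⟨h2, hor⟩
    rw [(Nat.coprime_two_left.2 h.hyp.odd_r).gcd_eq_one, pow_one] at h3
    exact ⟨n.1, n.2, by rw [← e', h3, mul_one]; rfl⟩
  · intro x hx
    obtain ⟨⟨n, s⟩, e⟩ := hN.2 ⟨x, hx⟩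
    have e' : (n.1 : G) * (s.1 : G) = x := congrArg Subtype.val e
    exact ⟨s.1, s.2, n.1, ⟨n.1, n.2, rfl⟩, e'.symm.trans (mem_centralizer_iff.1 n.1.2 _ s.2).symm⟩
  · rw [card_map_of_injective (Cs).subtype_injective, ← hN.card_mul_card, hcard, mul_comm]

/-- The two shapes of the normaliser. -/
theorem cases :
    (Nat.card (S : Subgroup G) = r + 1 ∧ Nat.card Mn = r * Nat.card Cs ∧
      ∀ t ∈ (S : Subgroup G), t ≠ 1 → centralizer ({t} : Set G) ≤ Cs) ∨
    ∃ Mc : Subgroup G, Cs ≤ Mc ∧ Mc ≤ Mn ∧ (∀ x ∈ Mn, ∀ c ∈ Mc, x * c * x⁻¹ ∈ Mc) ∧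
      ¬ r ∣ Nat.card (S : Subgroup G) - 1 ∧
      Nat.card Mc = (Nat.card (S : Subgroup G) - 1) * Nat.card Cs ∧
      (∀ x ∈ Mc, ∀ t ∈ (S : Subgroup G), t ≠ 1 → Commute x t → x ∈ Cs) ∧
      (Mc = Mn ∨ Nat.card Mn = r * Nat.card Mc) := by
  classical
  haveI : Fact (Nat.Prime 2) := ⟨Nat.prime_two⟩
  haveI : Fact r.Prime := ⟨h.hyp.prime⟩
  letI : CommGroup (S : Subgroup G) :=
    { (inferInstance : Group (S : Subgroup G)) with
      mul_comm := fun a b => Subtype.ext (h.hyp.two_group_comm S.isPGroup' a.2 b.2) }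
  set f : Mn →* MulAut (S : Subgroup G) := (S : Subgroup G).normalizerMonoidHom
  have hfapp : ∀ (x : Mn) (s : (S : Subgroup G)), ((f x s : (S : Subgroup G)) : G) = x * s * (x : G)⁻¹ :=
    fun _ _ => rfl
  have hker : Nat.card f.ker = Nat.card Cs := by
    rw [(S : Subgroup G).normalizerMonoidHom_ker]
    exact Nat.card_congr (subgroupOfEquivOfLe cs_le).toEquiv
  have hkmem : ∀ x : Mn, f x = 1 ↔ (x : G) ∈ Cs := fun x => by
    rw [← MonoidHom.mem_ker, (S : Subgroup G).normalizerMonoidHom_ker, mem_subgroupOf]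
  have hMcard : Nat.card Mn = Nat.card f.range * Nat.card Cs := by
    rw [← Subgroup.card_mul_index f.ker, index_ker, hker, mul_comm]
  have hXodd : Odd (Nat.card f.range) := by
    rw [Nat.odd_iff, ← Nat.two_dvd_ne_zero, ← index_ker]
    intro hd
    have hle : (S : Subgroup G).subgroupOf Mn ≤ f.ker := fun x hx => by
      rw [MonoidHom.mem_ker, hkmem]; exact h.le_cs hx
    exact (S.subtype le_normalizer).not_dvd_index (hd.trans (index_dvd_of_le hle))
  have hpow : ∀ x : Mn, (x : G) ^ (2 * r) = 1 → f x ^ r = 1 := fun x hx => by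
    have h1 : (f x ^ r) ^ 2 = 1 := by
      rw [← pow_mul, mul_comm, ← map_pow, show x ^ (2 * r) = 1 from Subtype.ext (by simpa using hx), map_one]
    have h2 : (f x ^ r) ^ Nat.card f.range = 1 :=
      orderOf_dvd_iff_pow_eq_one.1 (f.range.orderOf_dvd_natCard (pow_mem (MonoidHom.mem_range.2 ⟨x, rfl⟩) r))
    have h3 := pow_gcd_eq_one.2 ⟨h1, h2⟩
    rwa [(Nat.coprime_two_left.2 hXodd).gcd_eq_one, pow_one] at h3
  have hAct : Act f.range r :=
    { prime := h.hyp.prime
      ne_two := h.hyp.ne_two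
      odd := hXodd
      sq := fun s => Subtype.ext (h.hyp.two_group_sq S.isPGroup' s.2)
      four := by have := h.eight; omega
      trans := fun s t hs ht => by
        have hs' : (s : G) ≠ 1 := fun e => hs (Subtype.ext e)
        have ht' : (t : G) ≠ 1 := fun e => ht (Subtype.ext e)
        obtain ⟨g, hg⟩ := isConj_iff.1 (h.hyp.involutions_isConj h.ns S h.eight
          (h.hyp.orderOf_two S s.2 hs') (h.hyp.orderOf_two S t.2 ht'))
        have hgM : g ∈ Mn := Involutions.StronglyEmbedded.mem_of_conj h.se (le_normalizer s.2)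
          (h.hyp.orderOf_two S s.2 hs') (hg.symm ▸ le_normalizer t.2)
        exact ⟨_, ⟨⟨g, hgM⟩, rfl⟩, Subtype.ext ((hfapp _ _).trans hg)⟩
      fix := by
        rintro _ ⟨x, rfl⟩ s hs e
        have e' : (x : G) * s * (x : G)⁻¹ = s := by rw [← hfapp, e]
        exact hpow x (h.pow_of_commute s.2 (fun e'' => hs (Subtype.ext e'')) (mul_inv_eq_iff_eq_mul.1 e'))
      r_pow := by
        rintro _ ⟨x, rfl⟩ hd
        have hd' : r ∣ orderOf (x : G) := by
          rw [Subgroup.orderOf_coe]; exact hd.trans (orderOf_map_dvd f x)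
        refine hpow x ?_
        rcases h.hyp.r_order _ hd' with e | e
        · rw [mul_comm, pow_mul, ← e, pow_orderOf_eq_one, one_pow]
        · rw [← e, pow_orderOf_eq_one] }
  have hlift : ∀ {x : G} (hx : x ∈ Mn) {t : G} (ht : t ∈ (S : Subgroup G)), Commute x t →
      f ⟨x, hx⟩ ⟨t, ht⟩ = ⟨t, ht⟩ := fun {x} hx {t} ht hc => Subtype.ext ((hfapp _ _).trans (by
        show x * t * x⁻¹ = t
        rw [hc.eq, mul_inv_cancel_right]))
  rcases hAct.cases with ⟨hX, hq⟩ | ⟨C, hC⟩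
  · refine Or.inl ⟨hq, by rw [hMcard, hX], fun t ht ht1 x hx => ?_⟩
    have hxM : x ∈ Mn := h.cent_le ht ht1 hx
    refine (hkmem ⟨x, hxM⟩).1 ?_
    by_contra hne
    have ht1' : (⟨t, ht⟩ : (S : Subgroup G)) ≠ 1 := fun e => ht1 (congrArg Subtype.val e)
    -- a generator of the image fixes an involution, so all are fixed
    have hfix := hlift hxM ht (mem_centralizer_singleton_iff.1 hx)
    have hgen : zpowers (f ⟨x, hxM⟩) = f.range := by
      refine eq_of_le_of_card_ge (zpowers_le.2 ⟨_, rfl⟩) ?_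
      rw [hX, Nat.card_zpowers]
      have hd : orderOf (f ⟨x, hxM⟩) ∣ r := hX ▸ f.range.orderOf_dvd_natCard ⟨_, rfl⟩
      rcases (Nat.dvd_prime h.hyp.prime).1 hd with e | e
      · exact absurd (orderOf_eq_one_iff.1 e) hne
      · rw [e]
    refine hne (Act.eq_one_of_fixes_all fun u hu => ?_)
    obtain ⟨y, hy, rfl⟩ := hAct.trans ⟨t, ht⟩ u ht1' hu
    rw [← hgen] at hy
    obtain ⟨i, rfl⟩ := hy
    show f ⟨x, hxM⟩ ((f ⟨x, hxM⟩ ^ i) ⟨t, ht⟩) = (f ⟨x, hxM⟩ ^ i) ⟨t, ht⟩
    rw [← MulAut.mul_apply, (Commute.self_zpow (f ⟨x, hxM⟩) i).eq, MulAut.mul_apply, hfix]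
  · refine Or.inr ⟨(C.comap f).map (Mn).subtype, ?_, map_subtype_le _, ?_, ?_, ?_, ?_, ?_⟩
    · intro x hx
      exact ⟨⟨x, cs_le hx⟩, by rw [SetLike.mem_coe, mem_comap, (hkmem _).2 hx]; exact one_mem C, rfl⟩
    · rintro x hx _ ⟨c, hc, rfl⟩
      refine ⟨⟨x, hx⟩ * c * ⟨x, hx⟩⁻¹, ?_, rfl⟩
      rw [SetLike.mem_coe, mem_comap, map_mul, map_mul, map_inv]
      exact hC.conj _ ⟨_, rfl⟩ _ hc
    · have h1 := hC.card
      rw [show Nat.card (S : Subgroup G) - 1 = Nat.card C by omega]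
      exact hC.not_dvd
    · have h1 := hC.card
      rw [show Nat.card (S : Subgroup G) - 1 = Nat.card C by omega,
        card_map_of_injective (Subgroup.subtype_injective _), card_comap_eq f hC.le, hker]
    · rintro _ ⟨x, hx, rfl⟩ t ht ht1 hc
      exact (hkmem x).1 (hC.free _ hx ⟨t, ht⟩ (fun e => ht1 (congrArg Subtype.val e)) (hlift x.2 ht hc))
    · rcases hC.index with e | ⟨e, -⟩
      · left
        refine eq_of_le_of_card_ge (map_subtype_le _) (le_of_eq ?_)
        rw [card_map_of_injective (Subgroup.subtype_injective _), card_comap_eq f hC.le, hker, hMcard, e]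
      · right
        rw [card_map_of_injective (Subgroup.subtype_injective _), card_comap_eq f hC.le, hker, hMcard, e,
          mul_assoc]

end Big

end Cfsg.Agent.ThreeOrders
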