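import Mathlib
import Cfsg.Agent.S0108
import Cfsg.Agent.S2202
import Cfsg.Agent.Lib.Cores.Nilpotent
import Cfsg.Agent.Lib.ThreeOrders.Struct

/-!
The normaliser of the Sylow 2-subgroup cannot induce a group of prime order `r = q - 1`.
-/

set_option autoImplicit false
set_option linter.style.haveILetI false

namespace Cfsg.Agent.ThreeOrders

open Subgroup

universe u

/-- In `SL(2, F)`, `F` of characteristic two, what commutes with an involution squares to one. -/
theorem sl_two_sq {F : Type*} [Field F] [CharP F 2] (t x : Matrix.SpecialLinearGroup (Fin 2) F)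
    (ht : t * t = 1) (ht1 : t ≠ 1) (hc : t * x = x * t) : x * x = 1 := by
  have e := congrArg (fun m : Matrix.SpecialLinearGroup (Fin 2) F => (m : Matrix (Fin 2) (Fin 2) F)) ht
  have c := congrArg (fun m : Matrix.SpecialLinearGroup (Fin 2) F => (m : Matrix (Fin 2) (Fin 2) F)) hc
  simp only [Matrix.SpecialLinearGroup.coe_mul, Matrix.SpecialLinearGroup.coe_one] at e c
  have e00 := congrFun (congrFun e 0) 0
  have e01 := congrFun (congrFun e 0) 1
  have e10 := congrFun (congrFun e 1) 0
  have e11 := congrFun (congrFun e 1) 1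
  have c01 := congrFun (congrFun c 0) 1
  have c10 := congrFun (congrFun c 1) 0
  simp [Matrix.mul_apply, Fin.sum_univ_two] at e00 e01 e10 e11 c01 c10
  have htd := t.2
  rw [Matrix.det_fin_two] at htd
  have hxd := x.2
  rw [Matrix.det_fin_two] at hxd
  set a := t.1 0 0
  set b := t.1 0 1
  set c' := t.1 1 0
  set d := t.1 1 1
  have hbc : b ≠ 0 ∨ c' ≠ 0 := by
    by_contra hne
    push Not at hne
    obtain ⟨hb, hc0⟩ := hne
    apply ht1
    rw [hb, hc0] at e00 e11
    have ha1 : a = 1 := by
      have h2 : (a - 1) * (a - 1) = 0 := by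
        linear_combination e00 + (1 - a) * (CharTwo.two_eq_zero (R := F))
      exact sub_eq_zero.1 (mul_self_eq_zero.1 h2)
    have hd1 : d = 1 := by
      have h2 : (d - 1) * (d - 1) = 0 := by
        linear_combination e11 + (1 - d) * (CharTwo.two_eq_zero (R := F))
      exact sub_eq_zero.1 (mul_self_eq_zero.1 h2)
    ext i j
    fin_cases i <;> fin_cases j <;> simp [a, b, c', d] at * <;> assumption
  set p := x.1 0 0
  set q := x.1 0 1
  set u := x.1 1 0
  set v := x.1 1 1
  have had : a = d := by
    rcases hbc with hb | hc0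
    · have h2 : b * (a - d) = 0 := by linear_combination e01 - (b * d) * (CharTwo.two_eq_zero (R := F))
      exact sub_eq_zero.1 ((mul_eq_zero.1 h2).resolve_left hb)
    · have h2 : c' * (a - d) = 0 := by linear_combination e10 - (c' * d) * (CharTwo.two_eq_zero (R := F))
      exact sub_eq_zero.1 ((mul_eq_zero.1 h2).resolve_left hc0)
  have hpv : p = v := by
    rcases hbc with hb | hc0
    · have h2 : b * (p - v) = 0 := by rw [had] at c01; linear_combination -c01
      exact sub_eq_zero.1 ((mul_eq_zero.1 h2).resolve_left hb)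
    · have h2 : c' * (p - v) = 0 := by rw [had] at c10; linear_combination c10
      exact sub_eq_zero.1 ((mul_eq_zero.1 h2).resolve_left hc0)
  ext i j
  simp only [Matrix.SpecialLinearGroup.coe_mul, Matrix.SpecialLinearGroup.coe_one, Matrix.mul_apply,
    Fin.sum_univ_two]
  fin_cases i <;> fin_cases j <;> simp
  · show p * p + q * u = 1
    rw [← hpv] at hxd
    linear_combination hxd + (q * u) * (CharTwo.two_eq_zero (R := F))
  · show p * q + q * v = 0
    rw [← hpv]
    linear_combination (p * q) * (CharTwo.two_eq_zero (R := F))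
  · show u * p + v * u = 0
    rw [← hpv]
    linear_combination (u * p) * (CharTwo.two_eq_zero (R := F))
  · show u * q + v * v = 1
    rw [← hpv] at hxd ⊢
    linear_combination hxd + (q * u) * (CharTwo.two_eq_zero (R := F))

variable {G : Type u} [Group G] [Finite G] {r : ℕ}

namespace Big

variable {S : Sylow 2 G} (h : Big S r)

include h

local notation "Mn" => normalizer ((S : Subgroup G) : Set G)
local notation "Cs" => centralizer ((S : Subgroup G) : Set G)

/-- An element of order `2r` gives one in a centraliser of an involution of `S`. -/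
theorem exists_r_in_cent (h2r : ∃ g : G, orderOf g = 2 * r) :
    ∃ t ∈ (S : Subgroup G), t ≠ 1 ∧ ∃ x, x ∈ centralizer ({t} : Set G) ∧ orderOf x = r := by
  obtain ⟨g, hg⟩ := h2r
  obtain ⟨t, ht, ht1⟩ := h.exists_ne
  have hr0 := h.hyp.prime.pos
  have h2 : orderOf (g ^ r) = 2 := by
    rw [orderOf_pow_of_dvd hr0.ne' (hg ▸ dvd_mul_left r 2), hg, Nat.mul_div_cancel _ hr0]
  have hr : orderOf (g ^ 2) = r := by
    rw [orderOf_pow_of_dvd two_ne_zero (hg ▸ dvd_mul_right 2 r), hg, Nat.mul_div_cancel_left _ two_pos]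
  obtain ⟨c, hc⟩ := isConj_iff.1 (h.hyp.involutions_isConj h.ns S h.eight h2 (h.hyp.orderOf_two S ht ht1))
  refine ⟨t, ht, ht1, c * g ^ 2 * c⁻¹, ?_, ?_⟩
  · rw [mem_centralizer_singleton_iff, ← hc]
    calc c * g ^ 2 * c⁻¹ * (c * g ^ r * c⁻¹) = c * (g ^ 2 * g ^ r) * c⁻¹ := by group
      _ = c * (g ^ r * g ^ 2) * c⁻¹ := by rw [← pow_add, ← pow_add, add_comm]
      _ = c * g ^ r * c⁻¹ * (c * g ^ 2 * c⁻¹) := by group
  · rw [show c * g ^ 2 * c⁻¹ = MulAut.conj c (g ^ 2) from rfl, MulEquiv.orderOf_eq, hr]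

/-- The first shape of the normaliser does not occur unless some quotient is an `r`-group by a normal
`r'`-subgroup. -/
theorem not_prime_shape (h2r : ∃ g : G, orderOf g = 2 * r)
    (hq : Nat.card (S : Subgroup G) = r + 1) (hM : Nat.card Mn = r * Nat.card Cs)
    (hreg : ∀ t ∈ (S : Subgroup G), t ≠ 1 → centralizer ({t} : Set G) ≤ Cs)
    (hres : ∀ (K : Subgroup G) [K.Normal], ¬ r ∣ Nat.card K → ¬ IsPGroup r (G ⧸ K)) : False := by
  classical
  haveI : Fact r.Prime := ⟨h.hyp.prime⟩
  haveI : Fact (Nat.Prime 2) := ⟨Nat.prime_two⟩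
  obtain ⟨O, hOC, hOr, -, hOiff, hOsplit, hCcard⟩ := h.exists_O
  obtain ⟨t, ht, ht1, x, hxt, hxo⟩ := h.exists_r_in_cent h2r
  have hxO : x ∈ O := (hOiff x).2 ⟨hreg t ht ht1 hxt, by rw [← hxo, pow_orderOf_eq_one]⟩
  have hx1 : x ≠ 1 := fun e => by
    rw [e, orderOf_one] at hxo; exact h.hyp.prime.ne_one hxo.symm
  obtain ⟨k, hk⟩ := hOr.exists_card_eq
  have hk0 : k ≠ 0 := fun e => by
    rw [e, pow_zero] at hk
    exact hx1 (Subgroup.mem_bot.1 (Subgroup.card_eq_one.1 hk ▸ hxO))
  have hSO : ∀ o ∈ O, ∀ s ∈ (S : Subgroup G), o * s = s * o :=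
    fun o ho s hs => (mem_centralizer_iff.1 (hOC ho) s hs).symm
  by_cases hk1 : k = 1
  · -- abelian centralisers
    subst hk1
    rw [pow_one] at hk
    haveI : IsCyclic O := isCyclic_of_prime_card hk
    have hCc : ∀ a ∈ Cs, ∀ b ∈ Cs, a * b = b * a := by
      intro a ha b hb
      obtain ⟨s, hs, o, ho, rfl⟩ := hOsplit a ha
      obtain ⟨s', hs', o', ho', rfl⟩ := hOsplit b hb
      have h1 : o * o' = o' * o :=
        congrArg Subtype.val (IsCyclic.commGroup.mul_comm (⟨o, ho⟩ : O) ⟨o', ho'⟩)
      calc s * o * (s' * o') = s * (o * s') * o' := by group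
        _ = s * (s' * o) * o' := by rw [hSO o ho s' hs']
        _ = (s * s') * (o * o') := by group
        _ = (s' * s) * (o' * o) := by rw [h.hyp.two_group_comm S.isPGroup' hs hs', h1]
        _ = s' * (s * o') * o := by group
        _ = s' * (o' * s) * o := by rw [hSO o' ho' s hs]
        _ = s' * o' * (s * o) := by group
    have hab : ∀ i : G, orderOf i = 2 → IsMulCommutative (centralizer ({i} : Set G)) := by
      intro i hi
      obtain ⟨c, hc⟩ := isConj_iff.1 (h.hyp.involutions_isConj h.ns S h.eight hi (h.hyp.orderOf_two S ht ht1))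
      refine ⟨⟨fun a b => Subtype.ext ?_⟩⟩
      have hmem : ∀ a ∈ centralizer ({i} : Set G), c * a * c⁻¹ ∈ Cs := fun a ha => hreg t ht ht1 (by
        rw [mem_centralizer_singleton_iff] at ha ⊢
        rw [← hc]
        calc c * a * c⁻¹ * (c * i * c⁻¹) = c * (a * i) * c⁻¹ := by group
          _ = c * i * c⁻¹ * (c * a * c⁻¹) := by rw [ha]; group)
      have h1 := hCc _ (hmem a a.2) _ (hmem b b.2)
      show (a : G) * b = b * a
      calc (a : G) * b = c⁻¹ * (c * a * c⁻¹ * (c * b * c⁻¹)) * c := by group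
        _ = c⁻¹ * (c * b * c⁻¹ * (c * a * c⁻¹)) * c := by rw [h1]
        _ = b * a := by group
    have heven : Even (Nat.card G) := even_iff_two_dvd.2 (by
      rw [← h.hyp.orderOf_two S ht ht1]; exact orderOf_dvd_natCard t)
    rcases Cfsg.Agent.S2202.result heven hab with hcyc | hnorm | ⟨F, _, _, A, _, _, hchar, hA, ⟨e⟩⟩
    · exact h.hyp.not_cyclic S h.eight (hcyc S)
    · exact h.hyp.not_normal_S h.ns S h.eight (hnorm S)
    · haveI := hchar
      set π : G →* A := (MonoidHom.snd _ _).comp e.toMonoidHom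
      have hA1 : ∀ a : A, a = 1 := fun a => by
        set L := ((MonoidHom.inr (Matrix.SpecialLinearGroup (Fin 2) F) A).range).map e.symm.toMonoidHom
        have hLn : L.Normal := Subgroup.Normal.map ⟨by
          rintro _ ⟨c, rfl⟩ ⟨g₁, g₂⟩
          exact ⟨g₂ * c * g₂⁻¹, by simp⟩⟩ _ e.symm.surjective
        have hLodd : Odd (Nat.card L) := by
          rw [card_map_of_injective e.symm.injective,
            ← Nat.card_congr (MonoidHom.ofInjective (f := MonoidHom.inr (Matrix.SpecialLinearGroup (Fin 2) F) A)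
              fun x y hxy => congrArg Prod.snd hxy).toEquiv]
          exact hA
        have hbot : L = ⊥ := le_bot_iff.1 (h.hyp.oddCore_eq_bot h.ns ▸ InvChar.Core.le_oddCore hLn hLodd)
        have h1 : e.symm (1, a) ∈ L := ⟨(1, a), ⟨a, rfl⟩, rfl⟩
        rw [hbot, Subgroup.mem_bot, ← map_one e.symm] at h1
        exact congrArg Prod.snd (e.symm.injective h1)
      · have hπ : ∀ g : G, (e g).2 = 1 := fun g => hA1 _
        have hsq := sl_two_sq (e t).1 (e x).1 (by
            rw [← Prod.fst_mul, ← map_mul, h.hyp.two_group_sq S.isPGroup' ht, map_one]; rfl)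
          (fun e1 => ht1 (e.injective (by rw [map_one]; exact Prod.ext e1 (hπ t))))
          (by rw [← Prod.fst_mul, ← Prod.fst_mul, ← map_mul, ← map_mul,
            mem_centralizer_singleton_iff.1 hxt])
        have h2 : x * x = 1 := e.injective (by
          rw [map_one]; exact Prod.ext (by rw [map_mul]; exact hsq) (hπ _))
        have h3 : r ∣ 2 := hxo ▸ orderOf_dvd_of_pow_eq_one (by rw [pow_two]; exact h2)
        exact h.hyp.ne_two ((Nat.prime_dvd_prime_iff_eq h.hyp.prime Nat.prime_two).1 h3)
  -- `O` has order at least `r ^ 2`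
  have hk2 : 2 ≤ k := by omega
  obtain ⟨R⟩ : Nonempty (Sylow r Mn) := inferInstance
  set K := (R : Subgroup Mn).map (Mn).subtype with hK
  have hKM : K ≤ Mn := map_subtype_le _
  have hKr : IsPGroup r K := R.isPGroup'.map _
  have hnd : ¬ r ∣ Nat.card (S : Subgroup G) := fun hd => by
    obtain ⟨a, ha⟩ := S.isPGroup'.exists_card_eq
    rw [ha] at hd
    exact h.hyp.ne_two ((Nat.prime_dvd_prime_iff_eq h.hyp.prime Nat.prime_two).1 (h.hyp.prime.dvd_of_dvd_pow hd))
  have hMc : Nat.card Mn = Nat.card (S : Subgroup G) * r ^ (k + 1) := by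
    rw [hM, hCcard, hk, pow_succ]; ring
  have hKcard : Nat.card K = r ^ (k + 1) := by
    rw [card_map_of_injective (Subgroup.subtype_injective _), R.card_eq_multiplicity, hMc,
      Nat.factorization_mul Nat.card_pos.ne' (pow_ne_zero _ h.hyp.prime.ne_zero), Finsupp.add_apply,
      Nat.factorization_eq_zero_of_not_dvd hnd, zero_add, h.hyp.prime.factorization_pow,
      Finsupp.single_eq_same]
  have hOn : ∀ m ∈ Mn, ∀ o ∈ O, m * o * m⁻¹ ∈ O := fun m hm o ho => (hOiff _).2
    ⟨conj_cs hm (hOC ho), by rw [conj_pow, ((hOiff o).1 ho).2]; group⟩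
  have hOK : O ≤ K := by
    have hOM : O ≤ Mn := hOC.trans cs_le
    haveI : (O.subgroupOf Mn).Normal := ⟨fun o ho m => hOn m m.2 o ho⟩
    have hle : O.subgroupOf Mn ≤ R :=
      Cores.le_pCore (hOr.of_equiv (subgroupOfEquivOfLe hOM).symm) |>.trans (Cores.pCore_le_sylow R)
    intro o ho
    exact ⟨⟨o, hOM ho⟩, hle (mem_subgroupOf.2 ho), rfl⟩
  have hOrel : O.relIndex K = r := by
    have h1 := relIndex_mul_relIndex ⊥ O K bot_le hOK
    rw [relIndex_bot_left, relIndex_bot_left, hk, hKcard, pow_succ] at h1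
    exact Nat.eq_of_mul_eq_mul_left (pow_pos h.hyp.prime.pos k) h1
  -- centralisers of elements of `O` lie in `M`
  have hSle : ∀ o ∈ O, (S : Subgroup G) ≤ centralizer ({o} : Set G) := fun o ho s hs =>
    mem_centralizer_singleton_iff.2 (hSO o ho s hs).symm
  have hCo : ∀ o ∈ O, o ≠ 1 → centralizer ({o} : Set G) ≤ Mn := fun o ho ho1 =>
    h.cent_le_of_order_r (h.hyp.orderOf_eq_r ((hOiff o).1 ho).2 ho1) (hSle o ho)
  have hnorm : ∀ (H : Subgroup G), H ≤ K → r ^ 2 < Nat.card H → ∀ g ∈ normalizer (H : Set G), g ∈ Mn := by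
    intro H hHK hH g hg
    obtain ⟨o, ho, ho1⟩ : ∃ o ∈ O ⊓ O.map (MulAut.conj g).toMonoidHom, o ≠ 1 := by
      refine (Subgroup.bot_or_exists_ne_one _).resolve_left fun e => ?_
      set O' := O.map (MulAut.conj g).toMonoidHom
      have hHc : H.map (MulAut.conj g).toMonoidHom = H := by
        ext y
        constructor
        · rintro ⟨z, hz, rfl⟩
          exact (mem_normalizer_iff.1 hg z).1 hz
        · intro hy
          exact ⟨g⁻¹ * y * g, (mem_normalizer_iff.1 hg _).2 (by simpa [mul_assoc] using hy), by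
            simp [mul_assoc]⟩
      have h1 : O.relIndex H ≤ r := hOrel ▸ relIndex_le_of_le_right hHK (by rw [hOrel]; exact h.hyp.prime.ne_zero)
      have h2 : O'.relIndex H ≤ r := by
        conv_lhs => rw [← hHc]
        rw [relIndex_map_map_of_injective _ _ (MulAut.conj g).injective]
        exact h1
      have h3 : (O ⊓ O').relIndex H ≤ r * r :=
        relIndex_inf_le.trans (Nat.mul_le_mul h1 h2)
      rw [e, relIndex_bot_left] at h3
      rw [pow_two] at hH
      omega
    obtain ⟨ho, ⟨o', ho', e⟩⟩ := ho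
    have e' : g * o' * g⁻¹ = o := e
    refine Involutions.StronglyEmbedded.mem_of_conj h.se (le_normalizer ht) (h.hyp.orderOf_two S ht ht1) ?_
    refine hCo o ho ho1 (mem_centralizer_singleton_iff.2 ?_)
    calc g * t * g⁻¹ * o = g * (t * o') * g⁻¹ := by rw [← e']; group
      _ = g * (o' * t) * g⁻¹ := by rw [hSO o' ho' t ht]
      _ = o * (g * t * g⁻¹) := by rw [← e']; group
  have hKbig : r ^ 2 < Nat.card K := by
    rw [hKcard]; exact Nat.pow_lt_pow_right h.hyp.prime.one_lt (by omega)
  -- `K` is a Sylow subgroup of the group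
  obtain ⟨P, hP⟩ := hKr.exists_le_sylow
  have hKmax : ∀ Q : Subgroup G, IsPGroup r Q → K ≤ Q → Q ≤ Mn → Q = K := fun Q hQ hKQ hQM => by
    have := R.is_maximal' (hQ.of_equiv (subgroupOfEquivOfLe hQM).symm)
      (fun y hy => mem_subgroupOf.2 (hKQ (mem_map_of_mem _ hy)))
    rw [hK, ← this, subgroupOf_map_subtype, inf_of_le_left hQM]
  have hPK : (P : Subgroup G) = K := by
    refine le_antisymm ?_ hP
    haveI := P.isPGroup'.isNilpotent
    rw [← Subgroup.subgroupOf_eq_top]
    refine (normalizerCondition_iff_only_full_group_self_normalizing.1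
      Group.normalizerCondition_of_isNilpotent) _ (le_antisymm (fun y hy => ?_) le_normalizer)
    have hyK : (y : G) ∈ normalizer (K : Set G) := mem_normalizer_fintype fun z hz =>
      (mem_normalizer_iff.1 hy ⟨z, hP hz⟩).1 hz
    have hQ := hKmax ((P : Subgroup G) ⊓ Mn) (P.isPGroup'.to_le inf_le_left) (le_inf hP hKM) inf_le_right
    exact mem_subgroupOf.2 (hQ ▸ ⟨y.2, hnorm K le_rfl hKbig _ hyK⟩)
  -- subgroups of `M` have normal complements
  have hcomp : ∀ H : Subgroup G, H ≤ Mn → Cfsg.HasNormalPComplement r H := by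
    intro H hHM
    obtain ⟨Q⟩ : Nonempty (Sylow r H) := inferInstance
    set N := (S : Subgroup G).subgroupOf H
    have hNn : N.Normal := ⟨fun s hs m => (mem_normalizer_iff.1 (hHM m.2) s).1 hs⟩
    refine ⟨Q, N, hNn, ?_⟩
    have hNd : ¬ r ∣ Nat.card N := fun hd => hnd (hd.trans (by
      rw [show Nat.card N = Nat.card (N.map H.subtype) from (card_map_of_injective H.subtype_injective).symm]
      exact card_dvd_of_le (by rw [subgroupOf_map_subtype]; exact inf_le_left)))
    have hidx : N.index ∣ r ^ (k + 1) := by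
      have h1 : (S : Subgroup G).relIndex H = ((S : Subgroup G).subgroupOf Mn).relIndex (H.subgroupOf Mn) :=
        (relIndex_subgroupOf hHM).symm
      haveI : ((S : Subgroup G).subgroupOf Mn).Normal := normal_in_normalizer
      show (S : Subgroup G).relIndex H ∣ _
      rw [h1]
      refine (relIndex_dvd_index_of_normal _ _).trans (dvd_of_eq ?_)
      have h2 := ((S : Subgroup G).subgroupOf Mn).card_mul_index
      rw [Nat.card_congr (subgroupOfEquivOfLe le_normalizer).toEquiv, hMc] at h2
      exact Nat.eq_of_mul_eq_mul_left Nat.card_pos h2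
    obtain ⟨j, -, hj⟩ := (Nat.dvd_prime_pow h.hyp.prime).1 hidx
    have hcard := N.card_mul_index
    have hQ : Nat.card Q = r ^ j := by
      rw [Q.card_eq_multiplicity, ← hcard, hj, Nat.factorization_mul Nat.card_pos.ne' (pow_ne_zero _ h.hyp.prime.ne_zero),
        Finsupp.add_apply, Nat.factorization_eq_zero_of_not_dvd hNd, zero_add, h.hyp.prime.factorization_pow,
        Finsupp.single_eq_same]
    refine isComplement'_of_coprime (by rw [hQ, ← hj, hcard]) ?_
    rw [hQ]
    exact ((h.hyp.prime.coprime_iff_not_dvd.2 hNd).symm).pow_right j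
  have hG : Cfsg.HasNormalPComplement r G := by
    refine (Cfsg.Agent.S0108.result h.hyp.ne_two P).2 ⟨hcomp _ (hnorm _ ?_ ?_), hcomp _ ?_⟩
    · rw [hPK]; exact map_subtype_le _
    · -- the Thompson subgroup has order above `r ^ 2`
      rw [hPK, Cfsg.thompsonSubgroupOf, card_map_of_injective K.subtype_injective]
      set J := Cfsg.thompsonSubgroup r K
      by_contra hle
      push Not at hle
      haveI : Nontrivial K := Finite.one_lt_card_iff_nontrivial.1 (by
        have := h.hyp.prime.one_lt; nlinarith)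
      haveI := hKr.center_nontrivial
      obtain ⟨⟨z, hz⟩, hz1⟩ := _root_.exists_ne (1 : center K)
      have hz1' : z ≠ 1 := fun e => hz1 (Subtype.ext e)
      have hexp : ∀ y : K, y ^ r = 1 := fun y => Subtype.ext (by
        simpa using h.hyp.r_group_exp hKr y.2)
      have hzo : orderOf z = r := orderOf_eq_prime (hexp z) hz1'
      have hElem : ∀ B : Subgroup K, (∀ a ∈ B, ∀ b ∈ B, a * b = b * a) → Cfsg.IsElementaryAbelian r B :=
        fun B hB => ⟨⟨⟨fun a b => Subtype.ext (hB a a.2 b b.2)⟩⟩, fun a _ => hexp a⟩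
      obtain ⟨A₀, hA₀⟩ : ∃ A, A ∈ Cfsg.maxElementaryAbelianSubgroups r K := by
        obtain ⟨A, hA, hmax⟩ := Set.exists_max_image {B : Subgroup K | Cfsg.IsElementaryAbelian r B}
          (fun B => Nat.card B) (Set.toFinite _) ⟨⊥, hElem ⊥ (fun a ha b hb => by
            simp [Subgroup.mem_bot.1 ha])⟩
        exact ⟨A, hA, hmax⟩
      have hmaxle : Nat.card A₀ ≤ r ^ 2 :=
        (Nat.le_of_dvd Nat.card_pos (card_dvd_of_le (le_sSup hA₀))).trans hle
      have hall : ∀ y : K, y ∉ zpowers z → y ∈ J := by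
        intro y hy
        set B := zpowers z ⊔ zpowers y
        have hBc : ∀ a ∈ B, ∀ b ∈ B, a * b = b * a := by
          haveI : IsMulCommutative B := by
            rw [show B = closure ({z, y} : Set K) by
              rw [show ({z, y} : Set K) = {z} ∪ {y} from rfl, Subgroup.closure_union, ← zpowers_eq_closure,
                ← zpowers_eq_closure]]
            refine Subgroup.isMulCommutative_closure ?_
            intro a ha b hb
            rcases ha with ea | ea <;> rcases hb with eb | eb <;> rw [ea, eb]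
            exacts [(mem_center_iff.1 hz y).symm, mem_center_iff.1 hz _]
          exact fun a ha b hb => congrArg Subtype.val (mul_comm' (⟨a, ha⟩ : B) ⟨b, hb⟩)
        obtain ⟨j, hj⟩ := (hKr.to_subgroup B).exists_card_eq
        have hlt : Nat.card (zpowers z) < Nat.card B := by
          refine lt_of_le_of_ne (Nat.le_of_dvd Nat.card_pos (card_dvd_of_le le_sup_left)) fun e => hy ?_
          rw [eq_of_le_of_card_ge (le_sup_left : zpowers z ≤ B) e.ge]
          exact mem_sup_right (mem_zpowers y)
        rw [Nat.card_zpowers, hzo, hj] at hlt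
        have hj2 : 2 ≤ j := by
          by_contra hj2
          have : r ^ j ≤ r ^ 1 := Nat.pow_le_pow_right h.hyp.prime.pos (by omega)
          rw [pow_one] at this
          omega
        have hBmax : B ∈ Cfsg.maxElementaryAbelianSubgroups r K := ⟨hElem B hBc, fun B' hB' =>
          (hA₀.2 B' hB').trans (hmaxle.trans (hj ▸ Nat.pow_le_pow_right h.hyp.prime.pos hj2))⟩
        exact le_sSup hBmax (mem_sup_right (mem_zpowers y))
      obtain ⟨y, hy⟩ : ∃ y : K, y ∉ zpowers z := by
        by_contra hno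
        push Not at hno
        have : Nat.card K ≤ Nat.card (zpowers z) :=
          Nat.card_le_card_of_injective (fun y => (⟨y, hno y⟩ : zpowers z)) fun a b e => congrArg Subtype.val e
        rw [Nat.card_zpowers, hzo] at this
        have := h.hyp.prime.one_lt
        nlinarith
      have hJtop : J = ⊤ := eq_top_iff.2 fun w _ => by
        by_cases hw : w ∈ zpowers z
        · have hwy : w * y ∉ zpowers z := fun e => hy (by
            have := mul_mem (inv_mem hw) e
            rwa [inv_mul_cancel_left] at this)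
          have := mul_mem (hall _ hwy) (inv_mem (hall _ hy))
          rwa [mul_inv_cancel_right] at this
        · exact hall w hw
      rw [hJtop, Subgroup.card_top] at hle
      omega
    · -- the centraliser of the centre
      rw [hPK]
      haveI : Nontrivial (O.subgroupOf K) := by
        refine Finite.one_lt_card_iff_nontrivial.1 ?_
        rw [Nat.card_congr (subgroupOfEquivOfLe hOK).toEquiv, hk]
        exact Nat.one_lt_pow hk0 h.hyp.prime.one_lt
      haveI : (O.subgroupOf K).Normal := ⟨fun o ho m => hOn m (hKM m.2) o ho⟩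
      haveI := hKr.isNilpotent
      obtain ⟨⟨z, hzK⟩, hz, hz1⟩ :=
        (Subgroup.bot_or_exists_ne_one ((O.subgroupOf K) ⊓ center K)).resolve_left
          (Cores.inf_center_ne_bot ((Subgroup.nontrivial_iff_ne_bot _).1 inferInstance))
      refine le_trans (centralizer_le (s := ({z} : Set G)) ?_) (hCo z hz.1 fun e => hz1 (Subtype.ext e))
      rintro _ rfl
      exact ⟨hzK, mem_centralizer_iff.2 fun w hw => congrArg Subtype.val (mem_center_iff.1 hz.2 ⟨w, hPK ▸ hw⟩)⟩
  obtain ⟨P', N, hNn, hN⟩ := hG
  haveI := hNn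
  refine hres N ?_ (P'.isPGroup'.of_equiv hN.symm.QuotientMulEquiv.symm)
  intro hd
  have h1 := P'.not_dvd_index
  rw [hN.index_eq_card] at h1
  exact h1 hd

end Big

end Cfsg.Agent.ThreeOrders
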