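import Mathlib
import Cfsg.Agent.S1222
import Cfsg.Agent.Lib.Partition.Count
import Cfsg.Agent.Lib.Coprime.SchurZassenhaus
import Cfsg.Agent.Lib.Classical.SmallIso
import Cfsg.Agent.Lib.Classical.UnitaryFrames
import Cfsg.Agent.Lib.PSLOrderSpectrum.Main
import Cfsg.Agent.Lib.ThreeOrders.CaseI

/-!
The second shape of the normaliser: either the centraliser of the Sylow 2-subgroup is a kernel in the
sense of rank one, or the Sylow 2-subgroup is regular on the other cosets of its normaliser.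
-/

set_option autoImplicit false
set_option linter.style.haveILetI false

namespace Cfsg.Agent.ThreeOrders

open Subgroup

universe u

theorem mem_of_pow_mem {G : Type*} [Group G] (H : Subgroup G) {x : G} {a b : ℕ} (ha : x ^ a ∈ H)
    (hb : x ^ b ∈ H) (hco : Nat.Coprime a b) : x ∈ H := by
  have e : (1 : ℤ) = (a : ℤ) * Nat.gcdA a b + (b : ℤ) * Nat.gcdB a b := by
    rw [← Nat.gcd_eq_gcd_ab, hco.gcd_eq_one, Nat.cast_one]
  have h1 : x ^ ((a : ℤ) * Nat.gcdA a b + (b : ℤ) * Nat.gcdB a b) ∈ H := by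
    rw [zpow_add, zpow_mul, zpow_mul, zpow_natCast, zpow_natCast]
    exact mul_mem (zpow_mem ha _) (zpow_mem hb _)
  rwa [← e, zpow_one] at h1

/-- The power to the relative index falls into a normal subgroup. -/
theorem pow_relIndex_mem {G : Type*} [Group G] {H K : Subgroup G} (hn : ∀ x ∈ K, ∀ y ∈ H, x * y * x⁻¹ ∈ H)
    (hHK : H ≤ K) {x : G} (hx : x ∈ K) : x ^ H.relIndex K ∈ H := by
  haveI : (H.subgroupOf K).Normal := ⟨fun y hy g => hn g g.2 y hy⟩
  have h1 : (⟨x, hx⟩ : K) ^ (H.subgroupOf K).index ∈ H.subgroupOf K :=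
    Subgroup.pow_index_mem _ _
  exact h1

theorem relIndex_of_card {G : Type*} [Group G] [Finite G] {H K : Subgroup G} (hHK : H ≤ K) {n : ℕ}
    (h : Nat.card K = n * Nat.card H) : H.relIndex K = n := by
  have h1 := relIndex_mul_relIndex ⊥ H K bot_le hHK
  rw [relIndex_bot_left, relIndex_bot_left, h, mul_comm] at h1
  exact Nat.eq_of_mul_eq_mul_right Nat.card_pos h1

/-- The 2-part of a number is unique. -/
theorem two_pow_eq {a b m n : ℕ} (hm : Odd m) (hn : Odd n) (h : 2 ^ a * m = 2 ^ b * n) :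
    a = b ∧ m = n := by
  have hab : ∀ {a b m n : ℕ}, Odd m → 2 ^ a * m = 2 ^ b * n → b ≤ a := by
    intro a b m n hm h
    by_contra hlt
    obtain ⟨c, rfl⟩ : ∃ c, b = a + (c + 1) := ⟨b - a - 1, by omega⟩
    rw [pow_add, mul_assoc] at h
    have h1 := Nat.eq_of_mul_eq_mul_left (Nat.two_pow_pos a) h
    rw [h1, pow_succ, mul_assoc] at hm
    exact Nat.not_even_iff_odd.2 hm ((even_two.mul_right n).mul_left _)
  have e : a = b := le_antisymm (hab hn h.symm) (hab hm h)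
  subst e
  exact ⟨rfl, Nat.eq_of_mul_eq_mul_left (Nat.two_pow_pos a) h⟩

variable {G : Type u} [Group G] [Finite G] {r : ℕ}

theorem card_ne_one_sub (H : Subgroup G) : Nat.card {x : H // x ≠ 1} = Nat.card H - 1 := by
  classical
  haveI : Fintype H := Fintype.ofFinite H
  rw [Nat.card_eq_fintype_card, Nat.card_eq_fintype_card, Fintype.card_subtype_compl,
    Fintype.card_subtype_eq]

namespace Big

variable {S : Sylow 2 G} (h : Big S r)

include h

local notation "Mn" => normalizer ((S : Subgroup G) : Set G)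
local notation "Cs" => centralizer ((S : Subgroup G) : Set G)

omit h in
theorem card_S_pow : ∃ a, Nat.card (S : Subgroup G) = 2 ^ a :=
  haveI : Fact (Nat.Prime 2) := ⟨Nat.prime_two⟩
  S.isPGroup'.exists_card_eq

theorem odd_q_pred : Odd (Nat.card (S : Subgroup G) - 1) := by
  obtain ⟨a, ha⟩ := card_S_pow (S := S)
  have := h.eight
  have h2 : Even (2 ^ a) := Nat.even_pow.2 ⟨even_two, fun e => by rw [e, pow_zero] at ha; omega⟩
  rw [ha, Nat.odd_iff]
  rw [Nat.even_iff] at h2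
  omega

/-- The centraliser of `S` is not a kernel in the sense of rank one. -/
theorem not_semiregular (h2r : ∃ g : G, orderOf g = 2 * r)
    (hnd : ¬ r ∣ Nat.card (S : Subgroup G) - 1)
    (hcard : Nat.card Mn = (Nat.card (S : Subgroup G) - 1) * Nat.card Cs)
    (hfree : ∀ x ∈ Mn, ∀ t ∈ (S : Subgroup G), t ≠ 1 → Commute x t → x ∈ Cs) : False := by
  classical
  haveI : Fact (Nat.Prime 2) := ⟨Nat.prime_two⟩
  obtain ⟨t₀, ht₀, ht₀1, x₀, hx₀, hx₀o⟩ := h.exists_r_in_cent h2r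
  have hrel : (Cs).relIndex Mn = Nat.card (S : Subgroup G) - 1 := relIndex_of_card cs_le hcard
  have hcfg : Partition.TI.Cfg Mn Cs := by
    refine ⟨h.se, cs_le, fun g hg c hc => conj_cs hg hc,
      fun {t} ht ht2 => h.le_cs (mem_S_of_involution ht ht2), fun {t g} ht ht2 hc => ?_,
      fun {x g} hx hg hxg => ?_, ?_⟩
    · have htS := mem_S_of_involution (cs_le ht) ht2
      have ht1 : t ≠ 1 := fun e => by rw [e, orderOf_one] at ht2; omega
      exact hfree g (h.cent_le htS ht1 (mem_centralizer_singleton_iff.2 hc.eq)) t htS ht1 hc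
    · obtain ⟨O, hOC, -, -, hOiff, hsplit, -⟩ := h.exists_O
      obtain ⟨s, hs, o, ho, rfl⟩ := hsplit x hx
      have hso : Commute s o := mem_centralizer_iff.1 (hOC ho) s hs
      have hsr : s ^ r = s := by
        obtain ⟨m, hm⟩ := h.hyp.odd_r
        rw [hm, pow_succ, pow_mul, pow_two, h.hyp.two_group_sq S.isPGroup' hs, one_pow, one_mul]
      have hor := ((hOiff o).1 ho).2
      have hs1 : s = 1 := by
        by_contra hs1
        have h1 : g⁻¹ * s * g⁻¹⁻¹ ∈ Mn := by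
          have h2 : g⁻¹ * s * g⁻¹⁻¹ = (g⁻¹ * (s * o) * g) ^ r := by
            rw [show g⁻¹ * (s * o) * g = g⁻¹ * (s * o) * g⁻¹⁻¹ by rw [inv_inv], conj_pow, hso.mul_pow,
              hsr, hor, mul_one]
          rw [h2]
          exact pow_mem hxg r
        exact hg (inv_mem_iff.1 (Involutions.StronglyEmbedded.mem_of_conj h.se (le_normalizer hs)
          (h.hyp.orderOf_two S hs hs1) h1))
      rw [hs1, one_mul] at hxg ⊢
      by_contra ho1
      set y := g⁻¹ * o * g with hy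
      have hyr : y ^ r = 1 := by
        rw [hy, show g⁻¹ * o * g = g⁻¹ * o * g⁻¹⁻¹ by rw [inv_inv], conj_pow, hor, mul_one, mul_inv_cancel]
      have hyC : y ∈ Cs := mem_of_pow_mem Cs (a := r) (by rw [hyr]; exact one_mem _)
        (b := Nat.card (S : Subgroup G) - 1)
        (by rw [← hrel]; exact pow_relIndex_mem (fun a ha b hb => conj_cs ha hb) cs_le hxg)
        ((Nat.Prime.coprime_iff_not_dvd h.hyp.prime).2 hnd)
      have hy1 : y ≠ 1 := fun e => ho1 (by
        calc o = g * y * g⁻¹ := by rw [hy]; group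
          _ = 1 := by rw [e]; group)
      have hSy : (S : Subgroup G) ≤ centralizer ({y} : Set G) := fun a ha =>
        mem_centralizer_singleton_iff.2 (mem_centralizer_iff.1 hyC a ha)
      have hmem : g⁻¹ * t₀ * g⁻¹⁻¹ ∈ Mn := by
        refine h.cent_le_of_order_r (h.hyp.orderOf_eq_r hyr hy1) hSy (mem_centralizer_singleton_iff.2 ?_)
        have e : t₀ * o = o * t₀ := mem_centralizer_iff.1 (hOC ho) t₀ ht₀
        calc g⁻¹ * t₀ * g⁻¹⁻¹ * y = g⁻¹ * (t₀ * o) * g := by rw [hy]; group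
          _ = g⁻¹ * (o * t₀) * g := by rw [e]
          _ = y * (g⁻¹ * t₀ * g⁻¹⁻¹) := by rw [hy]; group
      exact hg (inv_mem_iff.1 (Involutions.StronglyEmbedded.mem_of_conj h.se (le_normalizer ht₀)
        (h.hyp.orderOf_two S ht₀ ht₀1) hmem))
    · obtain ⟨y, hy, hy0⟩ : ∃ y ∈ (S : Subgroup G), y ≠ 1 ∧ y ≠ t₀ := by
        by_contra hall
        push Not at hall
        have hsub : ((S : Subgroup G) : Set G) ⊆ {1, t₀} := fun y hy => by
          by_cases hy1 : y = 1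
          exacts [Or.inl hy1, Or.inr (hall y hy hy1)]
        have := Set.ncard_le_ncard hsub (Set.toFinite _)
        rw [← Nat.card_coe_set_eq] at this
        have h2 : ({1, t₀} : Set G).ncard ≤ 2 :=
          (Set.ncard_insert_le _ _).trans (by rw [Set.ncard_singleton])
        have h8 : 8 ≤ Nat.card ((S : Subgroup G) : Set G) := h.eight
        omega
      exact ⟨t₀, y, ht₀1, hy0.1, Ne.symm hy0.2, h.hyp.two_group_sq S.isPGroup' ht₀,
        h.hyp.two_group_sq S.isPGroup' hy, h.hyp.two_group_comm S.isPGroup' ht₀ hy,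
        le_normalizer ht₀, le_normalizer hy⟩
  haveI := hcfg.faithful
  obtain ⟨u, hS⟩ := hcfg.setup
  have hx : x₀ ∈ Cs := hfree x₀ (h.cent_le ht₀ ht₀1 hx₀) t₀ ht₀ ht₀1 (mem_centralizer_singleton_iff.1 hx₀)
  have hQ : IsPGroup 2 Cs := Involutions.RankOne.Char.isPGroup_two hS (by
    obtain ⟨a, b, h1, h2, h3, h4, h5, h6, -⟩ := hcfg.two
    exact ⟨a, b, h1, h2, h3, h4, h5, h6⟩)
  have hd := IsPGroup.iff_card.1 hQ
  obtain ⟨n, hn⟩ := hd
  have h1 := (Cs).orderOf_dvd_natCard hx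
  rw [hx₀o, hn] at h1
  exact h.hyp.ne_two ((Nat.prime_dvd_prime_iff_eq h.hyp.prime Nat.prime_two).1 (h.hyp.prime.dvd_of_dvd_pow h1))

section Regular

variable {Mc : Subgroup G} (hCMc : centralizer ((S : Subgroup G) : Set G) ≤ Mc)
  (hMcM : Mc ≤ normalizer ((S : Subgroup G) : Set G))
  (hconj : ∀ x ∈ normalizer ((S : Subgroup G) : Set G), ∀ c ∈ Mc, x * c * x⁻¹ ∈ Mc)
  (hnd : ¬ r ∣ Nat.card (S : Subgroup G) - 1)
  (hcard : Nat.card Mc = (Nat.card (S : Subgroup G) - 1) * Nat.card (centralizer ((S : Subgroup G) : Set G)))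
  (hfree : ∀ x ∈ Mc, ∀ t ∈ (S : Subgroup G), t ≠ 1 → Commute x t → x ∈ centralizer ((S : Subgroup G) : Set G))
  (hidx : Nat.card (normalizer ((S : Subgroup G) : Set G)) = r * Nat.card Mc)

include hCMc hMcM hconj hnd hcard hidx

theorem mem_Mc_of_pow {x : G} (hx : x ∈ Mn) {n : ℕ} (hn : x ^ n ∈ Mc) (hco : Nat.Coprime r n) :
    x ∈ Mc :=
  mem_of_pow_mem Mc (a := r) (by rw [← relIndex_of_card hMcM hidx]; exact pow_relIndex_mem hconj hMcM hx) hn hco

/-- The centraliser of `S` is `S` itself. -/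
theorem cs_eq : Cs = (S : Subgroup G) := by
  classical
  haveI : Fact r.Prime := ⟨h.hyp.prime⟩
  haveI : Fact (Nat.Prime 2) := ⟨Nat.prime_two⟩
  obtain ⟨O, hOC, hOr, -, hOiff, hsplit, hCcard⟩ := h.exists_O
  suffices hO : O = ⊥ by
    refine le_antisymm (fun x hx => ?_) h.le_cs
    obtain ⟨s, hs, o, ho, rfl⟩ := hsplit x hx
    rw [hO, Subgroup.mem_bot] at ho
    rw [ho, mul_one]
    exact hs
  by_contra hO
  haveI : Nontrivial O := (Subgroup.nontrivial_iff_ne_bot O).2 hO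
  haveI := hOr.center_nontrivial
  set W := (center O).map O.subtype with hW
  have hWO : W ≤ O := map_subtype_le _
  obtain ⟨w₀, hw₀, hw₀1⟩ : ∃ w ∈ W, w ≠ 1 := by
    obtain ⟨z, hz⟩ := _root_.exists_ne (1 : center O)
    exact ⟨_, ⟨z.1, z.2, rfl⟩, fun e => hz (Subtype.ext (Subtype.ext e))⟩
  have hWc : ∀ a ∈ W, ∀ b ∈ W, a * b = b * a := by
    rintro _ ⟨a, ha, rfl⟩ _ ⟨b, -, rfl⟩
    exact congrArg Subtype.val ((mem_center_iff.1 ha b).symm)
  have hWn : ∀ m ∈ Mn, ∀ w ∈ W, m * w * m⁻¹ ∈ W := by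
    rintro m hm _ ⟨a, ha, rfl⟩
    have hc : ∀ m ∈ Mn, ∀ o ∈ O, m * o * m⁻¹ ∈ O := fun m hm o ho => (hOiff _).2
      ⟨conj_cs hm (hOC ho), by rw [conj_pow, ((hOiff o).1 ho).2]; group⟩
    refine ⟨⟨m * a * m⁻¹, hc m hm a a.2⟩, mem_center_iff.2 fun b => Subtype.ext ?_, rfl⟩
    have hb : m⁻¹ * b * m⁻¹⁻¹ ∈ O := hc _ (inv_mem hm) b b.2
    have e := congrArg Subtype.val (mem_center_iff.1 ha ⟨_, hb⟩)
    show (b : G) * (m * a * m⁻¹) = m * a * m⁻¹ * b
    calc (b : G) * (m * a * m⁻¹) = m * (m⁻¹ * b * m⁻¹⁻¹ * a) * m⁻¹ := by group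
      _ = m * (a * (m⁻¹ * b * m⁻¹⁻¹)) * m⁻¹ := by rw [show m⁻¹ * b * m⁻¹⁻¹ * a = a * (m⁻¹ * b * m⁻¹⁻¹) from e]
      _ = _ := by group
  -- a prime divisor of `q - 1` and a Sylow subgroup for it
  obtain ⟨p, hp, hpd⟩ := Nat.exists_prime_and_dvd (n := Nat.card (S : Subgroup G) - 1)
    (by have := h.eight; omega)
  haveI : Fact p.Prime := ⟨hp⟩
  have hp2 : p ≠ 2 := fun e => Nat.not_even_iff_odd.2 h.odd_q_pred (even_iff_two_dvd.2 (e ▸ hpd))
  have hpr : p ≠ r := fun e => hnd (e ▸ hpd)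
  obtain ⟨P₀⟩ : Nonempty (Sylow p (Mc.subgroupOf Mn)) := inferInstance
  haveI : (Mc.subgroupOf Mn).Normal := ⟨fun c hc m => hconj m m.2 c hc⟩
  have htop := Sylow.normalizer_sup_eq_top P₀
  obtain ⟨n, hn, hnMc⟩ : ∃ n ∈ normalizer (((P₀ : Subgroup (Mc.subgroupOf Mn)).map
      (Mc.subgroupOf Mn).subtype : Subgroup Mn) : Set Mn), n ∉ Mc.subgroupOf Mn := by
    by_contra hall
    push Not at hall
    rw [sup_eq_right.2 hall, subgroupOf_eq_top] at htop
    have := Subgroup.card_le_of_le htop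
    rw [hidx] at this
    have h1 := h.hyp.prime.one_lt
    have h2 : 0 < Nat.card Mc := Nat.card_pos
    nlinarith
  set P := ((P₀ : Subgroup (Mc.subgroupOf Mn)).map (Mc.subgroupOf Mn).subtype).map (Mn).subtype with hP
  have hPp : IsPGroup p P := (P₀.isPGroup'.map _).map _
  have hpP : p ∣ Nat.card P := by
    rw [card_map_of_injective (Subgroup.subtype_injective _), card_map_of_injective (Subgroup.subtype_injective _)]
    refine P₀.dvd_card_of_dvd_card ?_
    rw [Nat.card_congr (subgroupOfEquivOfLe hMcM).toEquiv, hcard]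
    exact hpd.mul_right _
  have hnP : ∀ a ∈ P, (n : G) * a * (n : G)⁻¹ ∈ P := by
    rintro _ ⟨a, ha, rfl⟩
    exact ⟨n * a * n⁻¹, (mem_normalizer_iff.1 hn a).1 ha, rfl⟩
  have hrn : r ∣ orderOf (n : G) := by
    by_contra hrn
    refine hnMc (mem_subgroupOf.2 (h.mem_Mc_of_pow hCMc hMcM hconj hnd hcard hidx n.2
      (n := orderOf (n : G)) (by rw [pow_orderOf_eq_one]; exact one_mem _)
      ((Nat.Prime.coprime_iff_not_dvd h.hyp.prime).2 hrn)))
  set y := (n : G) ^ 2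
  have hyr : y ^ r = 1 := by
    rw [← pow_mul]
    rcases h.hyp.r_order _ hrn with e | e
    · rw [mul_comm, pow_mul, ← e, pow_orderOf_eq_one, one_pow]
    · rw [← e, pow_orderOf_eq_one]
  have hy1 : y ≠ 1 := fun e => by
    have := orderOf_dvd_of_pow_eq_one e
    have h1 := (Nat.prime_dvd_prime_iff_eq h.hyp.prime Nat.prime_two).1 (hrn.trans this)
    exact h.hyp.ne_two h1
  have hyo : orderOf y = r := h.hyp.orderOf_eq_r hyr hy1
  have hyP : ∀ a ∈ P, y * a * y⁻¹ ∈ P := fun a ha => by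
    have := hnP _ (hnP a ha)
    simpa [y, pow_two, mul_assoc] using this
  have hnoc : ∀ a ∈ P, a ≠ 1 → ∀ z, orderOf z = r → ¬ Commute z a := by
    intro a ha ha1 z hz hc
    obtain ⟨j, hj⟩ : ∃ j, orderOf a = p ^ (j + 1) := by
      obtain ⟨k, hk⟩ := (IsPGroup.iff_orderOf.1 hPp) ⟨a, ha⟩
      rw [← Subgroup.orderOf_coe] at hk
      rcases k with _ | j
      · exact absurd (orderOf_eq_one_iff.1 (by simpa using hk)) ha1
      · exact ⟨j, hk⟩
    have hap : orderOf (a ^ p ^ j) = p := by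
      rw [orderOf_pow_of_dvd (pow_ne_zero _ hp.ne_zero) (hj ▸ pow_dvd_pow p (Nat.le_succ j)), hj,
        pow_succ, Nat.mul_div_cancel_left _ (pow_pos hp.pos j)]
    rcases h.hyp.prime_of_commute_r hp hz hap (hc.pow_right _) with e | e
    exacts [hp2 e, hpr e]
  obtain ⟨a₀, ha₀, ha₀1⟩ : ∃ a ∈ P, a ≠ 1 :=
    (Subgroup.bot_or_exists_ne_one P).resolve_left fun e => by
      rw [e, Subgroup.card_bot] at hpP
      exact hp.ne_one (Nat.dvd_one.1 hpP)
  have hWr : ∀ w ∈ W, w ^ r = 1 := fun w hw => ((hOiff w).1 (hWO hw)).2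
  have hcop : (Nat.card P).Coprime (Nat.card W) := by
    obtain ⟨i, hi⟩ := hPp.exists_card_eq
    obtain ⟨j, hj⟩ := (hOr.to_le hWO).exists_card_eq
    rw [hi, hj]
    exact ((Nat.coprime_primes hp h.hyp.prime).2 hpr).pow i j
  have hPM : P ≤ Mn := map_subtype_le _
  obtain ⟨w, hw, hne⟩ := exists_pow_ne_one (A := P) hWc hcop (fun a ha => hWn a (hPM ha))
    (hWn y (pow_mem n.2 2)) hyP hyr h.hyp.prime.pos (fun i hi hir a ha e => by_contra fun ha1 => by
      refine hnoc a ha ha1 (y ^ i) ?_ (mul_inv_eq_iff_eq_mul.1 e)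
      refine h.hyp.orderOf_eq_r (by rw [← pow_mul, mul_comm, pow_mul, hyr, one_pow]) fun e1 => ?_
      have := orderOf_dvd_of_pow_eq_one e1
      rw [hyo] at this
      exact Nat.not_dvd_of_pos_of_lt hi hir this)
    ⟨a₀, ha₀, w₀, hw₀, fun e => hnoc a₀ ha₀ ha₀1 w₀ (h.hyp.orderOf_eq_r (hWr w₀ hw₀) hw₀1) e.symm⟩
  exact hne (h.hyp.pow_mul_eq_one hWr h.hyp.prime h.hyp.ne_two hyo (hWn y (pow_mem n.2 2)) hw)

include hfree

/-- The normaliser has one orbit of length `q` on the other cosets, on which `S` is regular. -/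
theorem regular_orbit :
    (∀ g₁ g₂ : G, g₁ ∉ Mn → g₂ ∉ Mn → ∃ s ∈ (S : Subgroup G), g₂⁻¹ * (s * g₁) ∈ Mn) ∧
    (∀ g : G, g ∉ Mn → ∀ s ∈ (S : Subgroup G), g⁻¹ * (s * g) ∈ Mn → s = 1) := by
  classical
  haveI : Fact (Nat.Prime 2) := ⟨Nat.prime_two⟩
  haveI : Fact r.Prime := ⟨h.hyp.prime⟩
  have hCS := h.cs_eq hCMc hMcM hconj hnd hcard hidx
  set q := Nat.card (S : Subgroup G) with hq
  have hq8 : 8 ≤ q := h.eight
  have hodd := h.odd_q_pred
  refine ⟨?_, fun g hg s hs hmem => by_contra fun hs1 => hg (inv_mem_iff.1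
    (Involutions.StronglyEmbedded.mem_of_conj h.se (le_normalizer hs) (h.hyp.orderOf_two S hs hs1)
      (show g⁻¹ * s * g⁻¹⁻¹ ∈ Mn by rwa [inv_inv, mul_assoc])))⟩
  let a : G ⧸ Mn := ((1 : G) : G ⧸ Mn)
  have hstab : ∀ x : G, x • a = a ↔ x ∈ Mn := fun x => by
    have h1 := MulAction.stabilizer_quotient (Mn)
    rw [← MulAction.mem_stabilizer_iff]
    rw [show MulAction.stabilizer G a = Mn from h1]
  have hcoe : ∀ g : G, g • a = (g : G ⧸ Mn) := fun g => by
    show ((g * 1 : G) : G ⧸ Mn) = _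
    rw [mul_one]
  -- the part outside `r` of a two-point stabiliser
  let D : G ⧸ Mn → Subgroup G := fun c => Mc ⊓ MulAction.stabilizer G c
  have hswap : ∀ c, c ≠ a → ∃ u : G, orderOf u = 2 ∧ u • a = c := by
    intro c hc
    obtain ⟨t, ht, ht1⟩ := h.exists_ne
    have h1 := Involutions.StronglyEmbedded.card_swap h.se a c hc.symm
    haveI : Nonempty {t : G // orderOf t = 2 ∧ t ∈ Mn} :=
      ⟨⟨t, h.hyp.orderOf_two S ht ht1, le_normalizer ht⟩⟩
    have hpos : 0 < Nat.card {i : G // orderOf i = 2 ∧ i • a = c} := h1 ▸ Nat.card_pos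
    obtain ⟨⟨⟨i, hi, hia⟩⟩⟩ := Nat.card_pos_iff.1 hpos
    exact ⟨i, hi, hia⟩
  have hDcard : ∀ c, c ≠ a → Nat.card (D c) = q - 1 := by
    intro c hc
    obtain ⟨u, hu, hua⟩ := hswap c hc
    have huM : u ∉ Mn := fun e => hc (hua.symm.trans ((hstab u).2 e))
    set E := Mn ⊓ (Mn).map (MulAut.conj u).toMonoidHom
    have hEc : E = Mn ⊓ MulAction.stabilizer G c := by
      rw [← hua, MulAction.stabilizer_smul_eq_stabilizer_map_conj,
        show MulAction.stabilizer G a = Mn from MulAction.stabilizer_quotient _]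
    have hEodd : Odd (Nat.card E) := h.se.2.2 u huM
    obtain ⟨t, ht, ht1⟩ := h.exists_ne
    set K := (centralizer ({t} : Set G)).subgroupOf E
    have hindex : K.index = q - 1 := by
      let f : E → {x : (S : Subgroup G) // x ≠ 1} := fun d =>
        ⟨⟨(d : G) * t * (d : G)⁻¹, (mem_normalizer_iff.1 d.2.1 t).1 ht⟩,
          fun e => ht1 (by simpa using congrArg Subtype.val e)⟩
      have hrel : ∀ d₁ d₂ : E, (QuotientGroup.leftRel K) d₁ d₂ ↔ f d₁ = f d₂ := by
        intro d₁ d₂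
        rw [QuotientGroup.leftRel_apply, mem_subgroupOf, mem_centralizer_singleton_iff]
        push_cast
        constructor
        · intro e
          refine Subtype.ext (Subtype.ext ?_)
          show (d₁ : G) * t * (d₁ : G)⁻¹ = d₂ * t * (d₂ : G)⁻¹
          calc (d₁ : G) * t * (d₁ : G)⁻¹ = (d₁ : G) * (t * ((d₁ : G)⁻¹ * d₂)) * (d₂ : G)⁻¹ := by group
            _ = (d₁ : G) * ((d₁ : G)⁻¹ * d₂ * t) * (d₂ : G)⁻¹ := by rw [e]
            _ = _ := by group
        · intro e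
          have e' : (d₁ : G) * t * (d₁ : G)⁻¹ = d₂ * t * (d₂ : G)⁻¹ :=
            congrArg (fun x : {x : (S : Subgroup G) // x ≠ 1} => ((x : (S : Subgroup G)) : G)) e
          calc (d₁ : G)⁻¹ * d₂ * t = (d₁ : G)⁻¹ * (d₂ * t * (d₂ : G)⁻¹) * d₂ := by group
            _ = (d₁ : G)⁻¹ * (d₁ * t * (d₁ : G)⁻¹) * d₂ := by rw [e']
            _ = t * ((d₁ : G)⁻¹ * d₂) := by group
      let g : E ⧸ K → {x : (S : Subgroup G) // x ≠ 1} :=
        Quotient.lift f fun d₁ d₂ e => (hrel d₁ d₂).1 e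
      have hg : Function.Bijective g := by
        constructor
        · intro x y e
          induction x using Quotient.inductionOn with
          | _ d₁ =>
            induction y using Quotient.inductionOn with
            | _ d₂ => exact Quotient.sound ((hrel d₁ d₂).2 e)
        · intro x
          have hx1 : ((x : (S : Subgroup G)) : G) ≠ 1 := fun e => x.2 (Subtype.ext e)
          obtain ⟨d, hd, e⟩ := Involutions.StronglyEmbedded.exists_conj_in_inter h.se hu huM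
            (h.hyp.orderOf_two S ht ht1) (le_normalizer ht)
            (h.hyp.orderOf_two S x.1.2 hx1) (le_normalizer x.1.2)
          exact ⟨Quotient.mk _ ⟨d, hd⟩, Subtype.ext (Subtype.ext e)⟩
      rw [index_eq_card, Nat.card_eq_of_bijective g hg, card_ne_one_sub (S : Subgroup G)]
    have hqE : q - 1 ∣ Nat.card E := hindex ▸ K.index_dvd_card
    have hEM : E ≤ Mn := inf_le_left
    have hDE : D c = Mc ⊓ E := by
      rw [hEc, ← inf_assoc, inf_eq_left.2 hMcM]
    haveI : (Mc.subgroupOf Mn).Normal := ⟨fun x hx m => hconj m m.2 x hx⟩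
    have hr : (Mc.subgroupOf E).index ∣ r := by
      show Mc.relIndex E ∣ r
      rw [← relIndex_subgroupOf hEM (H := Mc)]
      refine (relIndex_dvd_index_of_normal _ _).trans (dvd_of_eq ?_)
      exact relIndex_of_card hMcM hidx
    have hmul : Nat.card (D c) * (Mc.subgroupOf E).index = Nat.card E := by
      rw [hDE, ← subgroupOf_map_subtype, card_map_of_injective E.subtype_injective]
      exact (Mc.subgroupOf E).card_mul_index
    have h1 : q - 1 ∣ Nat.card (D c) := by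
      refine Nat.Coprime.dvd_of_dvd_mul_right (Nat.Coprime.coprime_dvd_right hr
        ((Nat.Prime.coprime_iff_not_dvd h.hyp.prime).2 hnd).symm) (hmul.symm ▸ hqE)
    have hDodd : Odd (Nat.card (D c)) := hEodd.of_dvd_nat (card_dvd_of_le (hDE ▸ inf_le_right))
    have h2 : Nat.card (D c) ∣ q - 1 := by
      have h3 : Nat.card (D c) ∣ (q - 1) * q := by
        have h4 := card_dvd_of_le (inf_le_left : D c ≤ Mc)
        rwa [hcard, hCS] at h4
      refine Nat.Coprime.dvd_of_dvd_mul_right ?_ h3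
      obtain ⟨j, hj⟩ := card_S_pow (S := S)
      rw [hq, hj]
      exact (Nat.coprime_two_right.2 hDodd).pow_right j
    exact Nat.dvd_antisymm h2 h1
  obtain ⟨b, hb⟩ : ∃ b : G ⧸ Mn, b ≠ a := by
    obtain ⟨g, hg⟩ : ∃ g : G, g ∉ Mn := by
      by_contra hall
      push Not at hall
      exact h.se.1 (eq_top_iff.2 fun x _ => hall x)
    exact ⟨g • a, fun e => hg ((hstab g).1 e)⟩
  set D1 := D b with hD1
  have hD1card : Nat.card D1 = q - 1 := hDcard b hb
  have hD1M : D1 ≤ Mn := inf_le_left.trans hMcM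
  have hD1a : ∀ d ∈ D1, d • a = a := fun d hd => (hstab d).2 (hD1M hd)
  have hpow : ∀ d ∈ D1, d ^ (q - 1) = 1 := fun d hd =>
    hD1card ▸ orderOf_dvd_iff_pow_eq_one.1 (D1.orderOf_dvd_natCard hd)
  have hcoq : Nat.Coprime r (q - 1) := (Nat.Prime.coprime_iff_not_dvd h.hyp.prime).2 hnd
  obtain ⟨p, hp, hpd⟩ := Nat.exists_prime_and_dvd (n := q - 1) (by omega)
  haveI : Fact p.Prime := ⟨hp⟩
  obtain ⟨d₀, hd₀⟩ := exists_prime_orderOf_dvd_card' (G := D1) p (hD1card ▸ hpd)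
  rw [← Subgroup.orderOf_coe] at hd₀
  have hp2 : p ≠ 2 := fun e => Nat.not_even_iff_odd.2 hodd (even_iff_two_dvd.2 (e ▸ hpd))
  have hpr : p ≠ r := fun e => hnd (e ▸ hpd)
  have hd₀1 : (d₀ : G) ≠ 1 := fun e => by rw [e, orderOf_one] at hd₀; exact hp.ne_one hd₀.symm
  -- points fixed by `D1`, and elements of its normaliser
  let Fx : G ⧸ Mn → Prop := fun c => ∀ d ∈ D1, d • c = c
  have hnoinv : ∀ (c : G ⧸ Mn), Fx c → ∀ v : G, orderOf v = 2 →
      (∀ d ∈ D1, v * d * v⁻¹ ∈ D1) → v • c ≠ c := by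
    intro c hc v hv hvn hvc
    obtain ⟨z, rfl⟩ := MulAction.exists_smul_eq G a c
    have hmv : ∀ {x : G}, x • z • a = z • a → z⁻¹ * x * z ∈ Mn := fun {x} e => (hstab _).1 (by
      rw [mul_smul, mul_smul, e, inv_smul_smul])
    have ht : z⁻¹ * v * z ∈ (S : Subgroup G) := mem_S_of_involution (hmv hvc) (by
      rw [show z⁻¹ * v * z = MulAut.conj z⁻¹ v by simp, MulEquiv.orderOf_eq, hv])
    have ht1 : z⁻¹ * v * z ≠ 1 := fun e => by
      have : v = 1 := by
        calc v = z * (z⁻¹ * v * z) * z⁻¹ := by group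
          _ = 1 := by rw [e]; group
      rw [this, orderOf_one] at hv
      omega
    set t := z⁻¹ * v * z with htdef
    set d := z⁻¹ * (d₀ : G) * z with hddef
    have hdM : d ∈ Mn := hmv (hc _ d₀.2)
    have hdp : d ^ p = 1 := by
      rw [hddef, show z⁻¹ * (d₀ : G) * z = z⁻¹ * d₀ * z⁻¹⁻¹ by rw [inv_inv], conj_pow, ← hd₀,
        pow_orderOf_eq_one]
      group
    have hdMc : d ∈ Mc := h.mem_Mc_of_pow hCMc hMcM hconj hnd hcard hidx hdM (n := p)
      (by rw [hdp]; exact one_mem _) ((Nat.coprime_primes h.hyp.prime hp).2 (Ne.symm hpr))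
    set D' := D1.map (MulAut.conj z⁻¹).toMonoidHom
    have h1 : t * d * t⁻¹ * d⁻¹ ∈ (S : Subgroup G) := by
      rw [show t * d * t⁻¹ * d⁻¹ = t * (d * t⁻¹ * d⁻¹) by group]
      exact mul_mem ht ((mem_normalizer_iff.1 hdM _).1 (inv_mem ht))
    have h2 : t * d * t⁻¹ * d⁻¹ ∈ D' := ⟨v * d₀ * v⁻¹ * (d₀ : G)⁻¹, mul_mem (hvn _ d₀.2) (inv_mem d₀.2), by
      simp only [htdef, hddef, MulEquiv.coe_toMonoidHom, MulAut.conj_apply]; group⟩
    have hD'odd : Odd (Nat.card D') := by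
      rw [card_map_of_injective (MulAut.conj z⁻¹).injective, hD1card]; exact hodd
    have hc2 : Commute d t :=
      (mul_inv_eq_iff_eq_mul.1 (mul_inv_eq_one.1 (eq_one_of_odd_two hD'odd h2 S.isPGroup' h1))).symm
    have hdS : d ∈ (S : Subgroup G) := hCS ▸ hfree d hdMc t ht ht1 hc2
    have hd1 : d = 1 := eq_one_of_odd_two (K := D') hD'odd ⟨d₀, d₀.2, by
      simp only [hddef, MulEquiv.coe_toMonoidHom, MulAut.conj_apply, inv_inv]⟩ S.isPGroup' hdS
    exact hd₀1 (by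
      calc (d₀ : G) = z * d * z⁻¹ := by rw [hddef]; group
        _ = 1 := by rw [hd1]; group)
  have hinvert : ∀ v : G, orderOf v = 2 → (∀ d ∈ D1, v * d * v⁻¹ ∈ D1) →
      ∀ d ∈ D1, v * d * v⁻¹ = d⁻¹ := by
    intro v hv hvn d hd
    let φ : D1 →* D1 :=
      { toFun := fun x => ⟨v * x * v⁻¹, hvn x x.2⟩
        map_one' := Subtype.ext (by simp)
        map_mul' := fun x y => Subtype.ext (by simp [mul_assoc]) }
    have hff : MonoidHom.FixedPointFree φ := by
      intro x hx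
      have e : v * x * v⁻¹ = (x : G) := congrArg Subtype.val hx
      have hc : Commute (x : G) v := (mul_inv_eq_iff_eq_mul.1 e).symm
      have hxo : Odd (orderOf (x : G)) :=
        (hD1card ▸ hodd : Odd (Nat.card D1)).of_dvd_nat (D1.orderOf_dvd_natCard x.2)
      have h3 := pow_gcd_eq_one.2 ⟨h.hyp.pow_r_of_commute hv hc hxo, hpow x x.2⟩
      rw [hcoq.gcd_eq_one, pow_one] at h3
      exact Subtype.ext h3
    have hv2 : v * v = 1 := by rw [← pow_two, ← hv, pow_orderOf_eq_one]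
    have h2 : Function.Involutive φ := fun x => Subtype.ext (by
      show v * (v * x * v⁻¹) * v⁻¹ = x
      rw [show v * (v * x * v⁻¹) * v⁻¹ = (v * v) * x * (v * v)⁻¹ by group, hv2]
      group)
    exact congrArg Subtype.val (congrFun (hff.coe_eq_inv_of_involutive h2) ⟨d, hd⟩)
  have hD1eq : ∀ c, c ≠ a → Fx c → D c = D1 := fun c hc hcF =>
    (eq_of_le_of_card_ge (le_inf (inf_le_left : D1 ≤ Mc) fun d hd => MulAction.mem_stabilizer_iff.2 (hcF d hd))
      (by rw [hDcard c hc, hD1card])).symm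
  have hswapD : ∀ c, c ≠ a → Fx c → ∀ v : G, orderOf v = 2 → v • a = c → ∀ d ∈ D1, v * d * v⁻¹ ∈ D1 := by
    intro c hc hcF v hv hva d hd
    have hv2 : v * v = 1 := by rw [← pow_two, ← hv, pow_orderOf_eq_one]
    have hvc : v • c = a := by rw [← hva, smul_smul, hv2, one_smul]
    rw [← hD1eq c hc hcF]
    have e1 : (v * d * v⁻¹) • a = a := by
      rw [inv_eq_of_mul_eq_one_right hv2, mul_smul, mul_smul, hva, hcF d hd, hvc]
    have e2 : (v * d * v⁻¹) • c = c := by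
      rw [inv_eq_of_mul_eq_one_right hv2, mul_smul, mul_smul, hvc, hD1a d hd, hva]
    refine ⟨?_, MulAction.mem_stabilizer_iff.2 e2⟩
    exact h.mem_Mc_of_pow hCMc hMcM hconj hnd hcard hidx ((hstab _).1 e1) (n := q - 1)
      (by rw [conj_pow, hpow d hd, mul_one, mul_inv_cancel]; exact one_mem _) hcoq
  have hbF : Fx b := fun d hd => MulAction.mem_stabilizer_iff.1 (show d ∈ MulAction.stabilizer G b from hd.2)
  obtain ⟨u, hu, hua⟩ := hswap b hb
  have hu2 : u * u = 1 := by rw [← pow_two, ← hu, pow_orderOf_eq_one]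
  have hub : u • b = a := by rw [← hua, smul_smul, hu2, one_smul]
  have hun := hswapD b hb hbF u hu hua
  -- nothing in the centraliser of `D1` moves `a` to `b`
  have hnoy : ∀ y : G, (∀ d ∈ D1, y * d * y⁻¹ = d) → y • a ≠ b := by
    intro y hy hya
    set w := u * y with hw
    have hwa : w • a = a := by rw [hw, mul_smul, hya, hub]
    have hwd : ∀ d ∈ D1, w * d * w⁻¹ = d⁻¹ := fun d hd => by
      rw [hw, show u * y * d * (u * y)⁻¹ = u * (y * d * y⁻¹) * u⁻¹ by group, hy d hd, hinvert u hu hun d hd]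
    have hwk : ∀ (k : ℕ) (d : G), d ∈ D1 → w ^ k * d * (w ^ k)⁻¹ = if Even k then d else d⁻¹ := by
      intro k
      induction k with
      | zero => intro d _; simp
      | succ k ih =>
        intro d hd
        rw [show w ^ (k + 1) * d * (w ^ (k + 1))⁻¹ = w * (w ^ k * d * (w ^ k)⁻¹) * w⁻¹ by
          rw [pow_succ']; group, ih d hd]
        by_cases he : Even k
        · rw [if_pos he, if_neg (by simp [Nat.even_add_one, he]), hwd d hd]
        · rw [if_neg he, if_pos (by simp [Nat.even_add_one, he]), hwd _ (inv_mem hd), inv_inv]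
    rcases Nat.even_or_odd (orderOf w) with he | ho
    · obtain ⟨m, hm⟩ := he
      have hm0 : m ≠ 0 := fun e => by rw [e] at hm; exact (orderOf_pos w).ne' hm
      refine hnoinv a hD1a (w ^ m) ?_ (fun d hd => ?_) ?_
      · rw [orderOf_pow_of_dvd hm0 (hm ▸ Dvd.intro 2 (mul_two m)), hm, ← two_mul,
          Nat.mul_div_cancel _ (Nat.pos_of_ne_zero hm0)]
      · rw [hwk m d hd]
        split_ifs
        exacts [hd, inv_mem hd]
      · exact (hstab _).2 (pow_mem ((hstab w).1 hwa) m)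
    · have e := hwk (orderOf w) d₀ d₀.2
      rw [if_neg (Nat.not_even_iff_odd.2 ho), pow_orderOf_eq_one] at e
      simp only [one_mul, inv_one, mul_one] at e
      have : orderOf (d₀ : G) ∣ 2 := orderOf_dvd_of_pow_eq_one (by rw [pow_two]; exact mul_eq_one_iff_eq_inv.2 e)
      rw [hd₀] at this
      exact hp2 ((Nat.prime_dvd_prime_iff_eq hp Nat.prime_two).1 this)
  have hpair : ∀ c, c ≠ a → Fx c → ∃ x : G, (∀ d ∈ D1, x * d * x⁻¹ = d) ∧ x • a = u • c ∧ x • c = b := by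
    intro c hc hcF
    obtain ⟨v, hv, hva⟩ := hswap c hc
    have hv2 : v * v = 1 := by rw [← pow_two, ← hv, pow_orderOf_eq_one]
    refine ⟨u * v, fun d hd => ?_, by rw [mul_smul, hva], ?_⟩
    · rw [show u * v * d * (u * v)⁻¹ = u * (v * d * v⁻¹) * u⁻¹ by group,
        hinvert v hv (hswapD c hc hcF v hv hva) d hd, hinvert u hu hun _ (inv_mem hd), inv_inv]
    · rw [mul_smul, ← hva, smul_smul v v, hv2, one_smul, hua]
  have huniq : ∀ c, c ≠ a → Fx c → c = b := by
    intro c hc hcF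
    by_contra hcb
    set c' := u • c with hc'
    have hc'F : Fx c' := fun d hd => by
      have hm := hun d hd
      have e := hcF _ hm
      rw [mul_smul, mul_smul, inv_eq_of_mul_eq_one_right hu2] at e
      calc d • c' = (u * u) • d • u • c := by rw [hu2, one_smul]
        _ = u • c := by rw [mul_smul, e]
    have hc'a : c' ≠ a := fun e => hcb (by
      have := congrArg (fun x => u • x) e
      simpa [hc', smul_smul, hu2, hua] using this)
    obtain ⟨x₁, hx₁, -, hx₁c⟩ := hpair c hc hcF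
    obtain ⟨x₂, hx₂, hx₂a, -⟩ := hpair c' hc'a hc'F
    refine hnoy (x₁ * x₂) (fun d hd => ?_) ?_
    · rw [show x₁ * x₂ * d * (x₁ * x₂)⁻¹ = x₁ * (x₂ * d * x₂⁻¹) * x₁⁻¹ by group, hx₂ d hd, hx₁ d hd]
    · rw [mul_smul, hx₂a, hc', smul_smul u u, hu2, one_smul, hx₁c]
  -- conjugacy of complements gives transitivity
  have horb : ∀ c, c ≠ a → ∃ s ∈ (S : Subgroup G), s • b = c := by
    intro c hc
    set N := (S : Subgroup G).subgroupOf Mc
    have hSMc : (S : Subgroup G) ≤ Mc := h.le_cs.trans hCMc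
    haveI : N.Normal := ⟨fun x hx m => (mem_normalizer_iff.1 (hMcM m.2) x).1 hx⟩
    haveI : IsMulCommutative N :=
      ⟨⟨fun x y => Subtype.ext (Subtype.ext (h.hyp.two_group_comm S.isPGroup' x.2 y.2))⟩⟩
    obtain ⟨j, hj⟩ := card_S_pow (S := S)
    have hNc : Nat.card N = q := Nat.card_congr (subgroupOfEquivOfLe hSMc).toEquiv
    have hcop : Nat.Coprime q (q - 1) := by
      rw [hq, hj]
      exact (Nat.coprime_two_left.2 (hj ▸ hodd)).pow_left j
    have hMcard : Nat.card Mc = q * (q - 1) := by rw [hcard, hCS, mul_comm]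
    have hcompl : ∀ e, e ≠ a → N.IsComplement' ((D e).subgroupOf Mc) := fun e he => by
      have hDc : Nat.card ((D e).subgroupOf Mc) = q - 1 := by
        rw [Nat.card_congr (subgroupOfEquivOfLe (inf_le_left : D e ≤ Mc)).toEquiv, hDcard e he]
      exact isComplement'_of_coprime (by rw [hNc, hDc, hMcard]) (by rw [hNc, hDc]; exact hcop)
    obtain ⟨s, hs, e⟩ := Coprime.complement'_conj_of_abelian (by
      have h1 := N.card_mul_index
      rw [hNc, hMcard] at h1
      rw [hNc, Nat.eq_of_mul_eq_mul_left (by omega) h1]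
      exact hcop) (hcompl b hb) (hcompl c hc)
    have hsS : (s : G) ∈ (S : Subgroup G) := hs
    refine ⟨s, hsS, ?_⟩
    have hfix : Fx ((s : G)⁻¹ • c) := by
      intro d hd
      have h1 : s * ⟨d, hd.1⟩ * s⁻¹ ∈ (D c).subgroupOf Mc := by
        rw [← e]
        exact ⟨⟨d, hd.1⟩, mem_subgroupOf.2 hd, rfl⟩
      have h2 : ((s : G) * d * (s : G)⁻¹) • c = c := MulAction.mem_stabilizer_iff.1 (mem_subgroupOf.1 h1).2
      rw [mul_smul, mul_smul] at h2
      exact (eq_inv_smul_iff.2 h2)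
    have hne : (s : G)⁻¹ • c ≠ a := fun e1 => hc (by
      rw [inv_smul_eq_iff] at e1
      rw [e1]
      exact (hstab _).2 (le_normalizer hsS))
    rw [← huniq _ hne hfix, smul_inv_smul]
  intro g₁ g₂ hg₁ hg₂
  obtain ⟨s₁, hs₁, e₁⟩ := horb (g₁ • a) fun e => hg₁ ((hstab _).1 e)
  obtain ⟨s₂, hs₂, e₂⟩ := horb (g₂ • a) fun e => hg₂ ((hstab _).1 e)
  refine ⟨s₂ * s₁⁻¹, mul_mem hs₂ (inv_mem hs₁), (hstab _).1 ?_⟩
  rw [mul_smul, mul_smul, mul_smul, ← e₁, inv_smul_smul, e₂, inv_smul_smul]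

end Regular

/-- Regular orbit: the number of cosets of the normaliser. -/
theorem index_eq
    (htr : ∀ g₁ g₂ : G, g₁ ∉ Mn → g₂ ∉ Mn → ∃ s ∈ (S : Subgroup G), g₂⁻¹ * (s * g₁) ∈ Mn)
    (hreg : ∀ g : G, g ∉ Mn → ∀ s ∈ (S : Subgroup G), g⁻¹ * (s * g) ∈ Mn → s = 1) :
    (Mn).index = Nat.card (S : Subgroup G) + 1 := by
  classical
  let a : G ⧸ Mn := ((1 : G) : G ⧸ Mn)
  obtain ⟨g, hg⟩ : ∃ g : G, g ∉ Mn := by
    by_contra hall
    push Not at hall
    exact h.se.1 (eq_top_iff.2 fun x _ => hall x)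
  have hne : ∀ x : G, x ∉ Mn → (x : G ⧸ Mn) ≠ a := fun x hx e => hx (by
    have := QuotientGroup.eq.1 e
    simpa using this)
  let f : ↥(S : Subgroup G) → {c : G ⧸ Mn // c ≠ a} := fun s => ⟨((s * g : G) : G ⧸ Mn), hne _ fun e => hg (by
    have := mul_mem (inv_mem (le_normalizer s.2 : (s : G) ∈ Mn)) e
    rwa [inv_mul_cancel_left] at this)⟩
  have hf : Function.Bijective f := by
    constructor
    · intro s s' e
      have e' : ((s * g : G) : G ⧸ Mn) = ((s' * g : G) : G ⧸ Mn) := congrArg Subtype.val e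
      have h1 := QuotientGroup.eq.1 e'
      rw [show (↑s * g)⁻¹ * (↑s' * g) = g⁻¹ * (((s : G)⁻¹ * s') * g) by group] at h1
      exact Subtype.ext (inv_mul_eq_one.1 (hreg g hg _ (mul_mem (inv_mem s.2) s'.2) h1))
    · rintro ⟨c, hc⟩
      induction c using QuotientGroup.induction_on with
      | H x =>
        have hx : x ∉ Mn := fun e => hc (QuotientGroup.eq.2 (by simpa using inv_mem e))
        obtain ⟨s, hs, e⟩ := htr g x hg hx
        exact ⟨⟨s, hs⟩, Subtype.ext (QuotientGroup.eq.2 (by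
          have := inv_mem e
          simpa [mul_assoc] using this))⟩
  haveI : Fintype (G ⧸ Mn) := Fintype.ofFinite _
  have h1 : Nat.card {c : G ⧸ Mn // c ≠ a} + 1 = Nat.card (G ⧸ Mn) := by
    rw [Nat.card_eq_fintype_card, Nat.card_eq_fintype_card, Fintype.card_subtype_compl,
      Fintype.card_subtype_eq]
    have := Fintype.card_pos (α := G ⧸ Mn)
    omega
  rw [index_eq_card, ← h1, ← Nat.card_eq_of_bijective f hf]

/-- The normaliser of the Sylow 2-subgroup is `S` extended by a group of order `(q - 1) r`, regular on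
the other cosets. -/
theorem exists_regular (h2r : ∃ g : G, orderOf g = 2 * r)
    (hres : Nat.card (S : Subgroup G) = r + 1 →
      ∀ (K : Subgroup G) [K.Normal], ¬ r ∣ Nat.card K → ¬ IsPGroup r (G ⧸ K)) :
    Cs = (S : Subgroup G) ∧ ¬ r ∣ Nat.card (S : Subgroup G) - 1 ∧
      Nat.card Mn = r * ((Nat.card (S : Subgroup G) - 1) * Nat.card (S : Subgroup G)) ∧
      (Mn).index = Nat.card (S : Subgroup G) + 1 ∧
      (∀ g₁ g₂ : G, g₁ ∉ Mn → g₂ ∉ Mn → ∃ s ∈ (S : Subgroup G), g₂⁻¹ * (s * g₁) ∈ Mn) ∧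
      (∀ g : G, g ∉ Mn → ∀ s ∈ (S : Subgroup G), g⁻¹ * (s * g) ∈ Mn → s = 1) := by
  rcases h.cases with ⟨hq, hM, hreg⟩ | ⟨Mc, hCMc, hMcM, hconj, hnd, hcard, hfree, e | hidx⟩
  · exact (h.not_prime_shape h2r hq hM hreg (hres hq)).elim
  · subst e
    exact (h.not_semiregular h2r hnd hcard hfree).elim
  have hCS := h.cs_eq hCMc hMcM hconj hnd hcard hidx
  obtain ⟨htr, hreg⟩ := h.regular_orbit hCMc hMcM hconj hnd hcard hfree hidx
  exact ⟨hCS, hnd, by rw [hidx, hcard, hCS], h.index_eq htr hreg, htr, hreg⟩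

/-- No simple group with elements of order `2r` has a Sylow 2-subgroup of order eight or more. -/
theorem not_simple [IsSimpleGroup G] (h2r : ∃ g : G, orderOf g = 2 * r) : False := by
  classical
  haveI : Fact (Nat.Prime 2) := ⟨Nat.prime_two⟩
  obtain ⟨hCS, -, hMcard', hidxM', htr, hreg⟩ := h.exists_regular h2r (fun hq K _ hK hp => by
    rcases IsSimpleGroup.eq_bot_or_eq_top_of_normal K inferInstance with e | e
    · subst e
      haveI : Fact r.Prime := ⟨h.hyp.prime⟩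
      haveI := (hp.of_equiv (QuotientGroup.quotientBot (G := G))).isNilpotent
      exact h.ns inferInstance
    · subst e
      obtain ⟨g, hg⟩ := h2r
      exact hK (by rw [Subgroup.card_top]; exact (hg ▸ dvd_mul_left r 2).trans (orderOf_dvd_natCard g)))
  have h1222 := Cfsg.Agent.S1222.result Mn h.se (S : Subgroup G) le_normalizer normal_in_normalizer htr hreg
  -- the order of the group
  obtain ⟨j, hj⟩ := card_S_pow (S := S)
  have hq8 := h.eight
  rw [hj] at hq8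
  have hidxM : (Mn).index = 2 ^ j + 1 := by rw [hidxM', hj]
  have hMcard : Nat.card Mn = r * ((2 ^ j - 1) * 2 ^ j) := by rw [hMcard', hj]
  have hG : Nat.card G = 2 ^ j * (r * (2 ^ j - 1) * (2 ^ j + 1)) := by
    rw [← (Mn).card_mul_index, hidxM, hMcard]; ring
  have hje : 2 ^ j % 2 = 0 := by
    rw [Nat.pow_mod]
    rcases j with _ | j
    · simp at hq8
    · simp
  have hodd : Odd (r * (2 ^ j - 1) * (2 ^ j + 1)) := by
    refine (h.hyp.odd_r.mul ?_).mul ?_ <;> rw [Nat.odd_iff] <;> omega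
  have hr3 : 3 ≤ r := by
    have := h.hyp.prime.two_le
    have := h.hyp.ne_two
    omega
  have hpow : ∀ {q : ℕ} {F : Type} [Field F] [Fintype F], Fintype.card F = q → Even q → ∃ k, q = 2 ^ k := by
    intro q F _ _ hc he
    obtain ⟨p, _⟩ := CharP.exists F
    obtain ⟨n, hp, hn⟩ := FiniteField.card F p
    rw [hc] at hn
    have h2 : 2 ∣ p := Nat.prime_two.dvd_of_dvd_pow (hn ▸ even_iff_two_dvd.1 he)
    exact ⟨n, by rw [hn, ((Nat.prime_dvd_prime_iff_eq Nat.prime_two hp).1 h2).symm]⟩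
  rcases h1222 with ⟨F, _, _, hchar, hF4, ⟨e⟩⟩ | ⟨-, m, hm, hc⟩ | ⟨F, _, _, q, hFq, hqe, hq4, ⟨e⟩⟩
  · obtain ⟨k, hk⟩ : ∃ k, Fintype.card F = 2 ^ k := by
      haveI := hchar
      obtain ⟨n, -, hn⟩ := FiniteField.card F 2
      exact ⟨n, hn⟩
    have hke : 2 ^ k % 2 = 0 := by
      rw [Nat.pow_mod]
      rcases k with _ | k
      · rw [hk] at hF4; simp at hF4
      · simp
    have h1 := PSLOrderSpectrum.card_psl_two (F := F)
    rw [← Nat.card_congr e.toEquiv, hk] at h1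
    have hd : Nat.gcd 2 (2 ^ k - 1) = 1 := Nat.coprime_two_left.2 (Nat.odd_iff.2 (by omega))
    rw [hd, one_mul, hG] at h1
    have hk4 : 4 ≤ 2 ^ k := hk ▸ hF4
    obtain ⟨rfl, e1⟩ := two_pow_eq hodd ((Nat.odd_iff.2 (by omega : (2 ^ k - 1) % 2 = 1)).mul
      (Nat.odd_iff.2 (by omega : (2 ^ k + 1) % 2 = 1))) h1
    have hpos : 0 < (2 ^ j - 1) * (2 ^ j + 1) := Nat.mul_pos (by omega) (by omega)
    rw [mul_assoc] at e1
    nlinarith
  · set Q := 2 ^ (2 * m + 1) with hQ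
    have hQe : Q % 2 = 0 := by rw [hQ, pow_succ]; omega
    have hQ2 : 2 ≤ Q := Nat.le_self_pow (by omega) 2
    have hQsq : Q ^ 2 % 2 = 0 := by simp [Nat.pow_mod, hQe]
    rw [hG] at hc
    have hc' : 2 ^ j * (r * (2 ^ j - 1) * (2 ^ j + 1)) = 2 ^ ((2 * m + 1) * 2) * ((Q ^ 2 + 1) * (Q - 1)) := by
      rw [pow_mul, ← mul_assoc ((2 ^ (2 * m + 1)) ^ 2)]; exact hc
    obtain ⟨e0, e1⟩ := two_pow_eq hodd ((Nat.odd_iff.2 (by omega : (Q ^ 2 + 1) % 2 = 1)).mul
      (Nat.odd_iff.2 (by omega : (Q - 1) % 2 = 1))) hc'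
    have hq : Q ^ 2 = 2 ^ j := by rw [hQ, ← pow_mul, e0]
    rw [← hq] at e1 hq8
    have h2 : Q - 1 < Q ^ 2 - 1 := by
      have : Q < Q ^ 2 := by nlinarith
      omega
    have h3 : r * (Q ^ 2 - 1) = Q - 1 := by
      have : r * (Q ^ 2 - 1) * (Q ^ 2 + 1) = (Q - 1) * (Q ^ 2 + 1) := by rw [e1]; ring
      exact Nat.eq_of_mul_eq_mul_right (by omega) this
    nlinarith
  · obtain ⟨i, hi⟩ := hpow hFq (Nat.even_pow.2 ⟨hqe, two_ne_zero⟩)
    obtain ⟨k, -, rfl⟩ := (Nat.dvd_prime_pow Nat.prime_two).1 (hi ▸ dvd_pow_self q two_ne_zero)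
    have h1 := Classical.Unitary.natCard_PSU_mul (n := 3) hFq (by norm_num)
    rw [Classical.Unitary.natCard_GU hFq, ← Nat.card_congr e.toEquiv, hG] at h1
    simp only [Finset.prod_range_succ, Finset.prod_range_zero, Nat.even_iff, one_mul] at h1
    norm_num at h1
    set Q := 2 ^ k with hQ
    have hQe : Q % 2 = 0 := Nat.even_iff.1 hqe
    have hdodd : Odd (Nat.gcd 3 (Q + 1)) := (show Odd 3 by decide).of_dvd_nat (Nat.gcd_dvd_left _ _)
    have hQ2 : Q ^ 2 % 2 = 0 := by simp [Nat.pow_mod, hQe]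
    have hQ3 : Q ^ 3 % 2 = 0 := by simp [Nat.pow_mod, hQe]
    have hQ21 : 1 ≤ Q ^ 2 := Nat.one_le_pow _ _ (by omega)
    have h2 : 2 ^ j * (Nat.gcd 3 (Q + 1) * (r * (2 ^ j - 1) * (2 ^ j + 1))) =
        2 ^ (3 * k) * ((Q ^ 2 - 1) * (Q ^ 3 + 1)) := by
      rw [mul_comm 3 k, pow_mul, ← hQ]
      refine Nat.eq_of_mul_eq_mul_right (show 0 < Q + 1 by omega) ?_
      linear_combination h1
    obtain ⟨e0, e1⟩ := two_pow_eq (hdodd.mul hodd) ((Nat.odd_iff.2 (by omega : (Q ^ 2 - 1) % 2 = 1)).mul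
      (Nat.odd_iff.2 (by omega : (Q ^ 3 + 1) % 2 = 1))) h2
    have hq : Q ^ 3 = 2 ^ j := by rw [hQ, ← pow_mul, mul_comm k, e0]
    rw [← hq] at e1
    have hd0 : 0 < Nat.gcd 3 (Q + 1) := Nat.gcd_pos_of_pos_left _ (by norm_num)
    have h3 : Nat.gcd 3 (Q + 1) * (r * (Q ^ 3 - 1)) = Q ^ 2 - 1 := by
      refine Nat.eq_of_mul_eq_mul_right (show 0 < Q ^ 3 + 1 by omega) ?_
      linear_combination e1
    have h4 : Q ^ 2 - 1 < Q ^ 3 - 1 := by
      have : Q ^ 2 < Q ^ 3 := Nat.pow_lt_pow_right (by omega) (by norm_num)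
      omega
    have h5 : Q ^ 3 - 1 ≤ r * (Q ^ 3 - 1) := Nat.le_mul_of_pos_left _ (by omega)
    have h6 : r * (Q ^ 3 - 1) ≤ Nat.gcd 3 (Q + 1) * (r * (Q ^ 3 - 1)) := Nat.le_mul_of_pos_left _ hd0
    omega

end Big

end Cfsg.Agent.ThreeOrders
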