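import Mathlib
import Cfsg.Agent.S2202
import Cfsg.Agent.S2475
import Cfsg.Agent.Lib.GW.MainFinal
import Cfsg.Agent.Lib.PSLOrderSpectrum.Main
import Cfsg.Agent.Lib.PrimeBlock.Brauer.CubePerfect
import Cfsg.Agent.Lib.ThreeOrders.CaseII

/-!
The socle, and the simple groups with the hypothesis.
-/

set_option autoImplicit false
set_option linter.style.haveILetI false

namespace Cfsg.Agent.ThreeOrders

open Subgroup

universe u

variable {G : Type u} [Group G] [Finite G] {r : ℕ}

namespace Hyp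

variable (h : Hyp G r)

include h

omit [Finite G] in
theorem exists_involution_of_nonsolvable [Finite G] {N : Subgroup G} (hN : ¬ Group.IsSolvable N) :
    ∃ t ∈ N, orderOf t = 2 := by
  have hd : 2 ∣ Nat.card N := by
    by_contra hd
    exact hN (Cfsg.Agent.S0205.result (Nat.odd_iff.2 (Nat.two_dvd_ne_zero.1 hd)))
  haveI : Fact (Nat.Prime 2) := ⟨Nat.prime_two⟩
  obtain ⟨t, ht⟩ := exists_prime_orderOf_dvd_card' (G := N) 2 hd
  exact ⟨t, t.2, by rw [Subgroup.orderOf_coe, ht]⟩

/-- Non-solvable normal subgroups do not commute. -/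
theorem commuting_absurd {A B : Subgroup G} (hA : ¬ Group.IsSolvable A) (hB : ¬ Group.IsSolvable B)
    (hc : ∀ a ∈ A, ∀ b ∈ B, a * b = b * a) : False := by
  obtain ⟨t, ht, ht2⟩ := h.exists_involution_of_nonsolvable hA
  haveI := h.cent_solvable ht2
  exact hB (Group.isSolvable_of_isSolvable_injective (Subgroup.inclusion_injective
    (show B ≤ centralizer ({t} : Set G) from fun b hb =>
      mem_centralizer_singleton_iff.2 (hc t ht b hb).symm)))

/-- There is a non-abelian simple normal subgroup with trivial centraliser. -/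
theorem exists_socle (hns : ¬ Group.IsSolvable G) :
    ∃ N : Subgroup G, N.Normal ∧ IsSimpleGroup N ∧ ¬ Group.IsSolvable N ∧
      centralizer (N : Set G) = ⊥ := by
  classical
  have hex : ∃ n, ∃ N : Subgroup G, N.Normal ∧ N ≠ ⊥ ∧ Nat.card N = n :=
    ⟨_, ⊤, inferInstance, fun e => hns (by
      haveI : Subsingleton G := subsingleton_iff_bot_eq_top.1 e.symm |> Subgroup.subsingleton_iff.1
      infer_instance), rfl⟩
  obtain ⟨N, hNn, hN1, hNc⟩ := Nat.find_spec hex
  haveI := hNn
  have hmin : ∀ K : Subgroup G, K.Normal → K ≠ ⊥ → K ≤ N → K = N := fun K hK hK1 hKN =>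
    eq_of_le_of_card_ge hKN (hNc.symm ▸ Nat.find_min' hex ⟨K, hK, hK1, rfl⟩)
  have hNs : ¬ Group.IsSolvable N := fun hs => hN1 (h.solvable_normal_eq_bot hns hNn hs)
  have hCN : centralizer (N : Set G) = ⊥ := by
    by_contra hC
    refine h.commuting_absurd hNs (fun hs => hC (h.solvable_normal_eq_bot hns inferInstance hs))
      fun a ha b hb => mem_centralizer_iff.1 hb a ha
  refine ⟨N, hNn, ?_, hNs, hCN⟩
  haveI : Nontrivial N := (Subgroup.nontrivial_iff_ne_bot N).2 hN1
  -- a minimal normal subgroup of `N` is all of it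
  have key : ∀ (n : ℕ) (L : Subgroup N), Nat.card L = n → L.Normal → L ≠ ⊥ → L = ⊤ := by
    intro n
    induction n using Nat.strong_induction_on with
    | _ n ih =>
      intro L hLc hLn hL1
      haveI := hLn
      have hLmin : ∀ K : Subgroup N, K.Normal → K ≤ L → K = ⊥ ∨ K = L := by
        intro K hK hKL
        by_cases hK1 : K = ⊥
        · exact Or.inl hK1
        right
        by_contra hne
        have hlt : Nat.card K < n := hLc ▸ lt_of_le_of_ne (card_le_of_le hKL)
          fun e => hne (eq_of_le_of_card_ge hKL e.ge)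
        have := ih _ hlt K rfl hK hK1
        exact hne (le_antisymm hKL (this ▸ le_top))
      have hLs : ¬ Group.IsSolvable L := fun hs =>
        hL1 ((h.subgroup N).solvable_normal_eq_bot hNs hLn hs)
      have hmapn : (L.map N.subtype).Normal := by
        refine ⟨fun x hx g => ?_⟩
        set L' := L.map (MulAut.conjNormal g : MulAut N).toMonoidHom
        have hL'n : L'.Normal := Subgroup.Normal.map hLn _ (MulEquiv.surjective _)
        rcases hLmin (L ⊓ L') inferInstance inf_le_left with e | e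
        · exfalso
          refine (h.subgroup N).commuting_absurd hLs (B := L') (fun hs => hLs ?_) fun a ha b hb =>
            (Subgroup.commute_of_normal_of_disjoint L L' hLn hL'n (disjoint_iff.2 e) a b ha hb).eq
          haveI := hs
          exact Group.isSolvable_of_surjective
            (f := (L.equivMapOfInjective (MulAut.conjNormal g : MulAut N).toMonoidHom
              (MulEquiv.injective (MulAut.conjNormal g : MulAut N))).symm.toMonoidHom)
            (MulEquiv.surjective _)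
        · have hLL' : L = L' := eq_of_le_of_card_ge (inf_eq_left.1 e)
            (le_of_eq (card_map_of_injective (MulEquiv.injective _)))
          obtain ⟨y, hy, rfl⟩ := hx
          have hy' : MulAut.conjNormal g y ∈ L := by
            rw [hLL']; exact ⟨y, hy, rfl⟩
          exact ⟨_, hy', MulAut.conjNormal_apply g y⟩
      have h1 := hmin _ hmapn (fun e => hL1 ((map_eq_bot_iff_of_injective _ N.subtype_injective).1 e))
        (map_subtype_le _)
      refine eq_top_iff.2 fun x _ => ?_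
      obtain ⟨y, hy, e⟩ : (x : G) ∈ L.map N.subtype := h1.symm ▸ x.2
      rwa [← Subtype.ext e]
  exact ⟨fun L hL => or_iff_not_imp_left.2 (key _ L rfl hL)⟩

/-- A non-solvable group has a Sylow 2-subgroup of order at least four. -/
theorem four_le_card (hns : ¬ Group.IsSolvable G) (S : Sylow 2 G) : 4 ≤ Nat.card (S : Subgroup G) := by
  haveI : Fact (Nat.Prime 2) := ⟨Nat.prime_two⟩
  obtain ⟨y, p, -, -, -, hyS, s, hs, hys⟩ := h.exists_mover hns S
  obtain ⟨a, ha⟩ := S.isPGroup'.exists_card_eq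
  by_contra hlt
  have ha2 : a ≤ 1 := by
    by_contra h2
    have : 2 ^ 2 ≤ 2 ^ a := Nat.pow_le_pow_right (by norm_num) (by omega)
    omega
  have hle : Nat.card (S : Subgroup G) ≤ 2 := ha ▸ (Nat.pow_le_pow_right (by norm_num) ha2 : 2 ^ a ≤ 2 ^ 1)
  have h1 : y * s * y⁻¹ ≠ s := fun e => hys (mul_inv_eq_iff_eq_mul.1 e)
  have hs1 : s ≠ 1 := fun e => hys (by simp [e])
  have h2 : y * s * y⁻¹ ≠ 1 := fun e => hs1 (by
    calc s = y⁻¹ * (y * s * y⁻¹) * y := by group
      _ = 1 := by rw [e]; group)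
  have hsub : ({1, s, y * s * y⁻¹} : Set G) ⊆ (S : Subgroup G) := by
    rintro x (rfl | rfl | rfl)
    exacts [one_mem _, hs, hyS s hs]
  have := Set.ncard_le_ncard hsub (Set.toFinite _)
  rw [Set.ncard_eq_three.2 ⟨1, s, y * s * y⁻¹, hs1.symm, h2.symm, h1.symm, rfl⟩, ← Nat.card_coe_set_eq]
    at this
  have hS : Nat.card ((S : Subgroup G) : Set G) = Nat.card (S : Subgroup G) := rfl
  omega

/-- Without elements of order `2r` the group is `SL(2, F)` in characteristic two. -/
theorem sl_of_no_two_r (hns : ¬ Group.IsSolvable G) (hno : ¬ ∃ g : G, orderOf g = 2 * r) (S : Sylow 2 G) :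
    ∃ (F : Type) (_ : Field F) (_ : Fintype F),
      Fintype.card F = Nat.card (S : Subgroup G) ∧
        Nonempty (G ≃* Matrix.ProjectiveSpecialLinearGroup (Fin 2) F) := by
  classical
  haveI : Fact (Nat.Prime 2) := ⟨Nat.prime_two⟩
  have hsq : ∀ t : G, orderOf t = 2 → ∀ x ∈ centralizer ({t} : Set G), x * x = 1 := by
    intro t ht x hx
    rcases Nat.even_or_odd (orderOf x) with he | ho
    · rcases h.even_order x (even_iff_two_dvd.1 he) with e | e
      · rw [← pow_two, ← e, pow_orderOf_eq_one]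
      · exact absurd ⟨x, e⟩ hno
    · by_contra hx1
      have hx' : x ≠ 1 := fun e => hx1 (by simp [e])
      have hxo := h.orderOf_eq_r (h.pow_r_of_commute ht (mem_centralizer_singleton_iff.1 hx) ho) hx'
      refine hno ⟨t * x, ?_⟩
      have hc : Commute t x := (mem_centralizer_singleton_iff.1 hx).symm
      rw [hc.orderOf_mul_eq_mul_orderOf_of_coprime
        (by rw [ht, hxo]; exact Nat.coprime_two_left.2 h.odd_r), ht, hxo]
  have hab : ∀ t : G, orderOf t = 2 → IsMulCommutative (centralizer ({t} : Set G)) := by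
    intro t ht
    refine ⟨⟨fun a b => Subtype.ext ?_⟩⟩
    have ha := hsq t ht a a.2
    have hb := hsq t ht b b.2
    have hab := hsq t ht _ (mul_mem a.2 b.2)
    show (a : G) * b = b * a
    calc (a : G) * b = ((a : G) * b)⁻¹ := (inv_eq_of_mul_eq_one_right hab).symm
      _ = (b : G)⁻¹ * (a : G)⁻¹ := mul_inv_rev _ _
      _ = b * a := by rw [inv_eq_of_mul_eq_one_right ha, inv_eq_of_mul_eq_one_right hb]
  have h4 := h.four_le_card hns S
  have heven : Even (Nat.card G) := by
    obtain ⟨a, ha⟩ := S.isPGroup'.exists_card_eq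
    refine even_iff_two_dvd.2 (dvd_trans ?_ (Subgroup.card_subgroup_dvd_card (S : Subgroup G)))
    rw [ha] at h4 ⊢
    exact dvd_pow_self 2 fun e => by rw [e] at h4; norm_num at h4
  rcases Cfsg.Agent.S2202.result heven hab with hc | hn | ⟨F, _, _, A, _, _, hchar, hA, ⟨e⟩⟩
  · exfalso
    haveI := hc S
    obtain ⟨g, hg⟩ := IsCyclic.exists_ofOrder_eq_natCard (α := (S : Subgroup G))
    have : orderOf g ≤ 2 := Nat.le_of_dvd two_pos
      (orderOf_dvd_of_pow_eq_one (Subtype.ext (by simpa [pow_two] using h.two_group_sq S.isPGroup' g.2)))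
    omega
  · exfalso
    have := h.two_core_eq_bot hns (hn S) S.isPGroup'
    rw [this, Subgroup.card_bot] at h4
    omega
  haveI := hchar
  -- the abelian factor is trivial
  have hA1 : ∀ a : A, a = 1 := fun a => by
    set L := ((MonoidHom.inr (Matrix.SpecialLinearGroup (Fin 2) F) A).range).map e.symm.toMonoidHom
    have hLn : L.Normal := Subgroup.Normal.map ⟨by
      rintro _ ⟨c, rfl⟩ ⟨g₁, g₂⟩
      exact ⟨g₂ * c * g₂⁻¹, by simp⟩⟩ _ e.symm.surjective
    have hLodd : Odd (Nat.card L) := by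
      rw [card_map_of_injective e.symm.injective,
        ← Nat.card_congr (MonoidHom.ofInjective (f := MonoidHom.inr (Matrix.SpecialLinearGroup (Fin 2) F) A)
          fun x y hxy => congrArg Prod.snd hxy).toEquiv]
      exact hA
    have hbot : L = ⊥ := le_bot_iff.1 (h.oddCore_eq_bot hns ▸ InvChar.Core.le_oddCore hLn hLodd)
    have h1 : e.symm (1, a) ∈ L := ⟨(1, a), ⟨a, rfl⟩, rfl⟩
    rw [hbot, Subgroup.mem_bot, ← map_one e.symm] at h1
    exact congrArg Prod.snd (e.symm.injective h1)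
  have e' : G ≃* Matrix.SpecialLinearGroup (Fin 2) F :=
    e.trans { toFun := fun x => x.1
              invFun := fun x => (x, 1)
              left_inv := fun x => Prod.ext rfl (hA1 _).symm
              right_inv := fun x => rfl
              map_mul' := fun x y => rfl }
  obtain ⟨k, hk0, hk⟩ : ∃ k : ℕ, k ≠ 0 ∧ Fintype.card F = 2 ^ k := by
    obtain ⟨k, -, hk⟩ := FiniteField.card F 2
    exact ⟨k, k.pos.ne', hk⟩
  obtain ⟨ψ⟩ := Cfsg.Agent.PrimeBlock.Brauer.sl_equiv_psl F hk0 hk
  refine ⟨F, inferInstance, inferInstance, ?_, ⟨e'.trans ψ.symm⟩⟩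
  have h1 := PSLOrderSpectrum.card_psl_two (F := F)
  rw [← Nat.card_congr (e'.trans ψ.symm).toEquiv, hk] at h1
  have h2 : 2 ^ k % 2 = 0 := by
    rw [Nat.pow_mod]
    rcases k with _ | k
    · simp at hk0
    · simp
  have hpos : 1 ≤ 2 ^ k := Nat.one_le_two_pow
  rw [Nat.coprime_two_left.2 (Nat.odd_iff.2 (by omega : (2 ^ k - 1) % 2 = 1)), one_mul,
    ← (S : Subgroup G).card_mul_index] at h1
  obtain ⟨a, ha⟩ := S.isPGroup'.exists_card_eq
  rw [ha] at h1 ⊢
  rw [hk, (two_pow_eq (Nat.odd_iff.2 (Nat.two_dvd_ne_zero.1 S.not_dvd_index))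
    ((Nat.odd_iff.2 (by omega : (2 ^ k - 1) % 2 = 1)).mul
      (Nat.odd_iff.2 (by omega : (2 ^ k + 1) % 2 = 1))) h1).1]

/-- A simple group with a four-group as Sylow 2-subgroup and an element of order `2r`. -/
theorem psl_of_four [IsSimpleGroup G] (hns : ¬ Group.IsSolvable G) (h2r : ∃ g : G, orderOf g = 2 * r)
    (S : Sylow 2 G) (h4 : Nat.card (S : Subgroup G) = 4) :
    ∃ (F : Type) (_ : Field F) (_ : Fintype F), 5 < Fintype.card F ∧
      (Fintype.card F % 8 = 3 ∨ Fintype.card F % 8 = 5) ∧ ¬ r ^ 2 ∣ Nat.card G ∧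
      Nonempty (G ≃* Matrix.ProjectiveSpecialLinearGroup (Fin 2) F) := by
  classical
  haveI : Fact (Nat.Prime 2) := ⟨Nat.prime_two⟩
  haveI : IsKleinFour (S : Subgroup G) := by
    haveI : Nontrivial (S : Subgroup G) := Finite.one_lt_card_iff_nontrivial.1 (by omega)
    refine ⟨h4, ?_⟩
    refine Monoid.exponent_eq_prime_iff Nat.prime_two |>.2 fun g hg => ?_
    exact orderOf_eq_prime (Subtype.ext (by simpa [pow_two] using h.two_group_sq S.isPGroup' g.2)) hg
  obtain ⟨ed⟩ := IsKleinFour.nonempty_mulEquiv (G₁ := (S : Subgroup G)) (G₂ := DihedralGroup 2)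
  obtain ⟨m, hm, hG⟩ : ∃ m, Odd m ∧ Nat.card G = 4 * m :=
    ⟨_, Nat.odd_iff.2 (Nat.two_dvd_ne_zero.1 S.not_dvd_index), by rw [← h4, (S : Subgroup G).card_mul_index]⟩
  rcases GW.simpleGW G S 2 le_rfl ⟨ed⟩ with ⟨F, _, _, hodd, ⟨e⟩⟩ | hA7
  swap
  · obtain ⟨e⟩ := hA7
    exfalso
    rw [Nat.card_congr e.toEquiv, nat_card_alternatingGroup] at hG
    simp [Nat.factorial] at hG
    obtain ⟨k, rfl⟩ := hm
    omega
  refine ⟨F, inferInstance, inferInstance, ?_⟩
  set q := Fintype.card F with hq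
  have hq2 : q % 2 = 1 := Nat.odd_iff.1 hodd
  have hcard := PSLOrderSpectrum.card_psl_two (F := F)
  rw [← hq, ← Nat.card_congr e.toEquiv,
    Nat.gcd_eq_left (show 2 ∣ q - 1 by omega), hG] at hcard
  have h8 : q % 8 = 3 ∨ q % 8 = 5 := by
    have hlt : q % 8 < 8 := Nat.mod_lt _ (by norm_num)
    have hcase : q % 8 = 1 ∨ q % 8 = 3 ∨ q % 8 = 5 ∨ q % 8 = 7 := by omega
    have h16 : ∀ {a b : ℕ}, 8 ∣ a → 2 ∣ b → q * (a * b) ≠ 2 * (4 * m) := by
      rintro a b ⟨a', rfl⟩ ⟨b', rfl⟩ e
      have h2 : m = 2 * (q * (a' * b')) := by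
        have : q * (8 * a' * (2 * b')) = 8 * (2 * (q * (a' * b'))) := by ring
        rw [this] at e
        omega
      exact Nat.not_even_iff_odd.2 hm (h2 ▸ even_two_mul _)
    rcases hcase with e1 | e1 | e1 | e1
    · exact absurd hcard.symm (h16 (by omega) (by omega))
    · exact Or.inl e1
    · exact Or.inr e1
    · exfalso
      rw [mul_comm (q - 1)] at hcard
      exact absurd hcard.symm (h16 (by omega) (by omega))
  have hq5 : 4 ≤ q := by
    by_contra hlt
    have hq3 : q = 3 := by omega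
    rw [hq3] at hcard
    norm_num at hcard
    have h12 : Nat.card G = 12 := by omega
    exact hns (h.solvable_of_primes fun p hp hd => by
      rw [h12] at hd
      obtain ⟨g, hg⟩ := h2r
      have h3 : 2 * r ∣ 12 := h12 ▸ hg ▸ orderOf_dvd_natCard g
      have h6 : r ∣ 6 := (Nat.mul_dvd_mul_iff_left two_pos).1 (by simpa using h3)
      rcases (Nat.Prime.dvd_mul h.prime).1 (show r ∣ 2 * 3 by simpa using h6) with k | k
      · exact absurd ((Nat.prime_dvd_prime_iff_eq h.prime Nat.prime_two).1 k) h.ne_two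
      · have hr := (Nat.prime_dvd_prime_iff_eq h.prime Nat.prime_three).1 k
        rcases hp.dvd_mul.1 (show p ∣ 4 * 3 by simpa using hd) with k' | k'
        · exact Or.inl ((Nat.prime_dvd_prime_iff_eq hp Nat.prime_two).1 (hp.dvd_of_dvd_pow (n := 2) k'))
        · exact Or.inr (hr ▸ (Nat.prime_dvd_prime_iff_eq hp Nat.prime_three).1 k'))
  obtain ⟨p, hpc⟩ := CharP.exists F
  haveI := hpc
  haveI : Fact p.Prime := ⟨CharP.char_is_prime F p⟩
  have hpodd : ¬ 2 ∣ p := fun hd => by
    obtain ⟨n, -, hn⟩ := FiniteField.card F p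
    have : 2 ∣ q := hq ▸ hn ▸ hd.trans (dvd_pow_self p n.pos.ne')
    omega
  have hrange := Cfsg.Agent.S2475.result (F := F) p hq5
  rw [← hq, Nat.gcd_eq_left (show 2 ∣ q - 1 by omega)] at hrange
  have hof : ∀ m : ℕ, (m ∣ p ∨ m ∣ (q - 1) / 2 ∨ m ∣ (q + 1) / 2) → ∃ g : G, orderOf g = m := fun m hm => by
    obtain ⟨x, hx⟩ : m ∈ Set.range (orderOf : Matrix.ProjectiveSpecialLinearGroup (Fin 2) F → ℕ) :=
      hrange ▸ hm
    exact ⟨e.symm x, by rw [MulEquiv.orderOf_eq, hx]⟩
  obtain ⟨g, hg⟩ := h2r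
  have hmem : orderOf (e g) ∈ Set.range (orderOf : Matrix.ProjectiveSpecialLinearGroup (Fin 2) F → ℕ) :=
    ⟨_, rfl⟩
  rw [hrange, MulEquiv.orderOf_eq, hg] at hmem
  have hr0 := h.prime.pos
  -- one of `(q ± 1) / 2` is `2r`
  have hkey : q = 4 * r + 1 ∨ q + 1 = 4 * r := by
    have heq : ∀ d : ℕ, 2 * r ∣ d → (d = (q - 1) / 2 ∨ d = (q + 1) / 2) → d = 2 * r := by
      intro d hd hd'
      obtain ⟨x, hx⟩ := hof d (by rcases hd' with rfl | rfl <;> simp)
      rcases h.even_order x (hx ▸ (dvd_mul_right 2 r).trans hd) with k | k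
      · exfalso
        rw [hx] at k
        have h3 := Nat.le_of_dvd two_pos (k ▸ hd)
        have := h.prime.two_le
        omega
      · exact hx ▸ k
    rcases hmem with k | k | k
    · exact absurd ((dvd_mul_right 2 r).trans k) hpodd
    · left
      have := heq _ k (Or.inl rfl)
      omega
    · right
      have := heq _ k (Or.inr rfl)
      omega
  have hr3 : 3 ≤ r := by
    have := h.prime.two_le
    have := h.ne_two
    omega
  refine ⟨by omega, h8, ?_, ⟨e⟩⟩
  intro hd
  -- `r` divides `q (q² - 1)` once only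
  have hco : Nat.Coprime r q := by
    rw [Nat.Prime.coprime_iff_not_dvd h.prime]
    intro hrq
    rcases hkey with k | k
    · exact h.prime.ne_one (Nat.dvd_one.1 ((Nat.dvd_add_iff_right (dvd_mul_left r 4)).2 (k ▸ hrq)))
    · exact h.prime.ne_one (Nat.dvd_one.1 ((Nat.dvd_add_iff_right hrq).2 (k ▸ dvd_mul_left r 4)))
  have hd2 : r ^ 2 ∣ q * ((q - 1) * (q + 1)) := by
    rw [← hcard, ← hG]
    exact hd.mul_left 2
  have hd3 := (Nat.Coprime.pow_left 2 hco).dvd_of_dvd_mul_left hd2
  rcases hkey with k | k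
  · rw [show (q - 1) * (q + 1) = r * (4 * (q + 1)) by rw [show q - 1 = 4 * r by omega]; ring, pow_two,
      Nat.mul_dvd_mul_iff_left hr0] at hd3
    have hr4 : Nat.Coprime r 4 := (Nat.coprime_two_right.2 h.odd_r).pow_right 2
    have h5 := hr4.dvd_of_dvd_mul_left hd3
    rw [k, add_assoc, ← Nat.dvd_add_iff_right (dvd_mul_left r 4)] at h5
    exact h.ne_two ((Nat.prime_dvd_prime_iff_eq h.prime Nat.prime_two).1 h5)
  · rw [show (q - 1) * (q + 1) = r * (4 * (q - 1)) by rw [k]; ring, pow_two,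
      Nat.mul_dvd_mul_iff_left hr0] at hd3
    have hr4 : Nat.Coprime r 4 := (Nat.coprime_two_right.2 h.odd_r).pow_right 2
    have h5 := hr4.dvd_of_dvd_mul_left hd3
    have h6 : r ∣ (q - 1) + 2 := by rw [show q - 1 + 2 = 4 * r by omega]; exact dvd_mul_left r 4
    exact h.ne_two ((Nat.prime_dvd_prime_iff_eq h.prime Nat.prime_two).1 ((Nat.dvd_add_iff_right h5).2 h6))

end Hyp

end Cfsg.Agent.ThreeOrders
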