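import Mathlib
import Cfsg.Agent.S2119
import Cfsg.Agent.S0252
import Cfsg.Agent.Lib.ThreeOrders.Simple

/-!
A group with the hypothesis, non-solvable and with an element of order `2r`, is its own socle.
-/

set_option autoImplicit false
set_option linter.style.haveILetI false

namespace Cfsg.Agent.ThreeOrders

open Subgroup

universe u

/-- A permutation of exponent `r` of fewer than `r` points is trivial. -/
theorem perm_eq_one {α : Type*} [Finite α] {r : ℕ} (hr : r.Prime) (hlt : Nat.card α < r) {σ : Equiv.Perm α}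
    (hσ : σ ^ r = 1) : σ = 1 := by
  classical
  haveI : Fintype α := Fintype.ofFinite α
  by_contra hne
  haveI : Fact r.Prime := ⟨hr⟩
  have h1 : r ∣ Nat.card (Equiv.Perm α) := orderOf_eq_prime hσ hne ▸ orderOf_dvd_natCard σ
  rw [Nat.card_perm] at h1
  exact absurd ((Nat.Prime.dvd_factorial hr).1 h1) (not_le.2 hlt)

/-- Conjugation by an element of exponent `r` fixes every element of a finite set it maps into itself,
if the set has fewer than `r` elements. -/
theorem commute_of_card_lt {G : Type*} [Group G] [Finite G] {r : ℕ} (hr : r.Prime) {x : G} (hx : x ^ r = 1)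
    (K : Subgroup G) (hK : ∀ k ∈ K, x * k * x⁻¹ ∈ K) (hlt : Nat.card K < r + 1) {k : G} (hk : k ∈ K) :
    Commute x k := by
  classical
  have hinj : Function.Injective fun y : {y : K // y ≠ 1} =>
      (⟨⟨x * (y.1 : G) * x⁻¹, hK _ y.1.2⟩, fun e => y.2 (Subtype.ext (conj_eq_one_iff.1 (congrArg Subtype.val e)))⟩ :
        {y : K // y ≠ 1}) := fun a b e => by
    have e' : x * (a.1 : G) * x⁻¹ = x * (b.1 : G) * x⁻¹ :=
      congrArg (fun y : {y : K // y ≠ 1} => ((y.1 : K) : G)) e
    exact Subtype.ext (Subtype.ext (mul_left_cancel (mul_right_cancel e')))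
  set σ : Equiv.Perm {y : K // y ≠ 1} := Equiv.ofBijective _ (Finite.injective_iff_bijective.1 hinj)
  have hpow : ∀ (n : ℕ) (y : {y : K // y ≠ 1}), (((σ ^ n) y).1 : G) = x ^ n * (y.1 : G) * (x ^ n)⁻¹ := by
    intro n
    induction n with
    | zero => intro y; simp
    | succ n ih =>
      intro y
      rw [pow_succ', Equiv.Perm.mul_apply]
      show x * (((σ ^ n) y).1 : G) * x⁻¹ = _
      rw [ih, pow_succ']
      group
  have hσ : σ ^ r = 1 := Equiv.ext fun y => Subtype.ext (Subtype.ext (by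
    rw [hpow, hx]; simp))
  have hcard : Nat.card {y : K // y ≠ 1} < r := by
    rw [card_ne_one_sub]
    have := Nat.card_pos (α := K)
    omega
  by_cases hk1 : k = 1
  · rw [hk1]; exact Commute.one_right x
  have := congrArg (fun y : {y : K // y ≠ 1} => ((y.1 : K) : G))
    (Equiv.ext_iff.1 (perm_eq_one hr hcard hσ) ⟨⟨k, hk⟩, fun e => hk1 (congrArg Subtype.val e)⟩)
  exact mul_inv_eq_iff_eq_mul.1 (show x * k * x⁻¹ = k from this)

/-- In a solvable group with a four-group as Sylow 2-subgroup, the elements of odd order centralising an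
involution lie in the odd core. -/
theorem mem_core_of_four {H : Type*} [Group H] [Finite H] (hs : Group.IsSolvable H) (T : Sylow 2 H)
    (hTc : ∀ a ∈ (T : Subgroup H), ∀ b ∈ (T : Subgroup H), a * b = b * a)
    (h4 : Nat.card (T : Subgroup H) = 4) (hT2 : ∀ a ∈ (T : Subgroup H), a * a = 1) {s w : H}
    (hsT : s ∈ (T : Subgroup H)) (hs1 : s ≠ 1) (hw : Odd (orderOf w)) (hc : Commute w s) :
    w ∈ Cfsg.oddCore H := by
  classical
  haveI : Fact (Nat.Prime 2) := ⟨Nat.prime_two⟩
  haveI := hs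
  haveI : (Cfsg.oddCore H).Normal := ZStar.Main.oddCore_normal
  set f := QuotientGroup.mk' (Cfsg.oddCore H)
  have hf : Function.Surjective f := QuotientGroup.mk'_surjective _
  obtain ⟨hTn, hTC⟩ := sylow_normal_of_core (Group.isSolvable_of_surjective hf)
    InvChar.Core.oddCore_quotient_oddCore_eq_bot (T.mapSurjective hf) (by
      rintro _ ⟨a, ha, rfl⟩ _ ⟨b, hb, rfl⟩
      rw [← map_mul, ← map_mul, hTc a ha b hb])
  have hker : ∀ a ∈ (T : Subgroup H), f a = 1 → a = 1 := fun a ha e =>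
    eq_one_of_odd_two InvChar.Core.odd_card_oddCore ((QuotientGroup.eq_one_iff a).1 e) T.isPGroup' ha
  -- the four elements
  obtain ⟨u, hu, hu1, hus⟩ : ∃ u ∈ (T : Subgroup H), u ≠ 1 ∧ u ≠ s := by
    by_contra hall
    push Not at hall
    have hsub : ((T : Subgroup H) : Set H) ⊆ {1, s} := fun y hy => by
      by_cases hy1 : y = 1
      exacts [Or.inl hy1, Or.inr (hall y hy hy1)]
    have := Set.ncard_le_ncard hsub (Set.toFinite _)
    rw [← Nat.card_coe_set_eq] at this
    have h2 : ({1, s} : Set H).ncard ≤ 2 := (Set.ncard_insert_le _ _).trans (by rw [Set.ncard_singleton])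
    have : Nat.card ((T : Subgroup H) : Set H) = Nat.card (T : Subgroup H) := rfl
    omega
  have hlist : ∀ a ∈ (T : Subgroup H), a = 1 ∨ a = s ∨ a = u ∨ a = s * u := by
    intro a ha
    by_contra hne
    push Not at hne
    obtain ⟨n1, n2, n3, n4⟩ := hne
    have d1 : s * u ≠ 1 := fun e => hus (by
      calc u = s * (s * u) := by rw [← mul_assoc, hT2 s hsT, one_mul]
        _ = s := by rw [e, mul_one])
    have hcard : ({1, s, u, s * u, a} : Finset H).card = 5 := by
      rw [Finset.card_insert_of_notMem, Finset.card_insert_of_notMem, Finset.card_insert_of_notMem,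
        Finset.card_pair] <;>
        simp [hs1.symm, hu1.symm, d1.symm, n1.symm, n2.symm, n3.symm, n4.symm, hus.symm, hu1, hs1]
    have hsub : (({1, s, u, s * u, a} : Finset H) : Set H) ⊆ (T : Subgroup H) := by
      intro y hy
      simp only [Finset.coe_insert, Finset.coe_singleton, Set.mem_insert_iff, Set.mem_singleton_iff] at hy
      rcases hy with rfl | rfl | rfl | rfl | rfl
      exacts [one_mem _, hsT, hu, mul_mem hsT hu, ha]
    have := Set.ncard_le_ncard hsub (Set.toFinite _)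
    rw [Set.ncard_coe_finset, ← Nat.card_coe_set_eq] at this
    have : Nat.card ((T : Subgroup H) : Set H) = Nat.card (T : Subgroup H) := rfl
    omega
  have hfs : f w * f s * (f w)⁻¹ = f s := by
    rw [← map_mul, hc.eq, map_mul, mul_inv_cancel_right]
  obtain ⟨a, ha, ea⟩ := hTn.conj_mem _ (mem_map_of_mem f hu) (f w)
  have ea' : f a = f w * f u * (f w)⁻¹ := ea
  have hwo : Odd (orderOf (f w)) := hw.of_dvd_nat (orderOf_map_dvd f w)
  have hsu : f w * f u * (f w)⁻¹ = f u := by
    rcases hlist a ha with e | e | e | e <;> rw [e] at ea'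
    · rw [map_one] at ea'
      exact absurd (hker u hu (conj_eq_one_iff.1 ea'.symm)) hu1
    · exfalso
      rw [← hfs] at ea'
      have e1 : f u = f s := (mul_left_cancel (mul_right_cancel ea')).symm
      have h3 := hker _ (mul_mem (inv_mem hsT) hu) (by rw [map_mul, map_inv, e1, inv_mul_cancel])
      exact hus (inv_mul_eq_one.1 h3).symm
    · exact ea'.symm
    · -- then `w²` fixes `u`, so `w` does
      rw [map_mul] at ea'
      have h2 : Commute (f w ^ 2) (f u) := by
        refine mul_inv_eq_iff_eq_mul.1 ?_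
        calc f w ^ 2 * f u * (f w ^ 2)⁻¹ = f w * (f w * f u * (f w)⁻¹) * (f w)⁻¹ := by rw [pow_two]; group
          _ = f w * (f s * f u) * (f w)⁻¹ := by rw [← ea']
          _ = (f w * f s * (f w)⁻¹) * (f w * f u * (f w)⁻¹) := by group
          _ = f s * (f s * f u) := by rw [hfs, ← ea']
          _ = f u := by rw [← mul_assoc, ← map_mul, hT2 s hsT, map_one, one_mul]
      obtain ⟨k, hk⟩ := exists_pow_eq_self_of_coprime (x := f w) (n := 2) (Nat.coprime_two_left.2 hwo)
      have h3 : Commute (f w) (f u) := hk ▸ h2.pow_left k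
      rw [h3.eq, mul_inv_cancel_right]
  have hwC : f w ∈ centralizer ((((T.mapSurjective hf : Sylow 2 (H ⧸ Cfsg.oddCore H)) :
      Subgroup (H ⧸ Cfsg.oddCore H))) : Set (H ⧸ Cfsg.oddCore H)) := by
    rw [mem_centralizer_iff]
    rintro _ ⟨b, hb, rfl⟩
    have c1 : Commute (f w) (f s) := mul_inv_eq_iff_eq_mul.1 hfs
    have c2 : Commute (f w) (f u) := mul_inv_eq_iff_eq_mul.1 hsu
    rcases hlist b hb with rfl | rfl | rfl | rfl
    · rw [map_one, one_mul, mul_one]
    · exact c1.eq.symm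
    · exact c2.eq.symm
    · rw [map_mul]; exact (c1.mul_right c2).eq.symm
  obtain ⟨b, hb, eb⟩ := hTC hwC
  have eb' : f b = f w := eb
  refine (QuotientGroup.eq_one_iff w).1 (show f w = 1 from ?_)
  have h1 : f w ^ 2 = 1 := by rw [← eb', ← map_pow, pow_two, hT2 b hb, map_one]
  have h2 := pow_gcd_eq_one.2 ⟨h1, pow_orderOf_eq_one (f w)⟩
  rwa [(Nat.coprime_two_left.2 hwo).gcd_eq_one, pow_one] at h2

variable {G : Type u} [Group G] [Finite G] {r : ℕ}

namespace Hyp

variable (h : Hyp G r)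

include h

theorem sylow_le_socle (hns : ¬ Group.IsSolvable G) {N : Subgroup G} (hNn : N.Normal)
    (hNs : ¬ Group.IsSolvable N) (S : Sylow 2 G) : (S : Subgroup G) ≤ N := by
  classical
  haveI := hNn
  haveI : Fact (Nat.Prime 2) := ⟨Nat.prime_two⟩
  intro s hs
  by_cases hs1 : s = 1
  · exact hs1 ▸ one_mem N
  obtain ⟨a, ha⟩ := S.isPGroup'.exists_card_eq
  have h4 := h.four_le_card hns S
  by_cases h8 : 8 ≤ Nat.card (S : Subgroup G)
  · obtain ⟨t, htN, ht⟩ := h.exists_involution_of_nonsolvable hNs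
    obtain ⟨c, hc⟩ := isConj_iff.1 (h.involutions_isConj hns S h8 ht (h.orderOf_two S hs hs1))
    exact hc ▸ hNn.conj_mem t htN c
  · have hS : Nat.card (S : Subgroup G) = 4 := by
      rw [ha] at h4 h8 ⊢
      have h2 : a = 2 := by
        by_contra hne
        rcases Nat.lt_or_ge a 2 with l | l
        · have : 2 ^ a ≤ 2 ^ 1 := Nat.pow_le_pow_right (by norm_num) (by omega)
          omega
        · have : 2 ^ 3 ≤ 2 ^ a := Nat.pow_le_pow_right (by norm_num) (by omega)
          omega
      rw [h2]; norm_num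
    obtain ⟨T⟩ : Nonempty (Sylow 2 N) := inferInstance
    obtain ⟨P, hP⟩ := (T.isPGroup'.map N.subtype).exists_le_sylow
    obtain ⟨g, hg⟩ := MulAction.exists_smul_eq G P S
    have h1 := (h.subgroup N).four_le_card hNs T
    have hPc : Nat.card (P : Subgroup G) = 4 := by rw [← hS, P.card_eq_multiplicity, S.card_eq_multiplicity]
    have hPN : (T : Subgroup N).map N.subtype = (P : Subgroup G) :=
      eq_of_le_of_card_ge hP (by rw [card_map_of_injective N.subtype_injective, hPc]; exact h1)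
    rw [← hg, Sylow.coe_subgroup_smul] at hs
    obtain ⟨p, hp, rfl⟩ := hs
    exact hNn.conj_mem p (map_subtype_le _ (hPN ▸ hp)) g

/-- The socle has not got a large Sylow 2-subgroup. -/
theorem not_big (hns : ¬ Group.IsSolvable G) (h2r : ∃ g : G, orderOf g = 2 * r) {N : Subgroup G}
    (hNn : N.Normal) (hNsim : IsSimpleGroup N) (hNs : ¬ Group.IsSolvable N) (S : Sylow 2 G)
    (h8 : 8 ≤ Nat.card (S : Subgroup G)) : False := by
  classical
  haveI := hNn
  haveI := hNsim
  haveI : Fact (Nat.Prime 2) := ⟨Nat.prime_two⟩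
  haveI : Fact r.Prime := ⟨h.prime⟩
  have hSN := h.sylow_le_socle hns hNn hNs S
  set T : Sylow 2 N := S.subtype hSN with hT
  have hTc : Nat.card (T : Subgroup N) = Nat.card (S : Subgroup G) :=
    Nat.card_congr (subgroupOfEquivOfLe hSN).toEquiv
  have hN2 : ¬ ∃ g : N, orderOf g = 2 * r := fun he =>
    Big.not_simple (S := T) ⟨h.subgroup N, hNs, hTc ▸ h8⟩ he
  obtain ⟨F, _, _, hF, ⟨e⟩⟩ := (h.subgroup N).sl_of_no_two_r hNs hN2 T
  rw [hTc] at hF
  set q := Nat.card (S : Subgroup G) with hq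
  obtain ⟨j, hj⟩ : ∃ j, q = 2 ^ j := S.isPGroup'.exists_card_eq
  have hj0 : j ≠ 0 := fun e0 => by rw [e0, pow_zero] at hj; omega
  have hqe : q % 2 = 0 := by
    rw [hj, Nat.pow_mod]
    rcases j with _ | j
    · exact absurd rfl hj0
    · simp
  have hgcd : Nat.gcd 2 (q - 1) = 1 := Nat.coprime_two_left.2 (Nat.odd_iff.2 (by omega))
  have hNcard : Nat.card N = q * ((q - 1) * (q + 1)) := by
    have h1 := PSLOrderSpectrum.card_psl_two (F := F)
    rw [hF, hgcd, one_mul, ← Nat.card_congr e.toEquiv] at h1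
    exact h1
  set Mn := normalizer ((S : Subgroup G) : Set G)
  have hb : Big S r := ⟨h, hns, h8⟩
  obtain ⟨hCS, hnd, hMcard, hidx, htr, hreg⟩ := hb.exists_regular h2r (fun hqr K _ hK hp => by
    rcases IsSimpleGroup.eq_bot_or_eq_top_of_normal (K.subgroupOf N) inferInstance with e1 | e1
    · refine hNs ?_
      have hinj : Function.Injective ((QuotientGroup.mk' K).comp N.subtype) := by
        rw [← MonoidHom.ker_eq_bot_iff, ← MonoidHom.comap_ker, QuotientGroup.ker_mk']
        exact e1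
      haveI := (hp.of_injective _ hinj).isNilpotent
      infer_instance
    · refine hK (dvd_trans ?_ (card_dvd_of_le (subgroupOf_eq_top.1 e1)))
      rw [hNcard, show q - 1 = r by omega]
      exact Dvd.dvd.mul_left (dvd_mul_right r _) q)
  obtain ⟨t, ht, ht1, x, hxt, hxo⟩ := hb.exists_r_in_cent h2r
  have hto := h.orderOf_two S ht ht1
  have hxr : x ^ r = 1 := by rw [← hxo, pow_orderOf_eq_one]
  have hxM : x ∈ Mn := hb.cent_le ht ht1 hxt
  have hrq : ¬ r ∣ q := fun hd => h.ne_two
    ((Nat.prime_dvd_prime_iff_eq h.prime Nat.prime_two).1 (h.prime.dvd_of_dvd_pow (hj ▸ hd)))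
  let a : G ⧸ Mn := ((1 : G) : G ⧸ Mn)
  have hstab : ∀ y : G, y • a = a ↔ y ∈ Mn := fun y => by
    rw [← MulAction.mem_stabilizer_iff, show MulAction.stabilizer G a = Mn from MulAction.stabilizer_quotient _]
  -- a second fixed point
  obtain ⟨b, hbx, hba⟩ : ∃ b : G ⧸ Mn, x • b = b ∧ b ≠ a := by
    by_contra hall
    push Not at hall
    have hP : IsPGroup r (zpowers x) := IsPGroup.of_card (n := 1) (by rw [Nat.card_zpowers, hxo, pow_one])
    have hfix : MulAction.fixedPoints (zpowers x) (G ⧸ Mn) = {a} := by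
      ext c
      rw [Set.mem_singleton_iff]
      constructor
      · intro hc
        exact hall c (hc ⟨x, mem_zpowers x⟩)
      · rintro rfl ⟨y, hy⟩
        exact (hstab y).2 (zpowers_le.2 hxM hy)
    have h1 := hP.card_modEq_card_fixedPoints (G ⧸ Mn)
    rw [hfix, Nat.card_coe_set_eq, Set.ncard_singleton, ← index_eq_card, hidx] at h1
    exact hrq (Nat.modEq_zero_iff_dvd.1 (Nat.ModEq.add_right_cancel' 1 (show q + 1 ≡ 0 + 1 [MOD r] from h1)))
  set C := centralizer ({x} : Set G)
  -- an involution commuting with `x` that moves `a`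
  obtain ⟨v, hvC, hva⟩ : ∃ v ∈ C, v • a ≠ a := by
    obtain ⟨g, rfl⟩ := MulAction.exists_smul_eq G a b
    set x' := g⁻¹ * x * g with hx'
    have hx'M : x' ∈ Mn := (hstab _).1 (by rw [hx', mul_smul, mul_smul, hbx, inv_smul_smul])
    have hx'o : orderOf x' = r := by
      rw [show x' = MulAut.conj g⁻¹ x by simp [hx'], MulEquiv.orderOf_eq, hxo]
    have hZ : ∀ (y : G) (hy : y ∈ Mn), orderOf y = r →
        Nat.card (zpowers (⟨y, hy⟩ : Mn)) = r ^ (Nat.card Mn).factorization r := by
      intro y hy hyo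
      rw [Nat.card_zpowers, ← Subgroup.orderOf_coe, hyo, hMcard,
        Nat.factorization_mul h.prime.ne_zero (Nat.mul_ne_zero (by omega) (by omega)), Finsupp.add_apply,
        h.prime.factorization_self, Nat.factorization_eq_zero_of_not_dvd (fun hd =>
          (h.prime.dvd_mul.1 hd).elim hnd hrq), add_zero, pow_one]
    set P : Sylow r Mn := Sylow.ofCard _ (hZ x hxM hxo)
    set P' : Sylow r Mn := Sylow.ofCard _ (hZ x' hx'M hx'o)
    obtain ⟨m, hm⟩ := MulAction.exists_smul_eq Mn P P'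
    have hmem : (⟨x', hx'M⟩ : Mn) ∈ (P' : Subgroup Mn) := mem_zpowers _
    rw [← hm, Sylow.coe_subgroup_smul] at hmem
    obtain ⟨z, hz, ez⟩ := hmem
    obtain ⟨i, rfl⟩ := hz
    have ez' : (m : G) * x ^ i * (m : G)⁻¹ = x' := by
      have := congrArg Subtype.val ez
      simpa using this
    set t' := (m : G) * t * (m : G)⁻¹ with ht'
    have hc' : Commute x' t' := by
      rw [← ez', ht']
      exact (Commute.conj_iff _).2 ((show Commute x t from mem_centralizer_singleton_iff.1 hxt).zpow_left i)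
    have ht'o : orderOf t' = 2 := by
      rw [show t' = MulAut.conj (m : G) t from rfl, MulEquiv.orderOf_eq, hto]
    have ht'M : t' ∈ Mn := mul_mem (mul_mem m.2 (le_normalizer ht)) (inv_mem m.2)
    refine ⟨g * t' * g⁻¹, mem_centralizer_singleton_iff.2 ?_, fun e => hba ?_⟩
    · calc g * t' * g⁻¹ * x = g * (t' * x') * g⁻¹ := by rw [hx']; group
        _ = g * (x' * t') * g⁻¹ := by rw [hc'.eq]
        _ = x * (g * t' * g⁻¹) := by rw [hx']; group
    · have hgo : orderOf (g * t' * g⁻¹) = 2 := by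
        rw [show g * t' * g⁻¹ = MulAut.conj g t' from rfl, MulEquiv.orderOf_eq, ht'o]
      exact (Involutions.StronglyEmbedded.existsUnique_fixed hb.se hgo).unique
        (show (g * t' * g⁻¹) • (g • a) = g • a by
          rw [mul_smul, mul_smul, inv_smul_smul, (hstab t').2 ht'M]) e
  -- the orbit of `a` under the centraliser of `x`
  set O := MulAction.orbit C a
  have hOodd : Odd (Nat.card O) := by
    set tC : C := ⟨t, mem_centralizer_singleton_iff.2 (mem_centralizer_singleton_iff.1 hxt).symm⟩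
    have hP : IsPGroup 2 (zpowers tC) := IsPGroup.of_card (n := 1) (by
      rw [Nat.card_zpowers, ← Subgroup.orderOf_coe, hto, pow_one])
    have hfix : MulAction.fixedPoints (zpowers tC) O = {⟨a, MulAction.mem_orbit_self a⟩} := by
      ext ⟨c, hc⟩
      rw [Set.mem_singleton_iff]
      constructor
      · intro hc'
        have h1 : t • c = c := congrArg Subtype.val (hc' ⟨tC, mem_zpowers tC⟩)
        exact Subtype.ext ((Involutions.StronglyEmbedded.existsUnique_fixed hb.se hto).unique h1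
          ((hstab t).2 (le_normalizer ht)))
      · rintro e ⟨y, hy⟩
        obtain ⟨i, rfl⟩ := hy
        rw [e]
        refine Subtype.ext ((hstab _).2 ?_)
        push_cast
        exact zpow_mem (le_normalizer ht) i
    have h1 := hP.card_modEq_card_fixedPoints O
    have h2 : Nat.card ({⟨a, MulAction.mem_orbit_self a⟩} : Set O) = 1 := by simp
    rw [hfix, h2] at h1
    exact Nat.odd_iff.2 h1
  have hO1 : Nat.card O ≠ 1 := fun e1 => hva (by
    haveI := (Nat.card_eq_one_iff_unique.1 e1).1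
    exact congrArg Subtype.val (Subsingleton.elim (⟨(⟨v, hvC⟩ : C) • a, MulAction.mem_orbit _ _⟩ : O)
      ⟨a, MulAction.mem_orbit_self a⟩))
  have hCcard : Nat.card O * Nat.card (MulAction.stabilizer C a) = Nat.card C := by
    rw [← (MulAction.stabilizer C a).card_mul_index, MulAction.index_stabilizer, ← Nat.card_coe_set_eq,
      mul_comm]
  have hr2 : r ^ 2 ∣ Nat.card G := by
    obtain ⟨p, hp, hpO⟩ := Nat.exists_prime_and_dvd hO1
    have hpC : p ∣ Nat.card C := hCcard ▸ hpO.mul_right _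
    haveI : Fact p.Prime := ⟨hp⟩
    obtain ⟨c, hc⟩ := exists_prime_orderOf_dvd_card' p hpC
    rw [← Subgroup.orderOf_coe] at hc
    rcases h.prime_of_commute_r hp hxo hc (mem_centralizer_singleton_iff.1 c.2).symm with e1 | e1
    · subst e1
      exact absurd (even_iff_two_dvd.2 hpO) (Nat.not_even_iff_odd.2 hOodd)
    subst e1
    have hxs : p ∣ Nat.card (MulAction.stabilizer C a) := by
      have hm : (⟨x, mem_centralizer_singleton_iff.2 rfl⟩ : C) ∈ MulAction.stabilizer C a :=
        MulAction.mem_stabilizer_iff.2 ((hstab x).2 hxM)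
      have := (MulAction.stabilizer C a).orderOf_dvd_natCard hm
      rwa [← Subgroup.orderOf_coe, hxo] at this
    rw [pow_two]
    exact (Nat.mul_dvd_mul hpO hxs).trans (hCcard ▸ C.card_subgroup_dvd_card)
  have hrq1 : r ∣ q + 1 := by
    rw [← (Mn).card_mul_index, hMcard, hidx, pow_two, mul_assoc r,
      Nat.mul_dvd_mul_iff_left h.prime.pos] at hr2
    rcases h.prime.dvd_mul.1 hr2 with k | k
    · exact absurd (h.prime.dvd_mul.1 k) (fun k' => k'.elim hnd hrq)
    · exact k
  -- the socle has an element of order `q + 1`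
  obtain ⟨p, hpc⟩ := CharP.exists F
  haveI := hpc
  haveI : Fact p.Prime := ⟨CharP.char_is_prime F p⟩
  have hrange := Cfsg.Agent.S2475.result (F := F) p (by omega)
  rw [hF, hgcd, Nat.div_one, Nat.div_one] at hrange
  obtain ⟨y, hy⟩ : q + 1 ∈ Set.range (orderOf : Matrix.ProjectiveSpecialLinearGroup (Fin 2) F → ℕ) :=
    hrange ▸ Or.inr (Or.inr dvd_rfl)
  have hy' : orderOf ((e.symm y : N) : G) = q + 1 := by rw [Subgroup.orderOf_coe, MulEquiv.orderOf_eq, hy]
  have hqr : q + 1 = r := by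
    rcases h.r_order _ (hy'.symm ▸ hrq1) with k | k <;> rw [hy'] at k
    · exact k
    · omega
  -- so `x` centralises `S`
  have hxC : x ∈ centralizer ((S : Subgroup G) : Set G) := mem_centralizer_iff.2 fun s hs =>
    (commute_of_card_lt h.prime hxr (S : Subgroup G) (fun k hk => (mem_normalizer_iff.1 hxM k).1 hk)
      (by omega) hs).eq.symm
  rw [hCS] at hxC
  have h1 : r ∣ q := hxo ▸ (S : Subgroup G).orderOf_dvd_natCard hxC
  exact hrq h1

/-- With a four-group as Sylow 2-subgroup the group is simple. -/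
theorem socle_eq_top (hns : ¬ Group.IsSolvable G) {N : Subgroup G}
    (hNn : N.Normal) (hNsim : IsSimpleGroup N) (hNs : ¬ Group.IsSolvable N)
    (hCN : centralizer (N : Set G) = ⊥) (S : Sylow 2 G) (h4 : Nat.card (S : Subgroup G) = 4) : N = ⊤ := by
  classical
  haveI := hNn
  haveI := hNsim
  haveI : Fact (Nat.Prime 2) := ⟨Nat.prime_two⟩
  haveI : Fact r.Prime := ⟨h.prime⟩
  by_contra hne
  have hSN := h.sylow_le_socle hns hNn hNs S
  have hN := h.subgroup N
  set T : Sylow 2 N := S.subtype hSN with hTdef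
  have hTc : Nat.card (T : Subgroup N) = 4 := by
    rw [← h4]; exact Nat.card_congr (subgroupOfEquivOfLe hSN).toEquiv
  have hidxodd : Odd N.index := by
    rw [Nat.odd_iff, ← Nat.two_dvd_ne_zero]
    exact fun hd => S.not_dvd_index (hd.trans (index_dvd_of_le hSN))
  have hsqN : ∀ z : G, z ∉ N → z ^ 2 ∉ N := fun z hz hz2 => hz (by
    have h1 : z ^ N.index ∈ N := Subgroup.pow_index_mem _ _
    exact mem_of_pow_mem N hz2 h1 (Nat.coprime_two_left.2 hidxodd))
  -- transitivity on the involutions of `S`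
  obtain ⟨y, p, hp, hp2, hy, hyS, s, hs, hys⟩ := hN.exists_mover hNs T
  have hs1 : s ≠ 1 := fun e => hys (by simp [e])
  set s₁ := y * s * y⁻¹ with hs₁
  set s₂ := y * s₁ * y⁻¹ with hs₂
  have hs₁T : s₁ ∈ (T : Subgroup N) := hyS s hs
  have hs₂T : s₂ ∈ (T : Subgroup N) := hyS _ hs₁T
  have d1 : s₁ ≠ s := fun e => hys (mul_inv_eq_iff_eq_mul.1 e)
  have d2 : s₂ ≠ s₁ := fun e => d1 (mul_left_cancel (mul_right_cancel (e.trans hs₁)))
  have d3 : s₂ ≠ s := fun e => hys (by
    have hc : Commute (y ^ 2) s := mul_inv_eq_iff_eq_mul.1 (by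
      calc y ^ 2 * s * (y ^ 2)⁻¹ = s₂ := by rw [hs₂, hs₁, pow_two]; group
        _ = s := e)
    obtain ⟨k, hk⟩ := exists_pow_eq_self_of_coprime (x := y) (n := 2)
      (hy ▸ (Nat.coprime_primes Nat.prime_two hp).2 hp2.symm)
    exact hk ▸ (hc.pow_left k).eq)
  have e1 : s₁ ≠ 1 := fun e => hs1 (conj_eq_one_iff.1 e)
  have e2 : s₂ ≠ 1 := fun e => e1 (conj_eq_one_iff.1 e)
  have hall : ∀ a ∈ (T : Subgroup N), a = 1 ∨ a = s ∨ a = s₁ ∨ a = s₂ := by
    intro a ha
    by_contra hne'
    push Not at hne'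
    obtain ⟨n1, n2, n3, n4⟩ := hne'
    have hcard : ({1, s, s₁, s₂, a} : Finset N).card = 5 := by
      rw [Finset.card_insert_of_notMem, Finset.card_insert_of_notMem, Finset.card_insert_of_notMem,
        Finset.card_pair] <;>
        simp [hs1.symm, e1.symm, e2.symm, n1.symm, n2.symm, n3.symm, n4.symm, d1.symm, d2.symm, d3.symm]
    have hsub : (({1, s, s₁, s₂, a} : Finset N) : Set N) ⊆ (T : Subgroup N) := by
      intro w hw
      simp only [Finset.coe_insert, Finset.coe_singleton, Set.mem_insert_iff, Set.mem_singleton_iff] at hw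
      rcases hw with rfl | rfl | rfl | rfl | rfl
      exacts [one_mem _, hs, hs₁T, hs₂T, ha]
    have := Set.ncard_le_ncard hsub (Set.toFinite _)
    rw [Set.ncard_coe_finset, ← Nat.card_coe_set_eq] at this
    have : Nat.card ((T : Subgroup N) : Set N) = Nat.card (T : Subgroup N) := rfl
    omega
  -- an element outside the socle centralising `S`
  obtain ⟨x, hxN, hxr, hxS⟩ : ∃ x : G, x ∉ N ∧ x ^ r = 1 ∧ ∀ a ∈ (S : Subgroup G), Commute x a := by
    have htop := Sylow.normalizer_sup_eq_top' (N := N) S hSN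
    obtain ⟨w, hw, hwN⟩ : ∃ w ∈ normalizer ((S : Subgroup G) : Set G), w ∉ N := by
      by_contra hall'
      push Not at hall'
      exact hne (by rw [← htop, sup_eq_right.2 hall'])
    have hsS : (s : G) ∈ (S : Subgroup G) := hs
    have hyN : ∀ k : ℕ, ((y : G) ^ k) ∈ normalizer ((S : Subgroup G) : Set G) := fun k =>
      pow_mem (mem_normalizer_fintype fun a ha => by
        exact hyS ⟨a, hSN ha⟩ ha) k
    obtain ⟨n, hnN, hnS, hn⟩ : ∃ n : G, n ∈ N ∧ n ∈ normalizer ((S : Subgroup G) : Set G) ∧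
        n * (s : G) * n⁻¹ = w * (s : G) * w⁻¹ := by
      have hmem : w * (s : G) * w⁻¹ ∈ (S : Subgroup G) := (mem_normalizer_iff.1 hw _).1 hsS
      rcases hall ⟨_, hSN hmem⟩ hmem with e | e | e | e <;> have e' := congrArg Subtype.val e <;> simp only at e'
      · exact absurd (Subtype.ext (conj_eq_one_iff.1 e')) hs1
      · exact ⟨1, one_mem _, one_mem _, by rw [e']; simp⟩
      · exact ⟨(y : G) ^ 1, pow_mem y.2 1, hyN 1, by rw [e', pow_one, hs₁]; simp⟩
      · exact ⟨(y : G) ^ 2, pow_mem y.2 2, hyN 2, by rw [e', pow_two, hs₂, hs₁]; simp [mul_assoc]⟩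
    set z := n⁻¹ * w with hz
    have hzN : z ∉ N := fun e => hwN (by
      have := mul_mem hnN e
      rwa [hz, mul_inv_cancel_left] at this)
    have hzS : z ∈ normalizer ((S : Subgroup G) : Set G) := mul_mem (inv_mem hnS) hw
    have hzs : Commute z (s : G) := mul_inv_eq_iff_eq_mul.1 (by
      calc z * (s : G) * z⁻¹ = n⁻¹ * (w * s * w⁻¹) * n := by rw [hz]; group
        _ = s := by rw [← hn]; group)
    have hz2 : ∀ a ∈ (S : Subgroup G), Commute (z ^ 2) a := by
      have hstep : ∀ b ∈ (T : Subgroup N), z * (b : G) * z⁻¹ ∈ (S : Subgroup G) :=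
        fun b hb => (mem_normalizer_iff.1 hzS _).1 hb
      have hinj : ∀ b b' : N, z * (b : G) * z⁻¹ = z * (b' : G) * z⁻¹ → b = b' := fun b b' e =>
        Subtype.ext (mul_left_cancel (mul_right_cancel e))
      have hzs' : z * (s : G) * z⁻¹ = s := by rw [hzs.eq, mul_inv_cancel_right]
      intro a ha
      refine mul_inv_eq_iff_eq_mul.1 ?_
      rw [show z ^ 2 * a * (z ^ 2)⁻¹ = z * (z * a * z⁻¹) * z⁻¹ by rw [pow_two]; group]
      have hmv : ∀ b ∈ (T : Subgroup N), b ≠ 1 → b ≠ s → ∃ c ∈ (T : Subgroup N), c ≠ 1 ∧ c ≠ s ∧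
          z * (b : G) * z⁻¹ = (c : G) := by
        intro b hb hb1 hbs
        refine ⟨⟨_, hSN (hstep b hb)⟩, hstep b hb, fun e => ?_, fun e => ?_, rfl⟩
        · exact hb1 (Subtype.ext (conj_eq_one_iff.1 (congrArg Subtype.val e)))
        · exact hbs (hinj b s (by rw [hzs']; exact congrArg Subtype.val e))
      by_cases ha1 : a = 1
      · simp [ha1]
      by_cases has : a = (s : G)
      · rw [has, hzs', hzs']
      obtain ⟨c, hc, hc1, hcs, ec⟩ := hmv ⟨a, hSN ha⟩ ha (fun e => ha1 (congrArg Subtype.val e))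
        (fun e => has (congrArg Subtype.val e))
      obtain ⟨d, hd, hd1, hds, ed⟩ := hmv c hc hc1 hcs
      rw [show z * a * z⁻¹ = (c : G) from ec, ed]
      -- two points are left, and `z` permutes them
      by_cases hca : (c : G) = a
      · have e4 : z * a * z⁻¹ = (c : G) := ec
        rw [hca] at ed e4
        rw [← ed, e4]
      · have hdc : d ≠ c := fun e => hca (mul_left_cancel (mul_right_cancel
          ((ed.trans (congrArg Subtype.val e)).trans ec.symm)))
        have hcases : ∀ b ∈ (T : Subgroup N), b ≠ 1 → b ≠ s → b = s₁ ∨ b = s₂ := fun b hb hb1 hbs => by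
          rcases hall b hb with e | e | e | e
          exacts [absurd e hb1, absurd e hbs, Or.inl e, Or.inr e]
        have ca := hcases ⟨a, hSN ha⟩ ha (fun e => ha1 (congrArg Subtype.val e)) (fun e => has (congrArg Subtype.val e))
        have cc := hcases c hc hc1 hcs
        have cd := hcases d hd hd1 hds
        have hca' : c ≠ ⟨a, hSN ha⟩ := fun e => hca (congrArg Subtype.val e)
        have : d = ⟨a, hSN ha⟩ := by
          rcases ca with ea | ea <;> rcases cc with ec' | ec' <;> rcases cd with ed' | ed'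
          all_goals first
            | exact ed'.trans ea.symm
            | exact absurd (ec'.trans ea.symm) hca'
            | exact absurd (ed'.trans ec'.symm) hdc
        exact congrArg Subtype.val this
    have h2z := hsqN z hzN
    refine ⟨(z ^ 2) ^ 2, hsqN _ h2z, ?_, fun a ha => (hz2 a ha).pow_left 2⟩
    have hs2 : orderOf (s : G) = 2 := h.orderOf_two S hsS (fun e => hs1 (Subtype.ext e))
    rw [← pow_mul (z ^ 2)]
    rcases Nat.even_or_odd (orderOf (z ^ 2)) with he | ho
    · rcases h.even_order _ (even_iff_two_dvd.1 he) with k | k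
      · have h5 := pow_orderOf_eq_one (z ^ 2)
        rw [k] at h5
        rw [pow_mul, h5, one_pow]
      · have h5 := pow_orderOf_eq_one (z ^ 2)
        rwa [k] at h5
    · rw [mul_comm, pow_mul, h.pow_r_of_commute hs2 (hz2 _ hsS) ho, one_pow]
  have hxo : orderOf x = r := h.orderOf_eq_r hxr fun e => hxN (e ▸ one_mem N)
  by_cases h2N : ∃ g : N, orderOf g = 2 * r
  swap
  · -- the socle is `A₅`, without outer automorphisms of odd order
    obtain ⟨F, _, _, hF, ⟨e⟩⟩ := hN.sl_of_no_two_r hNs h2N T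
    obtain ⟨e5⟩ := Cfsg.Agent.S0252.result (F := F) (hF.trans hTc)
    set ψ := e.trans e5
    set φ : MulAut N := MulAut.conjNormal x
    obtain ⟨σ, hσ⟩ := (Cfsg.Agent.S2119.result 5 (by norm_num) (by norm_num)).2
      ((ψ.symm.trans φ).trans ψ)
    have hσr : σ ^ r = 1 := by
      refine (Cfsg.Agent.S2119.result 5 (by norm_num) (by norm_num)).1 ?_
      rw [map_pow, map_one, hσ]
      have hk : ∀ (k : ℕ) a, ((ψ.symm.trans φ).trans ψ ^ k : MulAut (alternatingGroup (Fin 5))) a
          = ψ ((φ ^ k) (ψ.symm a)) := by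
        intro k
        induction k with
        | zero => intro a; simp
        | succ k ih =>
          intro a
          rw [pow_succ', MulAut.mul_apply, ih, pow_succ', MulAut.mul_apply]
          simp
      ext1 a
      rw [hk, ← map_pow, hxr, map_one]
      simp
    have hσA : σ ∈ alternatingGroup (Fin 5) := by
      rw [Equiv.Perm.mem_alternatingGroup]
      have h1 := congrArg Equiv.Perm.sign hσr
      rw [map_pow, map_one] at h1
      obtain ⟨k, hk⟩ := h.odd_r
      rwa [hk, pow_succ, pow_mul, Int.units_sq, one_pow, one_mul] at h1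
    set n : N := ψ.symm ⟨σ, hσA⟩
    have hxn : (n : G)⁻¹ * x ∈ centralizer (N : Set G) := by
      rw [mem_centralizer_iff]
      intro a ha
      have h1 := congrArg ψ.symm (DFunLike.congr_fun hσ (ψ ⟨a, ha⟩))
      simp only [MulEquiv.trans_apply, MulEquiv.symm_apply_apply] at h1
      have h2 : MulAut.conjNormal σ (ψ ⟨a, ha⟩) = ψ (n * ⟨a, ha⟩ * n⁻¹) := by
        apply Subtype.ext
        rw [MulAut.conjNormal_apply, map_mul, map_mul, map_inv]
        simp [n]
      rw [h2, MulEquiv.symm_apply_apply] at h1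
      have h3 : (n : G) * a * (n : G)⁻¹ = x * a * x⁻¹ := congrArg Subtype.val h1
      calc a * ((n : G)⁻¹ * x) = (n : G)⁻¹ * ((n : G) * a * (n : G)⁻¹) * x := by group
        _ = (n : G)⁻¹ * (x * a * x⁻¹) * x := by rw [h3]
        _ = (n : G)⁻¹ * x * a := by group
    rw [hCN, Subgroup.mem_bot] at hxn
    exact hxN (inv_mul_eq_one.1 hxn ▸ n.2)
  -- the elements of order `r` centralising the involutions of `S`
  obtain ⟨F, _, _, -, -, hr2, -⟩ := hN.psl_of_four hNs h2N T hTc
  obtain ⟨g, hg⟩ := h2N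
  have hwit : ∀ t ∈ (T : Subgroup N), t ≠ 1 → ∃ w : N, orderOf w = r ∧ Commute w t := by
    have hr0 := h.prime.pos
    have h2 : orderOf (g ^ r) = 2 := by
      rw [orderOf_pow_of_dvd hr0.ne' (hg ▸ dvd_mul_left r 2), hg, Nat.mul_div_cancel _ hr0]
    have hr : orderOf (g ^ 2) = r := by
      rw [orderOf_pow_of_dvd two_ne_zero (hg ▸ dvd_mul_right 2 r), hg, Nat.mul_div_cancel_left _ two_pos]
    have hP : IsPGroup 2 (zpowers (g ^ r)) := IsPGroup.of_card (n := 1) (by
      rw [Nat.card_zpowers, h2, pow_one])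
    obtain ⟨Q, hQ⟩ := hP.exists_le_sylow
    obtain ⟨c, hc⟩ := MulAction.exists_smul_eq N Q T
    set i := c * g ^ r * c⁻¹
    have hiT : i ∈ (T : Subgroup N) := by
      rw [← hc, Sylow.coe_subgroup_smul]
      exact ⟨g ^ r, hQ (mem_zpowers _), rfl⟩
    have hi1 : i ≠ 1 := fun e => by
      rw [conj_eq_one_iff] at e; rw [e, orderOf_one] at h2; omega
    have hconj : ∀ {w v : N} (k : N), orderOf w = r → Commute w v →
        orderOf (k * w * k⁻¹) = r ∧ Commute (k * w * k⁻¹) (k * v * k⁻¹) := fun {w v} k hw hc =>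
      ⟨by rw [show k * w * k⁻¹ = MulAut.conj k w from rfl, MulEquiv.orderOf_eq, hw],
        (Commute.conj_iff k).2 hc⟩
    have hbase : ∃ w, orderOf w = r ∧ Commute w i :=
      ⟨_, hconj c hr ((Commute.refl g).pow_pow 2 r)⟩
    have hsw : ∃ w, orderOf w = r ∧ Commute w s := by
      obtain ⟨w, hw, hwi⟩ := hbase
      rcases hall i hiT with e | e | e | e
      · exact absurd e hi1
      · exact ⟨w, hw, e ▸ hwi⟩
      · have := hconj y⁻¹ hw hwi
        rw [show y⁻¹ * i * y⁻¹⁻¹ = s by rw [e, hs₁]; group] at this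
        exact ⟨_, this⟩
      · have := hconj (y * y)⁻¹ hw hwi
        rw [show (y * y)⁻¹ * i * (y * y)⁻¹⁻¹ = s by rw [e, hs₂, hs₁]; group] at this
        exact ⟨_, this⟩
    intro t ht ht1
    obtain ⟨w, hw, hws⟩ := hsw
    rcases hall t ht with e | e | e | e
    · exact absurd e ht1
    · exact ⟨w, hw, e ▸ hws⟩
    · have := hconj y hw hws
      rw [← hs₁, ← e] at this
      exact ⟨_, this⟩
    · have := hconj (y * y) hw hws
      rw [show y * y * s * (y * y)⁻¹ = t by rw [e, hs₂, hs₁]; group] at this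
      exact ⟨_, this⟩
  have hTcomm : ∀ a ∈ (T : Subgroup N), ∀ b ∈ (T : Subgroup N), a * b = b * a := fun a ha b hb =>
    hN.two_group_comm T.isPGroup' ha hb
  have hTsq : ∀ a ∈ (T : Subgroup N), a * a = 1 := fun a ha => hN.two_group_sq T.isPGroup' ha
  -- a group of order `r` in each centraliser
  have hsmall : ∀ (K : Subgroup N), IsPGroup r K → Nat.card K ≤ r := by
    intro K hK
    obtain ⟨k, hk⟩ := hK.exists_card_eq
    rw [hk]
    refine (Nat.pow_le_pow_right h.prime.pos (?_ : k ≤ 1)).trans_eq (pow_one r)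
    by_contra hk2
    exact hr2 ((pow_dvd_pow r (by omega)).trans (hk ▸ K.card_subgroup_dvd_card))
  have hthetar : ∀ t ∈ (T : Subgroup N), t ≠ 1 → IsPGroup r (theta t) := fun t ht ht1 k =>
    ⟨1, Subtype.ext (by
      simpa using hN.exp_of_cent (hN.orderOf_two T ht ht1) (theta_odd t) (theta_le t) k.2)⟩
  have hmem : ∀ t ∈ (T : Subgroup N), t ≠ 1 → ∀ w : N, Odd (orderOf w) → Commute w t → w ∈ theta t := by
    intro t ht ht1 w hw hc
    have hwC : w ∈ centralizer ({t} : Set N) := mem_centralizer_singleton_iff.2 hc.eq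
    refine ⟨⟨w, hwC⟩, ?_, rfl⟩
    have hTC : (T : Subgroup N) ≤ centralizer ({t} : Set N) := hN.le_cent T ht
    refine mem_core_of_four (hN.cent_solvable (hN.orderOf_two T ht ht1)) (T.subtype hTC)
      (fun a ha b hb => Subtype.ext (hTcomm a ha b hb))
      ((Nat.card_congr (subgroupOfEquivOfLe hTC).toEquiv).trans hTc)
      (fun a ha => Subtype.ext (hTsq a ha)) (s := ⟨t, hTC ht⟩) ht
      (fun e => ht1 (congrArg Subtype.val e)) ?_ (Subtype.ext hc.eq)
    rw [← Subgroup.orderOf_coe]; exact hw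
  have hroot : ∀ t ∈ (T : Subgroup N), t ≠ 1 → ∀ w : N, orderOf w = r → Commute w t → theta t = zpowers w := by
    intro t ht ht1 w hw hc
    exact (eq_of_le_of_card_ge (zpowers_le.2 (hmem t ht ht1 w (hw ▸ h.odd_r) hc))
      (by rw [Nat.card_zpowers, hw]; exact hsmall _ (hthetar t ht ht1))).symm
  -- `x` centralises them
  have hxw : ∀ t ∈ (T : Subgroup N), t ≠ 1 → ∀ w : N, orderOf w = r → Commute w t → Commute x (w : G) := by
    intro t ht ht1 w hw hc
    set K := (theta t).map N.subtype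
    have hKx : ∀ k ∈ K, x * k * x⁻¹ ∈ K := by
      rintro _ ⟨k, hk, rfl⟩
      refine ⟨MulAut.conjNormal x k, hmem t ht ht1 _ ?_ ?_, MulAut.conjNormal_apply _ _⟩
      · rw [MulEquiv.orderOf_eq]
        exact (theta_odd t).of_dvd_nat ((theta t).orderOf_dvd_natCard hk)
      · refine Subtype.ext ?_
        push_cast
        rw [MulAut.conjNormal_apply]
        have hk' : Commute (k : G) (t : G) := congrArg Subtype.val (mem_centralizer_singleton_iff.1 (theta_le t hk))
        have hxt' : Commute x (t : G) := hxS _ ht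
        exact ((hxt'.mul_left hk').mul_left hxt'.inv_left).eq
    refine commute_of_card_lt h.prime hxr K hKx ?_ ⟨w, hmem t ht ht1 w (hw ▸ h.odd_r) hc, rfl⟩
    rw [card_map_of_injective N.subtype_injective]
    have := hsmall _ (hthetar t ht ht1)
    omega
  -- inside the centraliser of `x` two of them coincide
  obtain ⟨wa, hwa, hca⟩ := hwit s hs hs1
  obtain ⟨wb, hwb, hcb⟩ := hwit s₁ hs₁T e1
  set H := (centralizer ({x} : Set G)).subgroupOf N
  have hHs : Group.IsSolvable H := (hN.subgroup H).solvable_of_primes fun q hq hd => by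
    haveI : Fact q.Prime := ⟨hq⟩
    obtain ⟨c, hc⟩ := exists_prime_orderOf_dvd_card' q hd
    rw [← Subgroup.orderOf_coe, ← Subgroup.orderOf_coe] at hc
    exact h.prime_of_commute_r hq hxo hc (mem_centralizer_singleton_iff.1 (mem_subgroupOf.1 c.2)).symm
  have hTH : (T : Subgroup N) ≤ H := fun a ha =>
    mem_subgroupOf.2 (mem_centralizer_singleton_iff.2 (hxS _ ha).eq.symm)
  have hmemH : ∀ t ∈ (T : Subgroup N), t ≠ 1 → ∀ w : N, orderOf w = r → Commute w t →
      w ∈ (Cfsg.oddCore H).map H.subtype := by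
    intro t ht ht1 w hw hc
    have hwH : w ∈ H :=
      mem_subgroupOf.2 (mem_centralizer_singleton_iff.2 (hxw t ht ht1 w hw hc).eq.symm)
    exact ⟨⟨w, hwH⟩, mem_core_of_four hHs (T.subtype hTH) (fun a ha b hb => Subtype.ext (hTcomm a ha b hb))
      ((Nat.card_congr (subgroupOfEquivOfLe hTH).toEquiv).trans hTc)
      (fun a ha => Subtype.ext (hTsq a ha)) (s := ⟨t, hTH ht⟩) ht (fun e => ht1 (congrArg Subtype.val e))
      (by rw [← Subgroup.orderOf_coe]; exact hw ▸ h.odd_r) (Subtype.ext hc.eq), rfl⟩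
  set K := (Cfsg.oddCore H).map H.subtype
  have hKodd : Odd (Nat.card K) := by
    rw [card_map_of_injective H.subtype_injective]; exact InvChar.Core.odd_card_oddCore
  have hKr : IsPGroup r K := by
    refine IsPGroup.of_card (n := (Nat.card K).primeFactorsList.length)
      (Nat.eq_prime_pow_of_unique_prime_dvd Nat.card_pos.ne' fun {q} hq hqd => ?_)
    haveI : Fact q.Prime := ⟨hq⟩
    obtain ⟨c, hc⟩ := exists_prime_orderOf_dvd_card' q hqd
    rw [← Subgroup.orderOf_coe, ← Subgroup.orderOf_coe] at hc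
    have hcH : (c : N) ∈ H := map_subtype_le _ c.2
    rcases h.prime_of_commute_r hq hxo hc (mem_centralizer_singleton_iff.1 (mem_subgroupOf.1 hcH)).symm with k | k
    · subst k
      exact absurd (even_iff_two_dvd.2 hqd) (Nat.not_even_iff_odd.2 hKodd)
    · exact k
  have hwab : wa ∈ zpowers wb := by
    rw [eq_of_le_of_card_ge (zpowers_le.2 (hmemH s₁ hs₁T e1 wb hwb hcb))
      (by rw [Nat.card_zpowers, hwb]; exact hsmall K hKr)]
    exact hmemH s hs hs1 wa hwa hca
  -- so `wa` centralises `T`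
  have hwaT : ∀ a ∈ (T : Subgroup N), Commute wa a := by
    obtain ⟨i, hi⟩ := mem_zpowers_iff.1 hwab
    have hc1 : Commute wa s₁ := hi ▸ hcb.zpow_left i
    have hss : s * s₁ = s₂ := by
      rcases hall (s * s₁) (mul_mem hs hs₁T) with e | e | e | e
      · exfalso
        exact d1 (by rw [← inv_eq_of_mul_eq_one_right e, inv_eq_of_mul_eq_one_right (hTsq s hs)])
      · exact absurd (mul_eq_left.1 e) e1
      · exact absurd (mul_eq_right.1 e) hs1
      · exact e
    intro a ha
    rcases hall a ha with rfl | rfl | rfl | rfl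
    exacts [Commute.one_right _, hca, hc1, hss ▸ hca.mul_right hc1]
  -- then every centraliser of an involution is abelian
  have hKs : theta s = zpowers wa := hroot s hs hs1 wa hwa hca
  have hCs : ∀ c ∈ centralizer ({s} : Set N), ∃ a ∈ (T : Subgroup N), ∃ i : ℤ, c = a * wa ^ i := by
    intro c hc
    have hcc : Commute c s := mem_centralizer_singleton_iff.1 hc
    have hc2r : c ^ (2 * r) = 1 := by
      rcases Nat.even_or_odd (orderOf c) with he | ho
      · rcases hN.even_order _ (even_iff_two_dvd.1 he) with k | k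
        · rw [pow_mul, ← k, pow_orderOf_eq_one, one_pow]
        · rw [← k, pow_orderOf_eq_one]
      · rw [mul_comm, pow_mul, hN.pow_r_of_commute (hN.orderOf_two T hs hs1) hcc ho, one_pow]
    obtain ⟨j, hj⟩ := h.odd_r
    have hd : Odd (orderOf (c ^ 2)) := h.odd_r.of_dvd_nat (orderOf_dvd_of_pow_eq_one (by rw [← pow_mul, hc2r]))
    obtain ⟨i, hi⟩ := mem_zpowers_iff.1 (hKs ▸ hmem s hs hs1 _ hd (hcc.pow_left 2))
    -- the involution part lies in `T`
    set v := c ^ r with hv
    have hv2 : v * v = 1 := by rw [hv, ← pow_add, ← two_mul]; exact hc2r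
    have hvT : v ∈ (T : Subgroup N) := by
      obtain ⟨hTn, -⟩ := hN.cent_quotient T hs hs1
      set f := QuotientGroup.mk' (Cfsg.oddCore (centralizer ({s} : Set N)))
      have hvC : v ∈ centralizer ({s} : Set N) := pow_mem hc r
      have hf : Function.Surjective f := QuotientGroup.mk'_surjective _
      set Tq : Sylow 2 (centralizer ({s} : Set N) ⧸ Cfsg.oddCore (centralizer ({s} : Set N))) :=
        (T.subtype (hN.le_cent T hs)).mapSurjective hf
      haveI : (Tq : Subgroup (centralizer ({s} : Set N) ⧸ Cfsg.oddCore (centralizer ({s} : Set N)))).Normal := hTn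
      have hP : IsPGroup 2 (zpowers (f ⟨v, hvC⟩)) := by
        rintro ⟨_, i', rfl⟩
        refine ⟨1, Subtype.ext ?_⟩
        push_cast
        rw [← zpow_natCast, zpow_comm, zpow_natCast, ← map_pow,
          show (⟨v, hvC⟩ : centralizer ({s} : Set N)) ^ 2 = 1 from Subtype.ext (by simpa [pow_two] using hv2),
          map_one, one_zpow]
      obtain ⟨⟨b, hbC⟩, hbT, eb⟩ : f ⟨v, hvC⟩ ∈ (Tq : Subgroup (centralizer ({s} : Set N) ⧸ Cfsg.oddCore (centralizer ({s} : Set N)))) := by
        rw [← Tq.is_maximal' (hP.to_sup_of_normal_right Tq.isPGroup') le_sup_right]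
        exact mem_sup_left (mem_zpowers _)
      have hbT' : b ∈ (T : Subgroup N) := hbT
      have hk : b⁻¹ * v ∈ theta s := ⟨⟨b, hbC⟩⁻¹ * ⟨v, hvC⟩, (QuotientGroup.eq_one_iff _).1 (by
        show f _ = 1
        rw [map_mul, map_inv, show f ⟨b, hbC⟩ = f ⟨v, hvC⟩ from eb, inv_mul_cancel]), rfl⟩
      have hcomm : Commute b (b⁻¹ * v) := by
        obtain ⟨i', hi'⟩ := mem_zpowers_iff.1 (hKs ▸ hk)
        exact hi' ▸ ((hwaT b hbT').symm.zpow_right i')
      have hk2 : (b⁻¹ * v) ^ 2 = 1 := by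
        have : (b * (b⁻¹ * v)) ^ 2 = 1 := by rw [mul_inv_cancel_left, pow_two, hv2]
        rwa [hcomm.mul_pow, pow_two b, hTsq b hbT', one_mul] at this
      have h3 := pow_gcd_eq_one.2 ⟨hk2, orderOf_dvd_iff_pow_eq_one.1 ((theta s).orderOf_dvd_natCard hk)⟩
      rw [(Nat.coprime_two_left.2 (theta_odd s)).gcd_eq_one, pow_one, inv_mul_eq_one] at h3
      exact h3 ▸ hbT'
    refine ⟨v, hvT, -(i * j), ?_⟩
    rw [zpow_neg, zpow_mul, hi, zpow_natCast, ← pow_mul, eq_mul_inv_iff_mul_eq, hv, hj, pow_succ']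
  have hab : ∀ i : N, orderOf i = 2 → IsMulCommutative (centralizer ({i} : Set N)) := by
    intro i hi
    have hP : IsPGroup 2 (zpowers i) := IsPGroup.of_card (n := 1) (by rw [Nat.card_zpowers, hi, pow_one])
    obtain ⟨Q, hQ⟩ := hP.exists_le_sylow
    obtain ⟨c, hc⟩ := MulAction.exists_smul_eq N Q T
    have hiT : c * i * c⁻¹ ∈ (T : Subgroup N) := by
      rw [← hc, Sylow.coe_subgroup_smul]
      exact ⟨i, hQ (mem_zpowers _), rfl⟩
    have hi1 : c * i * c⁻¹ ≠ 1 := fun e => by
      rw [conj_eq_one_iff] at e; rw [e, orderOf_one] at hi; omega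
    obtain ⟨d, hd⟩ : ∃ d : N, d * i * d⁻¹ = s := by
      rcases hall _ hiT with e | e | e | e
      · exact absurd e hi1
      · exact ⟨c, e⟩
      · exact ⟨y⁻¹ * c, by
          rw [show y⁻¹ * c * i * (y⁻¹ * c)⁻¹ = y⁻¹ * (c * i * c⁻¹) * y by group, e, hs₁]; group⟩
      · exact ⟨(y * y)⁻¹ * c, by
          rw [show (y * y)⁻¹ * c * i * ((y * y)⁻¹ * c)⁻¹ = (y * y)⁻¹ * (c * i * c⁻¹) * (y * y) by simp [mul_assoc], e,
            hs₂, hs₁]; group⟩
    refine ⟨⟨fun a b => Subtype.ext ?_⟩⟩
    have hmap : ∀ a ∈ centralizer ({i} : Set N), d * a * d⁻¹ ∈ centralizer ({s} : Set N) := fun a ha => by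
      rw [mem_centralizer_singleton_iff] at ha ⊢
      rw [← hd]
      calc d * a * d⁻¹ * (d * i * d⁻¹) = d * (a * i) * d⁻¹ := by group
        _ = d * i * d⁻¹ * (d * a * d⁻¹) := by rw [ha]; group
    obtain ⟨a₁, ha₁, i₁, ea⟩ := hCs _ (hmap a a.2)
    obtain ⟨a₂, ha₂, i₂, eb⟩ := hCs _ (hmap b b.2)
    have hcomm : Commute (a₁ * wa ^ i₁) (a₂ * wa ^ i₂) :=
      Commute.mul_left
        (Commute.mul_right (hTcomm a₁ ha₁ a₂ ha₂) ((hwaT a₁ ha₁).symm.zpow_right i₂))
        (Commute.mul_right ((hwaT a₂ ha₂).zpow_left i₁) ((Commute.refl wa).zpow_zpow i₁ i₂))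
    rw [← ea, ← eb, Commute.conj_iff] at hcomm
    exact hcomm.eq
  have heven : Even (Nat.card N) := even_iff_two_dvd.2
    (hN.orderOf_two T hs hs1 ▸ orderOf_dvd_natCard s)
  rcases Cfsg.Agent.S2202.result heven hab with hc | hn | ⟨F', _, _, A, _, _, hchar, hA, ⟨e⟩⟩
  · haveI := hc T
    obtain ⟨z, hz⟩ := IsCyclic.exists_ofOrder_eq_natCard (α := (T : Subgroup N))
    have : orderOf z ≤ 2 := Nat.le_of_dvd two_pos
      (orderOf_dvd_of_pow_eq_one (Subtype.ext (by simpa [pow_two] using hTsq z z.2)))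
    omega
  · have := hN.two_core_eq_bot hNs (hn T) T.isPGroup'
    rw [this, Subgroup.card_bot] at hTc
    omega
  haveI := hchar
  have hq : (e wa).1 * (e wa).1 = 1 := by
    have hs2 : (e s).2 = 1 := by
      have h1 : (e s).2 ^ 2 = 1 := by rw [← Prod.pow_snd, ← map_pow, pow_two, hTsq s hs, map_one]; rfl
      have h2 := pow_gcd_eq_one.2 ⟨h1, pow_card_eq_one' (x := (e s).2)⟩
      rwa [(Nat.coprime_two_left.2 hA).gcd_eq_one, pow_one] at h2
    refine sl_two_sq (e s).1 (e wa).1 ?_ (fun e0 => hs1 (e.injective ?_)) ?_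
    · rw [← Prod.fst_mul, ← map_mul, hTsq s hs, map_one]; rfl
    · rw [map_one]; exact Prod.ext e0 hs2
    · rw [← Prod.fst_mul, ← Prod.fst_mul, ← map_mul, ← map_mul, hca.eq]
  set L := ((MonoidHom.inr (Matrix.SpecialLinearGroup (Fin 2) F') A).range).map e.symm.toMonoidHom
  have hLn : L.Normal := Subgroup.Normal.map ⟨by
    rintro _ ⟨c, rfl⟩ ⟨g₁, g₂⟩
    exact ⟨g₂ * c * g₂⁻¹, by simp⟩⟩ _ e.symm.surjective
  have hLodd : Odd (Nat.card L) := by
    rw [card_map_of_injective e.symm.injective,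
      ← Nat.card_congr (MonoidHom.ofInjective (f := MonoidHom.inr (Matrix.SpecialLinearGroup (Fin 2) F') A)
        fun a b hab => congrArg Prod.snd hab).toEquiv]
    exact hA
  have hL : L = ⊥ := le_bot_iff.1 (hN.oddCore_eq_bot hNs ▸ InvChar.Core.le_oddCore hLn hLodd)
  have hA1 : (e wa).2 = 1 := by
    have h1 : e.symm (1, (e wa).2) ∈ L := ⟨(1, (e wa).2), ⟨_, rfl⟩, rfl⟩
    rw [hL, Subgroup.mem_bot, ← map_one e.symm] at h1
    exact congrArg Prod.snd (e.symm.injective h1)
  have h2 : wa * wa = 1 := e.injective (by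
    rw [map_mul, map_one]; exact Prod.ext hq (by simp [hA1]))
  exact h.ne_two ((Nat.prime_dvd_prime_iff_eq h.prime Nat.prime_two).1
    (hwa ▸ orderOf_dvd_of_pow_eq_one (by rw [pow_two]; exact h2)))

/-- The groups with an element of order `2r`. -/
theorem psl_of_two_r (hns : ¬ Group.IsSolvable G) (h2r : ∃ g : G, orderOf g = 2 * r) :
    ∃ (F : Type) (_ : Field F) (_ : Fintype F), 5 < Fintype.card F ∧
      (Fintype.card F % 8 = 3 ∨ Fintype.card F % 8 = 5) ∧
      Nonempty (G ≃* Matrix.ProjectiveSpecialLinearGroup (Fin 2) F) := by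
  classical
  haveI : Fact (Nat.Prime 2) := ⟨Nat.prime_two⟩
  obtain ⟨N, hNn, hNsim, hNs, hCN⟩ := h.exists_socle hns
  obtain ⟨S⟩ : Nonempty (Sylow 2 G) := inferInstance
  by_cases h8 : 8 ≤ Nat.card (S : Subgroup G)
  · exact (h.not_big hns h2r hNn hNsim hNs S h8).elim
  have h4 := h.four_le_card hns S
  obtain ⟨a, ha⟩ := S.isPGroup'.exists_card_eq
  have hS : Nat.card (S : Subgroup G) = 4 := by
    rw [ha] at h4 h8 ⊢
    have h2 : a = 2 := by
      by_contra hne
      rcases Nat.lt_or_ge a 2 with l | l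
      · have : 2 ^ a ≤ 2 ^ 1 := Nat.pow_le_pow_right (by norm_num) (by omega)
        omega
      · have : 2 ^ 3 ≤ 2 ^ a := Nat.pow_le_pow_right (by norm_num) (by omega)
        omega
    rw [h2]; norm_num
  have hN : N = ⊤ := h.socle_eq_top hns hNn hNsim hNs hCN S hS
  subst hN
  haveI : IsSimpleGroup G := MulEquiv.isSimpleGroup (topEquiv (G := G)).symm
  obtain ⟨F, iF, iT, h5, hmod, -, e⟩ := h.psl_of_four hns h2r S hS
  exact ⟨F, iF, iT, h5, hmod, e⟩

end Hyp

end Cfsg.Agent.ThreeOrders
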