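import Mathlib
import Cfsg.Agent.Lib.AtMostOneComposite.Main
import Cfsg.Agent.Lib.ThreeOrders.Extend

/-!
A non-solvable group in which no prime divides three element orders and some element has order `2r`
(`r` an odd prime) is `PSL₂(q)`, `q ≡ 3, 5 (mod 8)`.
-/

set_option autoImplicit false

namespace Cfsg.Agent.ThreeOrders

universe u

theorem hyp_of_noThreeOrders {G : Type u} [Group G] [Finite G]
    (h3 : AtMostOneComposite.NoThreeOrders G) {g : G} {r : ℕ} (hr : r.Prime) (hr2 : r ≠ 2)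
    (hg : orderOf g = 2 * r) : Hyp G r := by
  have h2 : orderOf (g ^ r) = 2 := by
    rw [orderOf_pow_of_dvd hr.ne_zero (hg ▸ dvd_mul_left r 2), hg, Nat.mul_div_cancel _ hr.pos]
  have hr' : orderOf (g ^ 2) = r := by
    rw [orderOf_pow_of_dvd two_ne_zero (hg ▸ dvd_mul_right 2 r), hg, Nat.mul_div_cancel_left _ two_pos]
  refine ⟨hr, hr2, fun x hx => ?_, fun x hx => ?_⟩
  · by_contra hne
    push Not at hne
    refine h3 2 Nat.prime_two x (g ^ r) g (h2 ▸ hne.1) ?_ (hg ▸ hne.2) ⟨hx, h2 ▸ dvd_rfl, hg ▸ dvd_mul_right 2 r⟩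
    rw [h2, hg]
    have := hr.two_le
    omega
  · by_contra hne
    push Not at hne
    refine h3 r hr x (g ^ 2) g (hr' ▸ hne.1) ?_ (hg ▸ hne.2) ⟨hx, hr' ▸ dvd_rfl, hg ▸ dvd_mul_left r 2⟩
    rw [hr', hg]
    have := hr.two_le
    omega

/-- The case of an element of order `2r`. -/
theorem twoR_case : AtMostOneComposite.TwoRCase.{u} := by
  intro H _ _ hns h3 ⟨g, r, hr, hr2, hg⟩
  exact (hyp_of_noThreeOrders h3 hr hr2 hg).psl_of_two_r hns ⟨g, hg⟩

end Cfsg.Agent.ThreeOrders
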